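import Cfsg.Agent.Lib.HaradaE8.Tools
import Cfsg.Prelude.Def_CaseTheorems
import Mathlib.GroupTheory.Sylow

/-!
# Sectional 2-rank is computed in a Sylow 2-subgroup
-/

set_option autoImplicit false
set_option linter.style.haveILetI false

namespace Cfsg.Lib.HaradaE8

open Subgroup

open scoped Pointwise

universe u

variable {G : Type u} [Group G] [Finite G]

/-- An index bound for elementary sections of a Sylow 2-subgroup bounds the sectional 2-rank. -/
theorem sectional_of_bound (S : Sylow 2 G)
    (hb : ∀ L N : Subgroup ↥(S : Subgroup G), N ≤ L → SqIn L N → N.relIndex L ≤ 16) :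
    Cfsg.SectionalPRankLE 2 4 G := by
  haveI : Fact (Nat.Prime 2) := ⟨Nat.prime_two⟩
  intro H K _ E _ hE2
  let π := QuotientGroup.mk' K
  let L : Subgroup G := (E.comap π).map H.subtype
  let e := (E.comap π).equivMapOfInjective H.subtype H.subtype_injective
  let f : ↥(E.comap π) →* ↥E :=
    { toFun := fun x => ⟨π x.1, x.2⟩
      map_one' := Subtype.ext (map_one π)
      map_mul' := fun a b => Subtype.ext (map_mul π a.1 b.1) }
  have hf : Function.Surjective f := by
    rintro ⟨y, hy⟩
    obtain ⟨x, rfl⟩ := QuotientGroup.mk'_surjective K y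
    exact ⟨⟨x, hy⟩, rfl⟩
  let ψ : ↥L →* ↥E := f.comp e.symm.toMonoidHom
  have hψ : Function.Surjective ψ := hf.comp e.symm.surjective
  obtain ⟨P⟩ : Nonempty (Sylow 2 L) := inferInstance
  have hEp : IsPGroup 2 E := fun x => ⟨1, Subtype.ext (by rw [pow_one]; exact hE2 _ x.2)⟩
  have htop : (P : Subgroup L).map ψ = ⊤ :=
    ((P.mapSurjective hψ).is_maximal' (hEp.to_subgroup ⊤) le_top).symm
  obtain ⟨R, hR⟩ := (P.isPGroup'.map L.subtype).exists_le_sylow
  obtain ⟨a, ha⟩ := MulAction.exists_smul_eq G R S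
  let ι : ↥(P : Subgroup L) →* ↥(S : Subgroup G) :=
    ((MulAut.conj a).toMonoidHom.comp (L.subtype.comp (P : Subgroup L).subtype)).codRestrict _
      (fun p => by
        rw [← ha, Sylow.coe_subgroup_smul]
        exact Subgroup.smul_mem_pointwise_smul _ _ _ (hR ⟨p, p.2, rfl⟩))
  have hι : Function.Injective ι := fun p q hpq => by
    have h1 := congrArg (fun z : ↥(S : Subgroup G) => (z : G)) hpq
    exact Subtype.ext (Subtype.ext ((MulAut.conj a).injective h1))
  let φ : ↥ι.range →* ↥E :=
    (ψ.comp (P : Subgroup L).subtype).comp (MonoidHom.ofInjective hι).symm.toMonoidHom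
  have hφ : Function.Surjective φ := by
    intro z
    obtain ⟨p, hp, hpz⟩ := htop.ge (mem_top z)
    exact ⟨MonoidHom.ofInjective hι ⟨p, hp⟩, by simpa [φ] using hpz⟩
  have h16 := hb ι.range (φ.ker.map ι.range.subtype) (map_subtype_le _)
    (fun x hx => ⟨⟨x, hx⟩ ^ 2, by
      rw [SetLike.mem_coe, MonoidHom.mem_ker, map_pow]
      exact Subtype.ext (hE2 _ (φ ⟨x, hx⟩).2), rfl⟩)
  rw [relIndex, subgroupOf, comap_map_eq_self_of_injective ι.range.subtype_injective, index_ker,
    MonoidHom.range_eq_top.2 hφ, card_top] at h16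
  exact h16

end Cfsg.Lib.HaradaE8
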