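import Cfsg.Agent.Lib.HaradaE8.Cyclic
import Cfsg.Agent.Lib.MacWilliams.Main
import Cfsg.Prelude.Def_CaseTheorems

/-!
# Harada: 2-groups with a self-centralizing elementary abelian subgroup of order eight

Every section of such a group has rank at most four.
-/

set_option autoImplicit false
set_option linter.style.haveILetI false

namespace Cfsg.Lib.HaradaE8

open Subgroup

universe u

variable {S : Type u} [Group S] [Finite S]

theorem card_eq_eight_cases {n : ℕ} (h : n ∣ 8) : n = 1 ∨ n = 2 ∨ n = 4 ∨ n = 8 := by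
  have hn := Nat.le_of_dvd (by norm_num) h
  interval_cases n <;> omega

theorem card_ge_of_five {K : Subgroup S} {s t r q : S} (h1 : (1 : S) ∈ K) (hs : s ∈ K) (ht : t ∈ K) (hr : r ∈ K)
    (hq : q ∈ K) (hne : ([1, s, t, r, q] : List S).Nodup) : 5 ≤ Nat.card K := by
  classical
  haveI : Fintype K := Fintype.ofFinite K
  let l : List K := [⟨1, h1⟩, ⟨s, hs⟩, ⟨t, ht⟩, ⟨r, hr⟩, ⟨q, hq⟩]
  have hl : l.Nodup := by
    apply List.Nodup.of_map (fun a : K => (a : S))
    simpa [l] using hne
  have := hl.length_le_card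
  rwa [← Nat.card_eq_fintype_card] at this

/-- The fixed points of an involution on a normal elementary abelian subgroup of order eight. -/
theorem four_le_fixed (B : Subgroup S) [hBn : B.Normal] (hB8 : Nat.card B = 8) (hB2 : ∀ p ∈ B, p * p = 1)
    {x : S} (hxx : x * x = 1) (hxB : x ∉ centralizer (B : Set S)) :
    Nat.card ↥(B ⊓ centralizer ({x} : Set S)) = 4 := by
  set K := B ⊓ centralizer ({x} : Set S) with hK
  have hKB : K ≤ B := inf_le_left
  have hxi : x⁻¹ = x := inv_eq_of_mul_eq_one_right hxx
  have hcm : ∀ p ∈ B, ∀ q ∈ B, p * q = q * p := fun p hp q hq => by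
    have e : ∀ t ∈ B, t⁻¹ = t := fun t ht => inv_eq_of_mul_eq_one_right (hB2 t ht)
    rw [← e _ (mul_mem hp hq), mul_inv_rev, e p hp, e q hq]
  have hcj : ∀ p ∈ B, x * p * x ∈ B := fun p hp => by
    have := hBn.conj_mem p hp x
    rwa [hxi] at this
  have hval : ∀ p ∈ B, p * (x * p * x) ∈ K := by
    intro p hp
    refine ⟨mul_mem hp (hcj p hp), mem_centralizer_singleton_iff.2 ?_⟩
    symm
    calc x * (p * (x * p * x)) = (x * p * x) * p * x := by group
      _ = p * (x * p * x) * x := by rw [hcm _ (hcj p hp) p hp]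
  let f : B →* K :=
    { toFun := fun p => ⟨(p : S) * (x * p * x), hval p p.2⟩
      map_one' := Subtype.ext (show (1 : S) * (x * 1 * x) = 1 by rw [mul_one, one_mul, hxx])
      map_mul' := fun p q => Subtype.ext (by
        show (p : S) * q * (x * ((p : S) * q) * x) = p * (x * p * x) * (q * (x * q * x))
        calc (p : S) * q * (x * ((p : S) * q) * x)
            = p * (q * (x * p * x)) * (x⁻¹ * q * x) := by group
          _ = p * ((x * p * x) * q) * (x⁻¹ * q * x) := by rw [hcm _ q.2 _ (hcj p p.2)]
          _ = _ := by rw [hxi]; group) }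
  have hker : f.ker = K.subgroupOf B := by
    ext p
    rw [MonoidHom.mem_ker, mem_subgroupOf]
    constructor
    · intro h
      refine ⟨p.2, mem_centralizer_singleton_iff.2 ?_⟩
      have h' : (p : S) * (x * p * x) = 1 := congrArg Subtype.val h
      have h2 : x * p * x = p := by
        rw [← inv_eq_of_mul_eq_one_right h', inv_eq_of_mul_eq_one_right (hB2 p p.2)]
      calc (p : S) * x = x * p * x * x := by rw [h2]
        _ = x * p := by rw [mul_assoc (x * (p : S)), hxx, mul_one]
    · rintro ⟨-, h'⟩
      have h := mem_centralizer_singleton_iff.1 h'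
      apply Subtype.ext
      show (p : S) * (x * p * x) = 1
      rw [← h, mul_assoc _ x x, hxx, mul_one, hB2 p p.2]
  have h1 := card_mul_index f.ker
  rw [index_ker, hB8, hker, Nat.card_congr (subgroupOfEquivOfLe hKB).toEquiv] at h1
  have h2 : Nat.card f.range ≤ Nat.card K := Nat.le_of_dvd Nat.card_pos (card_subgroup_dvd_card _)
  have h3 := card_dvd_of_le hKB
  rw [hB8] at h3
  rcases card_eq_eight_cases h3 with e | e | e | e
  · rw [e] at h1 h2; omega
  · rw [e] at h1 h2; omega
  · exact e
  · exfalso
    apply hxB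
    have hKe : K = B := eq_of_le_of_card_ge hKB (by rw [e, hB8])
    refine mem_centralizer_iff.2 fun p hp => ?_
    rw [← hKe] at hp
    exact mem_centralizer_singleton_iff.1 hp.2

variable (A : Subgroup S) (hA2 : ∀ a ∈ A, a * a = 1) (hA8 : Nat.card A = 8)
  (hCA : centralizer (A : Set S) = A)

include hA2 hA8 hCA

theorem exists_cfg (hS : IsPGroup 2 S) (B : Subgroup S) [hBn : B.Normal] (hB8 : Nat.card B = 8)
    (hB2 : ∀ p ∈ B, p * p = 1) (hne : ¬ A ≤ B) : Nonempty (Cfg S) := by
  classical
  haveI : Fact (Nat.Prime 2) := ⟨Nat.prime_two⟩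
  have hAc : ∀ p ∈ A, ∀ q ∈ A, p * q = q * p := fun p hp q hq => by
    have h : p ∈ centralizer (A : Set S) := by rw [hCA]; exact hp
    exact (mem_centralizer_iff.1 h q hq).symm
  have hmemA : ∀ m : S, (∀ p ∈ A, m * p = p * m) → m ∈ A := fun m h => by
    rw [← hCA]; exact mem_centralizer_iff.2 fun p hp => (h p hp).symm
  have hAi : ∀ p ∈ A, p⁻¹ = p := fun p hp => inv_eq_of_mul_eq_one_right (hA2 p hp)
  have hBc : ∀ p ∈ B, ∀ q ∈ B, p * q = q * p := fun p hp q hq => by
    have e : ∀ t ∈ B, t⁻¹ = t := fun t ht => inv_eq_of_mul_eq_one_right (hB2 t ht)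
    rw [← e _ (mul_mem hp hq), mul_inv_rev, e p hp, e q hq]
  set C := centralizer (B : Set S) with hCdef
  have hC_comm : ∀ c ∈ C, ∀ p ∈ B, c * p = p * c := fun c hc p hp => (mem_centralizer_iff.1 hc p hp).symm
  obtain ⟨z, x2, x3, W, hWn, hWB, hW4, hzW, hz1, hzc, hx2, hx21, hzx2, -, -⟩ := exists_flag hS B hB8
  have hzall : ∀ g : S, g * z = z * g := fun g => mul_inv_eq_iff_eq_mul.1 (hzc g)
  have hzA : z ∈ A := hmemA z fun p _ => (hzall p).symm
  have hzB : z ∈ B := hWB hzW
  rcases card_eq_eight_cases (hA8 ▸ card_dvd_of_le (inf_le_left : A ⊓ B ≤ A)) with e | e | e | e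
  · exact absurd (by
      have := (Subgroup.eq_bot_of_card_eq _ e).le (show z ∈ A ⊓ B from ⟨hzA, hzB⟩)
      rwa [mem_bot] at this) hz1
  · -- `A` meets `B` in `{1, z}`
    have hAB : ∀ p, p ∈ A → p ∈ B → p = 1 ∨ p = z := by
      intro p hp hpB
      by_contra h
      push Not at h
      have hle : 3 ≤ Nat.card ↥(A ⊓ B) := by
        haveI : Fintype ↥(A ⊓ B) := Fintype.ofFinite _
        let l : List ↥(A ⊓ B) := [⟨1, one_mem _⟩, ⟨z, hzA, hzB⟩, ⟨p, hp, hpB⟩]
        have hl : l.Nodup := by simp [l, Subtype.ext_iff, Ne.symm hz1, Ne.symm h.1, Ne.symm h.2]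
        have := hl.length_le_card
        rwa [← Nat.card_eq_fintype_card] at this
      omega
    -- choose `x`
    obtain ⟨x, hxA, hxC, hxW⟩ : ∃ x ∈ A, x ∉ C ∧ ¬ W ≤ centralizer ({x} : Set S) := by
      by_contra h
      push Not at h
      have hWA : W ≤ A ⊓ B := by
        intro w hw
        refine ⟨hmemA w fun p hp => ?_, hWB hw⟩
        by_cases hpC : p ∈ C
        · exact (hC_comm p hpC w (hWB hw)).symm
        · exact mem_centralizer_singleton_iff.1 (h p hp hpC hw)
      have := card_dvd_of_le hWA
      rw [hW4, e] at this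
      norm_num at this
    have hxx : x * x = 1 := hA2 x hxA
    set Z := B ⊓ centralizer ({x} : Set S) with hZdef
    have hZ4 : Nat.card Z = 4 := four_le_fixed B hB8 hB2 hxx hxC
    have hZB : Z ≤ B := inf_le_left
    have hZx : ∀ w ∈ Z, x * w = w * x := fun w hw => (mem_centralizer_singleton_iff.1 hw.2).symm
    have hzZ : z ∈ Z := ⟨hzB, mem_centralizer_singleton_iff.2 (hzall x).symm⟩
    obtain ⟨b, hbW, hbx⟩ := SetLike.not_le_iff_exists.1 hxW
    have hbB := hWB hbW
    have hbZ : b ∉ Z := fun h => hbx h.2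
    obtain ⟨w, hwZ, hw1, hwz⟩ : ∃ w ∈ Z, w ≠ 1 ∧ w ≠ z := by
      by_contra h
      push Not at h
      have hle : Z ≤ A ⊓ B := fun w hw => by
        by_cases hw1 : w = 1
        · rw [hw1]; exact one_mem _
        · rw [h w hw hw1]; exact ⟨hzA, hzB⟩
      have := card_dvd_of_le hle
      rw [hZ4, e] at this
      norm_num at this
    have hZA : ¬ (∀ p ∈ A, ∀ t ∈ Z, p * t = t * p) := by
      intro h
      have hle : Z ≤ A ⊓ B := fun t ht => ⟨hmemA t fun p hp => (h p hp t ht).symm, hZB ht⟩
      have := card_dvd_of_le hle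
      rw [hZ4, e] at this
      norm_num at this
    have hAC : ∀ p, p ∈ A → p ∈ C → p = 1 ∨ p = z := by
      intro p hp hpC
      by_contra h
      push Not at h
      set V := A ⊓ C with hV
      have hV4 : Nat.card V = 4 := by
        rcases card_eq_eight_cases (hA8 ▸ card_dvd_of_le (inf_le_left : V ≤ A)) with r | r | r | r
        · exact absurd ((Subgroup.eq_bot_of_card_eq _ r).le (show p ∈ V from ⟨hp, hpC⟩)) (by rw [mem_bot]; exact h.1)
        · exfalso
          haveI : Fintype V := Fintype.ofFinite _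
          have hzC : z ∈ C := mem_centralizer_iff.2 fun t _ => hzall t
          let l : List V := [⟨1, one_mem _⟩, ⟨z, hzA, hzC⟩, ⟨p, hp, hpC⟩]
          have hl : l.Nodup := by simp [l, Subtype.ext_iff, Ne.symm hz1, Ne.symm h.1, Ne.symm h.2]
          have := hl.length_le_card
          rw [← Nat.card_eq_fintype_card, r] at this
          simp [l] at this
        · exact r
        · exfalso
          exact hxC ((eq_of_le_of_card_ge (inf_le_left : V ≤ A) (by rw [r, hA8])).ge hxA).2
      apply hZA
      intro q hq t ht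
      rcases two_cosets (inf_le_left : V ≤ A) (by rw [hA8, hV4]) hxA (fun hh : x ∈ V => hxC hh.2) hq with r | r
      · exact hC_comm q r.2 t (hZB ht)
      · have c1 : Commute (x * q) t := hC_comm _ r.2 t (hZB ht)
        have c2 : Commute x t := hZx t ht
        have := c2.mul_left c1
        rwa [← mul_assoc, hxx, one_mul] at this
    -- `C_C(x) = Z`
    have hM : ∀ c ∈ C, c * x = x * c → c ∈ Z := by
      obtain ⟨y, hyA, t, htZ, hyt⟩ : ∃ y ∈ A, ∃ t ∈ Z, y * t ≠ t * y := by
        by_contra h
        push Not at h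
        exact hZA h
      have hyi := hAi y hyA
      have hxi := hAi x hxA
      -- the fixed points
      have hfix : ∀ c ∈ C, c * x = x * c → y * c * y = c → c = 1 ∨ c = z := by
        intro c hc hcx hcy
        have hcy' : c * y = y * c := by
          calc c * y = y * c * y * y := by rw [hcy]
            _ = y * c := by rw [mul_assoc _ y y, hA2 y hyA, mul_one]
        refine hAC c (hmemA c fun p hp => ?_) hc
        set K := A ⊓ centralizer ({c} : Set S) with hK
        have m : ∀ q ∈ A, c * q = q * c → q ∈ K := fun q hq h => ⟨hq, mem_centralizer_singleton_iff.2 h.symm⟩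
        have h5 : 5 ≤ Nat.card K := by
          refine card_ge_of_five (s := z) (t := x) (r := z * x) (q := y) (one_mem _) (m z hzA (hzall c)) (m x hxA hcx)
            (m _ (mul_mem hzA hxA) ((Commute.mul_right (hzall c) hcx).eq)) (m y hyA hcy') ?_
          have d1 : x ≠ 1 := fun h => hxC (h ▸ one_mem _)
          have d2 : z ≠ x := fun h => hxC (h ▸ mem_centralizer_iff.2 fun r _ => hzall r)
          have d3 : z * x ≠ 1 := fun h => d2 (by rw [eq_inv_of_mul_eq_one_left h, hxi])
          have e1 : (1 : S) ≠ y := fun h => hyt (by rw [← h, one_mul, mul_one])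
          have e2 : z ≠ y := fun h => hyt (by rw [← h]; exact (hzall t).symm)
          have e3 : x ≠ y := fun h => hyt (by rw [← h]; exact hZx t htZ)
          have e4 : z * x ≠ y := fun h => hyt (by
            rw [← h]
            exact (Commute.mul_left (show Commute z t from (hzall t).symm) (hZx t htZ)).eq)
          simp [Ne.symm hz1, Ne.symm d1, d2, Ne.symm d3, e1, e2, e3, e4, hz1, mul_eq_left, d1]
        have hKA : K = A := by
          refine eq_of_le_of_card_ge inf_le_left ?_
          have hd : Nat.card K ∣ Nat.card A := card_dvd_of_le inf_le_left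
          rw [hA8] at hd
          rcases card_eq_eight_cases hd with r | r | r | r <;> omega
        rw [← hKA] at hp
        exact (mem_centralizer_singleton_iff.1 hp.2).symm
      have hyz : y * z * y = z := by rw [hzall y, mul_assoc, hA2 y hyA, mul_one]
      have hyZ : ∀ s ∈ Z, y * s * y ∈ Z := by
        intro s hs
        refine ⟨by have := hBn.conj_mem s (hZB hs) y; rwa [hyi] at this, mem_centralizer_singleton_iff.2 ?_⟩
        have c1 : Commute x y := hAc x hxA y hyA
        have c2 : Commute x s := hZx s hs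
        exact ((c1.mul_right c2).mul_right c1).symm.eq
      have ht' : y * t * y = t * z := by
        rcases four_elems hZ4 (fun s hs => hB2 s (hZB hs)) hzZ htZ hz1
            (fun h => hyt (by rw [h, mul_one, one_mul])) (fun h => hyt (by rw [← h]; exact hzall y))
            _ (hyZ t htZ) with r | r | r | r
        · exfalso; apply hyt
          have : t = 1 := by
            calc t = (y * y) * t * (y * y) := by rw [hA2 y hyA, one_mul, mul_one]
              _ = y * (y * t * y) * y := by group
              _ = 1 := by rw [r, mul_one, hA2 y hyA]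
          rw [this, mul_one, one_mul]
        · exfalso; apply hyt
          have : t = z := by
            calc t = (y * y) * t * (y * y) := by rw [hA2 y hyA, one_mul, mul_one]
              _ = y * (y * t * y) * y := by group
              _ = z := by rw [r, hyz]
          rw [this]; exact hzall y
        · exfalso; apply hyt
          calc y * t = y * t * y * y := by rw [mul_assoc _ y y, hA2 y hyA, mul_one]
            _ = t * y := by rw [r]
        · rw [r, hBc z hzB t (hZB htZ)]
      haveI hCn : C.Normal := Cfsg.Lib.MacWilliams.centralizer_normal B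
      have hyC : ∀ c ∈ C, y * c * y ∈ C := fun c hc => by
        have := hCn.conj_mem c hc y
        rwa [hyi] at this
      have hyx : ∀ c : S, c * x = x * c → (y * c * y) * x = x * (y * c * y) := by
        intro c h
        have c1 : Commute x y := hAc x hxA y hyA
        have c2 : Commute x c := h.symm
        exact ((c1.mul_right c2).mul_right c1).symm.eq
      -- every element is in `Z`
      intro c0 hc0 hc0x
      by_contra hc0Z
      obtain ⟨d, hdC, hdx, hdZ, hp⟩ : ∃ d ∈ C, d * x = x * d ∧ d ∉ Z ∧ d⁻¹ * (y * d * y) ∈ Z := by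
        set g := c0⁻¹ * (y * c0 * y) with hg
        by_cases hgZ : g ∈ Z
        · exact ⟨c0, hc0, hc0x, hc0Z, hgZ⟩
        have hgC : g ∈ C := mul_mem (inv_mem hc0) (hyC c0 hc0)
        have hgx : g * x = x * g :=
          (Commute.mul_left (Commute.inv_left (show Commute c0 x from hc0x)) (hyx c0 hc0x)).eq
        have hginv : y * g * y = g⁻¹ := by
          calc y * g * y = y * c0⁻¹ * y * c0 * (y * y) := by rw [hg]; group
            _ = y⁻¹ * c0⁻¹ * y⁻¹ * c0 := by rw [hyi, hA2 y hyA, mul_one]
            _ = g⁻¹ := by rw [hg]; group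
        obtain ⟨k0, hk0⟩ := hS g
        have hex : ∃ k, g ^ 2 ^ k ∈ Z := ⟨k0, hk0 ▸ one_mem _⟩
        have hpos : Nat.find hex ≠ 0 := fun h => hgZ (by
          have := Nat.find_spec hex
          rwa [h, pow_zero, pow_one] at this)
        obtain ⟨k, hk⟩ := Nat.exists_eq_succ_of_ne_zero hpos
        refine ⟨g ^ 2 ^ k, pow_mem hgC _, (Commute.pow_left hgx _).eq, Nat.find_min hex (by omega), ?_⟩
        have e : y * g ^ 2 ^ k * y = (g ^ 2 ^ k)⁻¹ := by
          have h1 : (y * g * y⁻¹) ^ 2 ^ k = y * g ^ 2 ^ k * y⁻¹ := conj_pow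
          rw [hyi, hginv, inv_pow] at h1
          exact h1.symm
        rw [e, ← mul_inv_rev]
        refine inv_mem ?_
        have := Nat.find_spec hex
        rwa [hk, pow_succ, pow_mul, pow_two] at this
      set p := d⁻¹ * (y * d * y) with hpdef
      have hpfix : y * p * y = p := by
        have hpi : p⁻¹ = p := inv_eq_of_mul_eq_one_right (hB2 p (hZB hp))
        calc y * p * y = y * d⁻¹ * y * d * (y * y) := by rw [hpdef]; group
          _ = y⁻¹ * d⁻¹ * y⁻¹ * d := by rw [hyi, hA2 y hyA, mul_one]
          _ = p⁻¹ := by rw [hpdef]; group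
          _ = p := hpi
      have hdeq : y * d * y = d * p := by rw [hpdef, mul_inv_cancel_left]
      rcases hfix p (mem_centralizer_iff.2 fun s hs => hBc s hs p (hZB hp)) (mem_centralizer_singleton_iff.1 hp.2)
          hpfix with r | r
      · rw [r, mul_one] at hdeq
        rcases hfix d hdC hdx hdeq with s | s
        exacts [hdZ (s ▸ one_mem _), hdZ (s ▸ hzZ)]
      · rw [r] at hdeq
        have htC : t ∈ C := mem_centralizer_iff.2 fun s hs => hBc s hs t (hZB htZ)
        have hfd : y * (d * t) * y = d * t := by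
          calc y * (d * t) * y = y * d * y * (y⁻¹ * t * y) := by group
            _ = d * z * (t * z) := by rw [hyi, hdeq, ht']
            _ = d * (z * z) * t := by rw [hBc t (hZB htZ) z hzB]; group
            _ = d * t := by rw [hB2 z hzB, mul_one]
        have hdZ' : d * t ∈ Z := by
          rcases hfix (d * t) (mul_mem hdC htC)
            ((Commute.mul_left (show Commute d x from hdx) (show Commute t x from (hZx t htZ).symm)).eq) hfd with s | s
          exacts [s ▸ one_mem _, s ▸ hzZ]
        have := mul_mem hdZ' (inv_mem htZ)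
        rw [mul_inv_cancel_right] at this
        exact hdZ this
    -- the configuration
    refine ⟨{ hS := hS, B := B, Z := Z, a := x, b := b, hBn := hBn, hB8 := hB8, hB2 := hB2, hZB := hZB,
              hZ4 := hZ4, haa := hxx, haB := hxC, haZ := hZx, hb := hbB, hbZ := hbZ, hself := ?_ }⟩
    intro m hmZ hxm
    have hbne : b ≠ 1 ∧ b ≠ z := ⟨fun h => hbZ (h ▸ one_mem _), fun h => hbZ (h ▸ hzZ)⟩
    have helW := four_elems hW4 (fun s hs => hB2 s (hWB hs)) hzW hbW hz1 hbne.1 (Ne.symm hbne.2)
    have hconjW : ∀ g : S, g * b * g⁻¹ = b ∨ g * b * g⁻¹ = z * b := by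
      intro g
      rcases helW _ (hWn.conj_mem b hbW g) with r | r | r | r
      · exact absurd (conj_eq_one_iff.1 r) hbne.1
      · exfalso
        rw [← hzc g] at r
        exact hbne.2 (mul_left_cancel (mul_right_cancel r))
      · exact Or.inl r
      · exact Or.inr r
    have hxb : x * b * x⁻¹ = z * b := (hconjW x).resolve_left fun h =>
      hbx (mem_centralizer_singleton_iff.2 (mul_inv_eq_iff_eq_mul.1 h).symm)
    have hc2 : Nat.card B = 2 * Nat.card Z := by rw [hB8, hZ4]
    rcases hconjW m with r | r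
    · exact Or.inl (hM m (mem_centralizer_of_gens hZB hc2 hbB hbZ hmZ (mul_inv_eq_iff_eq_mul.1 r)) hxm.symm)
    · right
      refine hM _ (mem_centralizer_of_gens hZB hc2 hbB hbZ
        (fun s hs => (Commute.mul_left (hmZ s hs) (hZx s hs)).eq) (mul_inv_eq_iff_eq_mul.1 ?_)) ?_
      · calc m * x * b * (m * x)⁻¹ = m * (x * b * x⁻¹) * m⁻¹ := by group
          _ = m * z * m⁻¹ * (m * b * m⁻¹) := by rw [hxb]; group
          _ = b := by rw [hzc, r, ← mul_assoc, hB2 z hzB, one_mul]
      · calc m * x * x = x * m * x := by rw [hxm]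
          _ = x * (m * x) := by group
  · -- `A` meets `B` in a four-group
    set Z := A ⊓ B with hZ
    obtain ⟨a, haA, haB⟩ := SetLike.not_le_iff_exists.1 hne
    have hc2 : Nat.card A = 2 * Nat.card Z := by rw [hA8, e]
    have haZ : a ∉ Z := fun h => haB h.2
    have haC : a ∉ C := by
      intro h
      apply hne
      have hle : B ≤ A := fun p hp => hmemA p fun q hq => by
        rcases two_cosets (inf_le_left : Z ≤ A) hc2 haA haZ hq with r | r
        · exact hBc p hp q r.2
        · have c1 : Commute p (a * q) := hBc p hp _ r.2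
          have c2 : Commute p a := (hC_comm a h p hp).symm
          have := c2.mul_right c1
          rwa [← mul_assoc, hA2 a haA, one_mul] at this
      exact (eq_of_le_of_card_ge hle (by rw [hA8, hB8])).ge
    obtain ⟨b, hbB, hbZ⟩ : ∃ b ∈ B, b ∉ Z := by
      by_contra h
      push Not at h
      have := card_dvd_of_le (h : B ≤ Z)
      rw [hB8, e] at this
      norm_num at this
    refine ⟨{ hS := hS, B := B, Z := Z, a := a, b := b, hBn := hBn, hB8 := hB8, hB2 := hB2, hZB := inf_le_right,
              hZ4 := e, haa := hA2 a haA, haB := haC, haZ := fun s hs => hAc a haA s hs.1, hb := hbB, hbZ := hbZ,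
              hself := ?_ }⟩
    intro m hmZ ham
    have hmA : m ∈ A := hmemA m fun q hq => by
      rcases two_cosets (inf_le_left : Z ≤ A) hc2 haA haZ hq with r | r
      · exact hmZ q r
      · have c1 : Commute m (a * q) := hmZ _ r
        have c2 : Commute m a := ham.symm
        have := c2.mul_right c1
        rwa [← mul_assoc, hA2 a haA, one_mul] at this
    rcases two_cosets (inf_le_left : Z ≤ A) hc2 haA haZ hmA with r | r
    · exact Or.inl r
    · exact Or.inr (by rw [← ham]; exact r)
  · exfalso
    exact hne (fun p hp => ((eq_of_le_of_card_ge (inf_le_left : A ⊓ B ≤ A) (by rw [e, hA8])).ge hp).2)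

/-- Harada's theorem as a bound on index. -/
theorem relIndex_bound (hS : IsPGroup 2 S) {L N : Subgroup S} (hNL : N ≤ L) (hsq : SqIn L N) :
    N.relIndex L ≤ 16 := by
  haveI : Fact (Nat.Prime 2) := ⟨Nat.prime_two⟩
  by_cases hno : ∀ B : Subgroup S, B.Normal → IsMulCommutative B → (∀ a ∈ B, a ^ 2 = 1) → Nat.card B ≤ 4
  · haveI : (N.subgroupOf L).Normal := ⟨fun n hn g => by
      rw [mem_subgroupOf] at hn ⊢
      have := mul_mem hn (hsq.comm (hNL hn) g.2)
      rwa [mul_inv_cancel_left] at this⟩
    exact Cfsg.Lib.MacWilliams.quotient_bound hS hno L (N.subgroupOf L)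
      (fun x => hsq x x.2)
  push Not at hno
  obtain ⟨B0, hB0n, -, hB02, hB04⟩ := hno
  haveI := hB0n
  obtain ⟨k, hk⟩ := IsPGroup.iff_card.1 (hS.to_subgroup B0)
  have h8 : 2 ^ 3 ∣ Nat.card B0 := by
    rw [hk] at hB04 ⊢
    refine pow_dvd_pow 2 ?_
    by_contra h
    have : 2 ^ k ≤ 2 ^ 2 := Nat.pow_le_pow_right (by norm_num) (by omega)
    omega
  obtain ⟨B, hBn, hBB0, hB8⟩ := Cfsg.Lib.PGroup.NormalStep.exists_normal_le hS B0 3 h8
  haveI := hBn
  have hB2 : ∀ p ∈ B, p * p = 1 := fun p hp => by rw [← pow_two]; exact hB02 p (hBB0 hp)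
  by_cases hle : A ≤ B
  · have hAB : A = B := eq_of_le_of_card_ge hle (by rw [hA8, hB8]; norm_num)
    subst hAB
    exact self_centralizing_bound hS A hA8 hB2 hCA.le hNL hsq
  obtain ⟨F⟩ := exists_cfg A hA2 hA8 hCA hS B (by rw [hB8]; norm_num) hB2 hle
  exact F.bound hNL hsq

/-- Harada's theorem. -/
theorem sectional (hS : IsPGroup 2 S) : Cfsg.SectionalPRankLE 2 4 S := by
  intro H K _ E hEc hE2
  let π := QuotientGroup.mk' K
  let L : Subgroup S := (E.comap π).map H.subtype
  let e := (E.comap π).equivMapOfInjective H.subtype H.subtype_injective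
  let f : ↥(E.comap π) →* ↥E :=
    { toFun := fun x => ⟨π x.1, x.2⟩
      map_one' := Subtype.ext (map_one π)
      map_mul' := fun a b => Subtype.ext (map_mul π a.1 b.1) }
  have hf : Function.Surjective f := by
    rintro ⟨y, hy⟩
    obtain ⟨x, rfl⟩ := QuotientGroup.mk'_surjective K y
    exact ⟨⟨x, hy⟩, rfl⟩
  let ψ : ↥L →* ↥E := f.comp e.symm.toMonoidHom
  have hψ : Function.Surjective ψ := hf.comp e.symm.surjective
  have h16 := relIndex_bound A hA2 hA8 hCA hS (L := L) (N := ψ.ker.map L.subtype) (map_subtype_le _)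
    (fun x hx => ⟨⟨x, hx⟩ ^ 2, by
      rw [SetLike.mem_coe, MonoidHom.mem_ker, map_pow]
      exact Subtype.ext (hE2 _ (ψ ⟨x, hx⟩).2), rfl⟩)
  rw [relIndex, subgroupOf, comap_map_eq_self_of_injective L.subtype_injective, index_ker,
    MonoidHom.range_eq_top.2 hψ, card_top] at h16
  exact h16

end Cfsg.Lib.HaradaE8
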