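import Cfsg.Agent.Lib.MacWilliams.PCentral
import Mathlib.GroupTheory.Index
import Mathlib.GroupTheory.SpecificGroups.Cyclic
import Mathlib.RingTheory.Coprime.Lemmas
import Mathlib.Tactic.LinearCombination
import Mathlib.Tactic.Linarith

/-!
# Preliminaries for 2-groups with a self-centralizing elementary abelian subgroup of order eight

A 2-group with an involutory automorphism fixing at most two elements has an invariant cyclic subgroup
of index at most two; two counting lemmas.
-/

set_option autoImplicit false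
set_option linter.style.haveILetI false

namespace Cfsg.Lib.HaradaE8

open Subgroup

universe u

theorem exists_zpow_eq {G : Type u} [Group G] {x y : G} (hy : y ∈ zpowers x) : ∃ i : ℤ, x ^ i = y :=
  mem_zpowers_iff.1 hy

theorem cyclic_index_two : ∀ (n : ℕ) (X : Type u) [Group X] [Finite X], Nat.card X ≤ n → IsPGroup 2 X →
    ∀ α : X →* X, (∀ x, α (α x) = x) → (∀ x y z : X, α x = x → α y = y → α z = z → x = y ∨ x = z ∨ y = z) →
    ∃ u : X, α u ∈ zpowers u ∧ (zpowers u).index ≤ 2 := by
  intro n
  induction n with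
  | zero => intro X _ _ hc; exact absurd (Nat.card_pos (α := X)) (by omega)
  | succ n ih =>
    intro X _ _ hcard hX α hα hfix
    haveI : Fact (Nat.Prime 2) := ⟨Nat.prime_two⟩
    rcases subsingleton_or_nontrivial X with hs | hs
    · exact ⟨1, by rw [map_one]; exact one_mem _, by
        rw [Subgroup.index_eq_one.2 (Subsingleton.elim _ ⊤)]; norm_num⟩
    -- a fixed central involution
    obtain ⟨z, hzc, hz2, hz1, hzf⟩ : ∃ z : X, z ∈ center X ∧ z * z = 1 ∧ z ≠ 1 ∧ α z = z := by
      obtain ⟨z, -, hzc, hzo⟩ := Cfsg.Lib.PGroup.exists_mem_center_orderOf_eq hX (N := (⊤ : Subgroup X))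
        top_ne_bot
      have hz2 : z * z = 1 := by rw [← pow_two, ← hzo, pow_orderOf_eq_one]
      have hz1 : z ≠ 1 := fun h => by rw [h, orderOf_one] at hzo; exact absurd hzo (by norm_num)
      by_cases hzf : α z = z
      · exact ⟨z, hzc, hz2, hz1, hzf⟩
      · have hc : α z ∈ center X := mem_center_iff.2 fun g => by
          have h := congrArg α (mem_center_iff.1 hzc (α g))
          rwa [map_mul, map_mul, hα] at h
        refine ⟨z * α z, mul_mem hzc hc, ?_, ?_, ?_⟩
        · have hcm : Commute z (α z) := mem_center_iff.1 hc z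
          calc z * α z * (z * α z) = z * (α z * z) * α z := by group
            _ = z * (z * α z) * α z := by rw [hcm.eq]
            _ = (z * z) * α (z * z) := by rw [map_mul]; group
            _ = 1 := by rw [hz2, map_one, one_mul]
        · intro h
          apply hzf
          calc α z = z * (z * α z) := by rw [← mul_assoc, hz2, one_mul]
            _ = z := by rw [h, mul_one]
        · rw [map_mul, hα]; exact (mem_center_iff.1 hzc (α z))
    haveI hZn : (zpowers z).Normal := ⟨fun a ha g => by
      rw [mem_center_iff.1 (zpowers_le.2 hzc ha) g, mul_inv_cancel_right]; exact ha⟩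
    have hzz : ∀ a ∈ zpowers z, a = 1 ∨ a = z := by
      intro a ha
      obtain ⟨i, rfl⟩ := exists_zpow_eq ha
      obtain ⟨j, rfl | rfl⟩ := Int.even_or_odd' i
      · left; rw [zpow_mul, show z ^ (2 : ℤ) = 1 from by rw [zpow_two]; exact hz2, one_zpow]
      · right; rw [zpow_add, zpow_mul, show z ^ (2 : ℤ) = 1 from by rw [zpow_two]; exact hz2, one_zpow,
          one_mul, zpow_one]
    have hαz : ∀ a ∈ zpowers z, α a ∈ zpowers z := by
      intro a ha
      rcases hzz a ha with e | e <;> rw [e]
      · rw [map_one]; exact one_mem _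
      · rw [hzf]; exact mem_zpowers z
    let β : X ⧸ zpowers z →* X ⧸ zpowers z := QuotientGroup.map _ _ α (fun a ha => hαz a ha)
    have hβ : ∀ x : X, β (x : X ⧸ zpowers z) = (α x : X ⧸ zpowers z) := fun x => rfl
    have hlt : Nat.card (X ⧸ zpowers z) ≤ n := by
      have h1 := card_eq_card_quotient_mul_card_subgroup (zpowers z)
      have h2 : 2 ≤ Nat.card (zpowers z) :=
        (one_lt_card_iff_ne_bot _).2 (fun h => hz1 (zpowers_eq_bot.1 h))
      have h3 : Nat.card (X ⧸ zpowers z) * 2 ≤ Nat.card X := h1 ▸ Nat.mul_le_mul_left _ h2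
      have := Nat.card_pos (α := X ⧸ zpowers z)
      omega
    -- elements moved into `zpowers z`
    have hmove : ∀ x y : X, α x = x * z → α y = y * z → x * y⁻¹ = 1 ∨ x * y⁻¹ = z := by
      intro x y hx hy
      have h : α (x * y⁻¹) = x * y⁻¹ := by
        rw [map_mul, map_inv, hx, hy, mul_inv_rev, ← mul_assoc, mul_inv_cancel_right]
      rcases hfix _ 1 z h (map_one α) hzf with e | e | e
      · exact Or.inl e
      · exact Or.inr e
      · exact absurd e.symm hz1
    have hfixz : ∀ x : X, α x = x → x = 1 ∨ x = z := by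
      intro x h
      rcases hfix _ 1 z h (map_one α) hzf with e | e | e
      · exact Or.inl e
      · exact Or.inr e
      · exact absurd e.symm hz1
    have hlift : ∀ x : X, (β (x : X ⧸ zpowers z) = (x : X ⧸ zpowers z)) → α x = x ∨ α x = x * z := by
      intro x h
      rw [hβ, eq_comm, QuotientGroup.eq] at h
      rcases hzz _ h with e | e
      · exact Or.inl (inv_mul_eq_one.1 e).symm
      · exact Or.inr (by rw [← e, mul_inv_cancel_left])
    obtain ⟨q, hq, hqi⟩ := ih (X ⧸ zpowers z) hlt (hX.to_quotient _) β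
      (fun q => by obtain ⟨x, rfl⟩ := QuotientGroup.mk_surjective q; rw [hβ, hβ, hα])
      (by
        intro p q r hp hq hr
        obtain ⟨x, rfl⟩ := QuotientGroup.mk_surjective p
        obtain ⟨y, rfl⟩ := QuotientGroup.mk_surjective q
        obtain ⟨w, rfl⟩ := QuotientGroup.mk_surjective r
        have hz0 : ∀ v : X, α v = v → (v : X ⧸ zpowers z) = 1 := fun v hv =>
          (QuotientGroup.eq_one_iff v).2 (by
            rcases hfixz v hv with rfl | rfl
            · exact one_mem _
            · exact mem_zpowers _)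
        have hm : ∀ u v : X, α u = u * z → α v = v * z → (u : X ⧸ zpowers z) = v := by
          intro u v hu hv
          rw [eq_comm, ← mul_inv_eq_one, ← QuotientGroup.mk_inv, ← QuotientGroup.mk_mul, QuotientGroup.eq_one_iff]
          rcases hmove v u hv hu with e | e <;> rw [e]
          exacts [one_mem _, mem_zpowers _]
        rcases hlift x hp with ex | ex <;> rcases hlift y hq with ey | ey <;> rcases hlift w hr with ew | ew
        all_goals first
          | exact Or.inl ((hz0 x ex).trans (hz0 y ey).symm)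
          | exact Or.inr (Or.inl ((hz0 x ex).trans (hz0 w ew).symm))
          | exact Or.inr (Or.inr ((hz0 y ey).trans (hz0 w ew).symm))
          | exact Or.inl (hm x y ex ey)
          | exact Or.inr (Or.inl (hm x w ex ew))
          | exact Or.inr (Or.inr (hm y w ey ew)))
    obtain ⟨u, rfl⟩ := QuotientGroup.mk_surjective q
    rw [hβ] at hq
    obtain ⟨r, hr⟩ := exists_zpow_eq hq
    rw [← QuotientGroup.mk_zpow, QuotientGroup.eq] at hr
    set Y := (zpowers (u : X ⧸ zpowers z)).comap (QuotientGroup.mk' (zpowers z)) with hY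
    have hYi : Y.index ≤ 2 := by
      rw [hY, index_comap_of_surjective _ (QuotientGroup.mk'_surjective _)]; exact hqi
    have hYmem : ∀ x ∈ Y, ∃ i : ℤ, x = u ^ i ∨ x = u ^ i * z := by
      intro x hx
      obtain ⟨i, hi⟩ := exists_zpow_eq (mem_comap.1 hx)
      refine ⟨i, ?_⟩
      rw [QuotientGroup.mk'_apply, ← QuotientGroup.mk_zpow, QuotientGroup.eq] at hi
      rcases hzz _ hi with e | e
      · exact Or.inl (inv_mul_eq_one.1 e).symm
      · exact Or.inr (by rw [← e, mul_inv_cancel_left])
    by_cases hzu : z ∈ zpowers u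
    · refine ⟨u, ?_, ?_⟩
      · rcases hzz _ hr with e | e
        · rw [← inv_mul_eq_one.1 e]; exact zpow_mem (mem_zpowers u) r
        · rw [← mul_inv_cancel_left (u ^ r) (α u), e]; exact mul_mem (zpow_mem (mem_zpowers u) r) hzu
      · have hle : Y ≤ zpowers u := by
          intro x hx
          obtain ⟨i, rfl | rfl⟩ := hYmem x hx
          · exact zpow_mem (mem_zpowers u) i
          · exact mul_mem (zpow_mem (mem_zpowers u) i) hzu
        exact (Nat.le_of_dvd (Nat.pos_of_ne_zero index_ne_zero_of_finite) (index_dvd_of_le hle)).trans hYi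
    -- `u` has order at most two
    have hu2 : u * u = 1 := by
      by_contra hu
      obtain ⟨k, hk⟩ := hX u
      -- take the involution in `zpowers u`
      obtain ⟨j, hj2, hj1⟩ : ∃ j : ℕ, (u ^ (2 * j)) ^ 2 = 1 ∧ u ^ (2 * j) ≠ 1 := by
        clear * - hk hu
        induction k with
        | zero => rw [pow_zero, pow_one] at hk; exact absurd (by rw [hk, one_mul]) hu
        | succ k ih =>
          by_cases h : u ^ 2 ^ k = 1
          · exact ih h
          · match k, hk, h with
            | 0, hk, _ => exact absurd (by rw [← pow_two]; simpa using hk) hu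
            | k + 1, hk, h =>
              refine ⟨2 ^ k, ?_, ?_⟩
              · rw [← pow_succ', ← pow_mul, show 2 ^ (k + 1) * 2 = 2 ^ (k + 2) by ring]; exact hk
              · rw [← pow_succ']; exact h
      set v := u ^ (2 * j) with hv
      have hvi : ∀ i : ℤ, v ^ i = 1 ∨ v ^ i = v := by
        intro i
        obtain ⟨l, rfl | rfl⟩ := Int.even_or_odd' i
        · left; rw [zpow_mul, show v ^ (2 : ℤ) = 1 from by rw [zpow_two, ← pow_two]; exact hj2, one_zpow]
        · right; rw [zpow_add, zpow_mul, show v ^ (2 : ℤ) = 1 from by rw [zpow_two, ← pow_two]; exact hj2,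
            one_zpow, one_mul, zpow_one]
      have hαv : α v = v := by
        have hcz : Commute (u ^ r) z := mem_center_iff.1 hzc (u ^ r)
        have hα' : α v = v ^ r := by
          rcases hzz _ hr with e | e
          · rw [hv, map_pow, ← inv_mul_eq_one.1 e, ← zpow_natCast, ← zpow_mul, mul_comm, zpow_mul, zpow_natCast]
          · rw [hv, map_pow, ← mul_inv_cancel_left (u ^ r) (α u), e, hcz.mul_pow, pow_mul z,
              pow_two, hz2, one_pow, mul_one, ← zpow_natCast, ← zpow_mul, mul_comm, zpow_mul, zpow_natCast]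
        rcases hvi r with e | e
        · exfalso
          rw [e] at hα'
          exact hj1 (by rw [← hα v, hα', map_one])
        · rw [hα', e]
      rcases hfixz v hαv with e | e
      · exact hj1 e
      · exact hzu (e ▸ pow_mem (mem_zpowers u) _)
    -- so `Y` has at most four elements
    have huY : u ∈ Y := mem_comap.2 (mem_zpowers _)
    have hzY : z ∈ Y := mem_comap.2 (by
      rw [QuotientGroup.mk'_apply, (QuotientGroup.eq_one_iff z).2 (mem_zpowers z)]; exact one_mem _)
    have h2 : u ^ (2 : ℤ) = 1 := by rw [zpow_two]; exact hu2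
    have hu' : ∀ i : ℤ, u ^ i = 1 ∨ u ^ i = u := by
      intro i
      obtain ⟨l, rfl | rfl⟩ := Int.even_or_odd' i
      · left; rw [zpow_mul, h2, one_zpow]
      · right; rw [zpow_add, zpow_mul, h2, one_zpow, one_mul, zpow_one]
    have hYc : ∀ s ∈ Y, s = 1 ∨ s = z ∨ s = u ∨ s = u * z := by
      intro s hs
      obtain ⟨i, h⟩ := hYmem s hs
      rcases hu' i with e | e <;> rw [e] at h <;> rcases h with h | h
      · exact Or.inl h
      · exact Or.inr (Or.inl (h.trans (one_mul z)))
      · exact Or.inr (Or.inr (Or.inl h))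
      · exact Or.inr (Or.inr (Or.inr h))
    by_cases hu1 : u = 1
    · refine ⟨z, by rw [hzf]; exact mem_zpowers z, ?_⟩
      have hle : Y ≤ zpowers z := by
        intro s hs
        rcases hYc s hs with e | e | e | e <;> rw [e] <;> (try rw [hu1]) <;> (try rw [one_mul])
        all_goals first | exact one_mem _ | exact mem_zpowers z
      exact (Nat.le_of_dvd (Nat.pos_of_ne_zero index_ne_zero_of_finite) (index_dvd_of_le hle)).trans hYi
    have huz : u ≠ z := fun h => hzu (h ▸ mem_zpowers u)
    have hαuY : α u ∈ Y := mem_comap.2 (by rw [QuotientGroup.mk'_apply]; exact hq)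
    have hαu : α u = u * z := by
      rcases hYc _ hαuY with e | e | e | e
      · exact absurd (by rw [← hα u, e, map_one]) hu1
      · exact absurd (by rw [← hα u, e, hzf]) huz
      · rcases hfixz u e with r | r
        · exact absurd r hu1
        · exact absurd r huz
      · exact e
    by_cases hall : ∀ x : X, x ∈ Y
    · refine ⟨z, by rw [hzf]; exact mem_zpowers z, le_of_eq (index_eq_two_iff.2 ⟨u, fun b => ?_⟩)⟩
      have hnu : u ∉ zpowers z := fun h => by
        rcases hzz u h with e | e
        exacts [hu1 e, huz e]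
      have hcu : u * z = z * u := mem_center_iff.1 hzc u
      rcases hYc b (hall b) with rfl | rfl | rfl | rfl
      · exact Or.inr ⟨one_mem _, by rw [one_mul]; exact hnu⟩
      · exact Or.inr ⟨mem_zpowers _, fun h => hnu ((mul_mem_cancel_left (mem_zpowers _)).1 h)⟩
      · exact Or.inl ⟨by rw [hu2]; exact one_mem _, hnu⟩
      · refine Or.inl ⟨?_, fun h => hnu ((mul_mem_cancel_right (mem_zpowers z)).1 h)⟩
        rw [hcu, mul_assoc, hu2, mul_one]; exact mem_zpowers z
    exfalso
    push Not at hall
    obtain ⟨x, hx⟩ := hall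
    have hxY : Y.index = 2 := by
      rcases Nat.lt_or_ge Y.index 2 with h | h
      · exfalso
        have : Y.index ≠ 0 := index_ne_zero_of_finite
        have h1 : Y.index = 1 := by omega
        exact hx ((index_eq_one.1 h1).symm ▸ mem_top x)
      · omega
    have hαY : ∀ s ∈ Y, α s ∈ Y := by
      intro s hs
      rcases hYc s hs with rfl | rfl | rfl | rfl
      · rw [map_one]; exact one_mem _
      · rw [hzf]; exact hzY
      · exact hαuY
      · rw [map_mul, hzf]; exact mul_mem hαuY hzY
    have hαx : α x ∉ Y := fun hm => hx (hα x ▸ hαY _ hm)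
    have htY : x⁻¹ * α x ∈ Y := (mul_mem_iff_of_index_two hxY).2
      ⟨fun h => absurd (inv_mem_iff.1 h) hx, fun h => absurd h hαx⟩
    have htf : α (x⁻¹ * α x) = (x⁻¹ * α x)⁻¹ := by rw [map_mul, map_inv, hα, mul_inv_rev, inv_inv]
    have huzf : α (u * z) = u := by rw [map_mul, hαu, hzf, mul_assoc, hz2, mul_one]
    have hzne : u * z ≠ u := fun h => hz1 (mul_eq_left.1 h)
    rcases hYc _ htY with e | e | e | e
    · rcases hfixz x (inv_mul_eq_one.1 e).symm with r | r
      exacts [hx (r ▸ one_mem Y), hx (r ▸ hzY)]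
    · have hx' : α x = x * z := by rw [← e, mul_inv_cancel_left]
      rcases hmove x u hx' hαu with r | r
      · exact hx (mul_inv_eq_one.1 r ▸ huY)
      · exact hx (mul_inv_eq_iff_eq_mul.1 r ▸ mul_mem hzY huY)
    · rw [e, hαu, inv_eq_of_mul_eq_one_right hu2] at htf
      exact hzne htf
    · rw [e, huzf, inv_eq_of_mul_eq_one_right (show u * z * (u * z) = 1 by
        rw [mul_assoc, ← mul_assoc z, ← mem_center_iff.1 hzc u, mul_assoc u, hz2, mul_one, hu2])] at htf
      exact hzne htf.symm

theorem sq_eq_one_unique {X : Type u} [Group X] [Finite X] {u v w : X} (hv : v ∈ zpowers u) (hw : w ∈ zpowers u)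
    (hv2 : v * v = 1) (hw2 : w * w = 1) (hv1 : v ≠ 1) (hw1 : w ≠ 1) : v = w := by
  classical
  by_contra hne
  let P : Finset (zpowers u) := {1, ⟨v, hv⟩, ⟨w, hw⟩}
  haveI : Fintype (zpowers u) := Fintype.ofFinite _
  have hP : P ⊆ Finset.univ.filter (fun a : zpowers u => a ^ 2 = 1) := by
    intro a ha
    rw [Finset.mem_filter]
    refine ⟨Finset.mem_univ _, ?_⟩
    simp only [P, Finset.mem_insert, Finset.mem_singleton] at ha
    rcases ha with rfl | rfl | rfl
    · exact one_pow 2
    · exact Subtype.ext (by rw [SubmonoidClass.coe_pow, pow_two]; exact hv2)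
    · exact Subtype.ext (by rw [SubmonoidClass.coe_pow, pow_two]; exact hw2)
  have h3 : P.card = 3 := by
    rw [Finset.card_insert_of_notMem, Finset.card_pair (fun h => hne (congrArg Subtype.val h))]
    simp only [Finset.mem_insert, Finset.mem_singleton, not_or]
    exact ⟨fun h => hv1 (congrArg Subtype.val h).symm, fun h => hw1 (congrArg Subtype.val h).symm⟩
  have h := (Finset.card_le_card hP).trans (IsCyclic.card_pow_eq_one_le two_pos)
  omega

theorem exists_invol_of_ne_one {X : Type u} [Group X] [Finite X] (hX : IsPGroup 2 X) {u : X} (hu : u ≠ 1) :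
    ∃ v ∈ zpowers u, v * v = 1 ∧ v ≠ 1 := by
  obtain ⟨k, hk⟩ := hX u
  induction k with
  | zero => rw [pow_zero, pow_one] at hk; exact absurd hk hu
  | succ k ih =>
    by_cases h : u ^ 2 ^ k = 1
    · exact ih h
    · exact ⟨_, pow_mem (mem_zpowers u) _, by rw [← pow_add, ← two_mul, ← pow_succ']; exact hk, h⟩

/-- In the noncyclic case the invariant subgroup is generated by a commutator with the automorphism and
is inverted by the elements outside it. -/
theorem exists_gen {X : Type u} [Group X] [Finite X] (hX : IsPGroup 2 X) (α : X →* X)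
    (hα : ∀ x, α (α x) = x)
    (hfix : ∀ x y z : X, α x = x → α y = y → α z = z → x = y ∨ x = z ∨ y = z)
    (hnc : ∀ g : X, zpowers g ≠ ⊤) :
    ∃ c : X, c ∉ zpowers (c⁻¹ * α c) ∧ (zpowers (c⁻¹ * α c)).index = 2 ∧
      (∃ i : ℤ, c * c = (c⁻¹ * α c) ^ (2 * i) ∧ (c⁻¹ * α c) ^ (2 * (2 * i)) = 1) ∧
      c * (c⁻¹ * α c) * c⁻¹ = (c⁻¹ * α c)⁻¹ ∧ c⁻¹ * α c ≠ 1 := by
  obtain ⟨u, huα, hui⟩ := cyclic_index_two _ X le_rfl hX α hα hfix
  set U := zpowers u with hUdef
  have hidx : U.index = 2 := by
    rcases Nat.lt_or_ge U.index 2 with h | h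
    · exfalso
      have : U.index ≠ 0 := index_ne_zero_of_finite
      have h1 : U.index = 1 := by omega
      exact hnc u (index_eq_one.1 h1)
    · omega
  have hUα : ∀ x ∈ U, α x ∈ U := by
    intro x hx
    obtain ⟨i, rfl⟩ := exists_zpow_eq hx
    rw [map_zpow]; exact zpow_mem huα i
  obtain ⟨c, hc⟩ : ∃ c, c ∉ U := by
    by_contra h
    push Not at h
    exact hnc u ((eq_top_iff' _).2 h)
  set e := c⁻¹ * α c with he
  have hαc : α c ∉ U := fun h => hc (hα c ▸ hUα _ h)
  have heU : e ∈ U := (mul_mem_iff_of_index_two hidx).2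
    ⟨fun h => absurd (inv_mem_iff.1 h) hc, fun h => absurd h hαc⟩
  have hcomm : ∀ x ∈ U, ∀ y ∈ U, x * y = y * x := by
    intro x hx y hy
    obtain ⟨i, rfl⟩ := exists_zpow_eq hx
    obtain ⟨j, rfl⟩ := exists_zpow_eq hy
    rw [← zpow_add, add_comm, zpow_add]
  have hu1 : u ≠ 1 := by
    intro h
    have h4 : Nat.card X = 2 := by
      have := card_mul_index U
      rw [hUdef, Nat.card_zpowers, h, orderOf_one, one_mul] at this
      rw [← hidx, hUdef, h]; exact this.symm
    haveI : Fact (Nat.Prime 2) := ⟨Nat.prime_two⟩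
    haveI : IsCyclic X := isCyclic_of_prime_card h4
    obtain ⟨g, hg⟩ := IsCyclic.exists_generator (α := X)
    exact hnc g ((eq_top_iff' _).2 hg)
  obtain ⟨v, hvU, hv2, hv1⟩ := exists_invol_of_ne_one hX hu1
  have hvf : α v = v := sq_eq_one_unique (hUα v hvU) hvU (by rw [← map_mul, hv2, map_one]) hv2
    (fun h => hv1 (by rw [← hα v, h, map_one])) hv1
  have hfixU : ∀ x, α x = x → x ∈ U := by
    intro x hx
    rcases hfix x 1 v hx (map_one α) hvf with h | h | h
    · exact h ▸ one_mem U
    · exact h ▸ hvU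
    · exact absurd h.symm hv1
  -- `e` generates `U`
  have hgen : zpowers e = U := by
    refine le_antisymm (zpowers_le.2 heU) ?_
    obtain ⟨j, hj⟩ := exists_zpow_eq heU
    obtain ⟨l, rfl | rfl⟩ := Int.even_or_odd' j
    · exfalso
      let f : U →* U :=
        { toFun := fun x => ⟨(x : X)⁻¹ * α x, mul_mem (inv_mem x.2) (hUα x x.2)⟩
          map_one' := Subtype.ext (by simp)
          map_mul' := fun x y => Subtype.ext (by
            have h1 := hcomm _ (inv_mem x.2) _ (inv_mem y.2)
            show ((x : X) * y)⁻¹ * α ((x : X) * y) = (x : X)⁻¹ * α x * ((y : X)⁻¹ * α y)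
            calc ((x : X) * y)⁻¹ * α ((x : X) * y) = ((y : X)⁻¹ * (x : X)⁻¹) * α x * α y := by
                  rw [map_mul]; group
              _ = ((x : X)⁻¹ * (y : X)⁻¹) * α x * α y := by rw [h1]
              _ = (x : X)⁻¹ * ((y : X)⁻¹ * α x) * α y := by group
              _ = (x : X)⁻¹ * (α x * (y : X)⁻¹) * α y := by rw [hcomm _ (inv_mem y.2) _ (hUα x x.2)]
              _ = _ := by group) }
      have hker : Nat.card f.ker ≤ 2 := by
        refine le_trans (Nat.card_le_card_of_surjective
          (fun b : Bool => (⟨cond b ⟨v, hvU⟩ 1, ?_⟩ : f.ker)) ?_) (by rw [Nat.card_eq_fintype_card, Fintype.card_bool])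
        · rw [MonoidHom.mem_ker]
          cases b
          · exact map_one f
          · exact Subtype.ext (by show v⁻¹ * α v = 1; rw [hvf, inv_mul_cancel])
        · rintro ⟨⟨x, hxU⟩, hx⟩
          have hxf : α x = x := (inv_mul_eq_one.1 (congrArg Subtype.val hx : x⁻¹ * α x = 1)).symm
          rcases hfix x 1 v hxf (map_one α) hvf with h | h | h
          · exact ⟨false, Subtype.ext (Subtype.ext h.symm)⟩
          · exact ⟨true, Subtype.ext (Subtype.ext h.symm)⟩
          · exact absurd h.symm hv1
      have hr : f.range.index ≤ 2 := by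
        have h1 := card_mul_index f.ker
        rw [index_ker] at h1
        have h2 := card_mul_index f.range
        have h3 : Nat.card f.range * f.range.index = Nat.card f.range * Nat.card f.ker := by
          rw [h2, mul_comm, h1]
        exact (Nat.eq_of_mul_eq_mul_left Nat.card_pos h3).le.trans hker
      have hsq : (⟨u ^ l, zpow_mem (mem_zpowers u) l⟩ : U) * ⟨u ^ l, zpow_mem (mem_zpowers u) l⟩ ∈ f.range := by
        rcases Nat.lt_or_ge f.range.index 2 with h | h
        · have : f.range.index ≠ 0 := index_ne_zero_of_finite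
          have h1 : f.range.index = 1 := by omega
          rw [index_eq_one.1 h1]; exact mem_top _
        · exact mul_self_mem_of_index_two (by omega) _
      obtain ⟨⟨x, hxU⟩, hx⟩ := hsq
      have hx' : x⁻¹ * α x = e := by
        rw [← hj, two_mul, zpow_add]
        exact congrArg Subtype.val hx
      have hfix' : α (c * x⁻¹) = c * x⁻¹ := by
        have hαc' : α c = c * e := by rw [he, mul_inv_cancel_left]
        have hαx : α x = x * e := by rw [← hx', mul_inv_cancel_left]
        rw [map_mul, map_inv, hαc', hαx, mul_inv_rev, mul_assoc, mul_inv_cancel_left]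
      have h := mul_mem (hfixU _ hfix') hxU
      rw [inv_mul_cancel_right] at h
      exact hc h
    · obtain ⟨k, hk⟩ := hX u
      refine zpowers_le.2 ?_
      have hco : IsCoprime (2 * l + 1) (((2 ^ k : ℕ)) : ℤ) := by
        push_cast
        refine IsCoprime.pow_right ?_
        exact ⟨1, -l, by ring⟩
      obtain ⟨p, q, hpq⟩ := hco
      rw [mem_zpowers_iff]
      refine ⟨p, ?_⟩
      rw [← hj, ← zpow_mul, show (2 * l + 1) * p = 1 + (((2 ^ k : ℕ)) : ℤ) * (-q) by linarith, zpow_add,
        zpow_one, zpow_mul, zpow_natCast, hk, one_zpow, mul_one]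
  have he1 : e ≠ 1 := by
    intro h
    rw [h, zpowers_one_eq_bot] at hgen
    exact hu1 (by have := mem_zpowers u; rw [← hUdef, ← hgen, mem_bot] at this; exact this)
  obtain ⟨i, hi⟩ := exists_zpow_eq (hgen.symm ▸ mul_self_mem_of_index_two hidx c : c * c ∈ zpowers e)
  haveI : U.Normal := ⟨fun x hx g => by
    by_cases hg : g ∈ U
    · exact mul_mem (mul_mem hg hx) (inv_mem hg)
    · refine (mul_mem_iff_of_index_two hidx).2 ⟨fun h => absurd ((mul_mem_cancel_right hx).1 h) hg,
        fun h => absurd (inv_mem_iff.1 h) hg⟩⟩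
  obtain ⟨r, hr⟩ := exists_zpow_eq
    (hgen.symm ▸ (inferInstance : U.Normal).conj_mem e heU c : c * e * c⁻¹ ∈ zpowers e)
  have hαc2 : α c = c * e := by rw [he, mul_inv_cancel_left]
  have hαe : α e = e⁻¹ := by rw [he, map_mul, map_inv, hα, mul_inv_rev, inv_inv]
  -- the two relations
  have hce : c * e = e ^ r * c := by rw [hr, inv_mul_cancel_right]
  have hrel1 : e ^ (r * i) = e ^ i := by
    rw [zpow_mul, hr, conj_zpow, hi]; group
  have hrel2 : e ^ (2 * i + r + 1) = 1 := by
    have h1 : α (c * c) = (c * c) * (c⁻¹ * e * c) * e := by rw [map_mul, hαc2]; group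
    have h2 : c⁻¹ * e * c = e ^ r := by
      have hcc : (c * c) * e = e * (c * c) := by
        rw [← hi]; exact hcomm _ (zpow_mem heU i) e heU
      calc c⁻¹ * e * c = c⁻¹ * (e * (c * c)) * c⁻¹ := by group
        _ = c * e * c⁻¹ := by rw [← hcc]; group
        _ = e ^ r := hr.symm
    rw [h2, ← hi, map_zpow, hαe, ← zpow_add, ← zpow_add_one, inv_zpow'] at h1
    have h3 := congrArg (fun t => e ^ i * t) h1
    simp only [← zpow_add] at h3
    rw [show i + (-i) = 0 by ring, zpow_zero] at h3
    rw [show 2 * i + r + 1 = i + (i + r + 1) by ring]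
    exact h3.symm
  have hieven : ∃ j, i = 2 * j := by
    obtain ⟨j, rfl | rfl⟩ := Int.even_or_odd' i
    · exact ⟨j, rfl⟩
    · exfalso
      apply hnc c
      obtain ⟨k, hk⟩ := hX e
      have hco : IsCoprime (2 * j + 1) (((2 ^ k : ℕ)) : ℤ) := by
        push_cast
        refine IsCoprime.pow_right ?_
        exact ⟨1, -j, by ring⟩
      obtain ⟨p, q, hpq⟩ := hco
      have hec : e ∈ zpowers c := by
        rw [mem_zpowers_iff]
        refine ⟨2 * p, ?_⟩
        rw [zpow_mul, zpow_two, ← hi, ← zpow_mul,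
          show (2 * j + 1) * p = 1 + (((2 ^ k : ℕ)) : ℤ) * (-q) by linarith, zpow_add, zpow_one, zpow_mul,
          zpow_natCast, hk, one_zpow, mul_one]
      refine (eq_top_iff' _).2 fun x => ?_
      by_cases hxU : x ∈ U
      · rw [← hgen] at hxU
        exact (zpowers_le.2 hec) hxU
      · have h : c⁻¹ * x ∈ U := (mul_mem_iff_of_index_two hidx).2
          ⟨fun h => absurd (inv_mem_iff.1 h) hc, fun h => absurd h hxU⟩
        rw [← hgen] at h
        have h' := mul_mem (mem_zpowers c) ((zpowers_le.2 hec) h)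
        rwa [mul_inv_cancel_left] at h'
  obtain ⟨j, rfl⟩ := hieven
  -- `(2 * i) * (1 + i) = 0` and `1 + i` is odd
  have h4 : e ^ (2 * (2 * j)) = 1 := by
    obtain ⟨k, hk⟩ := hX e
    have h2 : e ^ (2 * (2 * j) * (1 + 2 * j)) = 1 := by
      have h5 : e ^ ((2 * (2 * j) + r + 1) * (2 * j)) = 1 := by rw [zpow_mul, hrel2, one_zpow]
      rw [show (2 * (2 * j) + r + 1) * (2 * j) = r * (2 * j) + ((2 * (2 * j) + 1) * (2 * j)) by ring, zpow_add,
        hrel1, ← zpow_add] at h5
      rw [← h5]; congr 1; ring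
    have hco : IsCoprime (1 + 2 * j) (((2 ^ k : ℕ)) : ℤ) := by
      push_cast
      refine IsCoprime.pow_right ?_
      exact ⟨1, -j, by ring⟩
    obtain ⟨p, q, hpq⟩ := hco
    rw [show 2 * (2 * j) = 2 * (2 * j) * (1 + 2 * j) * p + (((2 ^ k : ℕ)) : ℤ) * (2 * (2 * j) * q) by
      linear_combination (-(2 * (2 * j))) * hpq, zpow_add, zpow_mul, zpow_mul _ (((2 ^ k : ℕ)) : ℤ), h2,
      zpow_natCast, hk, one_zpow, one_zpow, mul_one]
  refine ⟨c, hgen.symm ▸ hc, hgen.symm ▸ hidx, ⟨j, hi.symm, h4⟩, ?_, he1⟩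
  rw [← hr]
  rw [show 2 * (2 * j) + r + 1 = 2 * (2 * j) + (r + 1) by ring, zpow_add, h4, one_mul, zpow_add_one] at hrel2
  exact eq_inv_of_mul_eq_one_left hrel2

/-- A subgroup of an abelian group with eight involutions: the index bound and the equality case. -/
theorem rank_three {G : Type u} [Group G] [Finite G] (hG : IsPGroup 2 G) {B X N : Subgroup G}
    (hB : Nat.card B ≤ 8) (hXc : ∀ x ∈ X, ∀ y ∈ X, x * y = y * x) (hX1 : ∀ x ∈ X, x * x = 1 → x ∈ B)
    (hsq : ∀ x ∈ X, x ^ 2 ∈ N) :
    N.relIndex X ≤ 8 ∧ (8 ≤ N.relIndex X → B ≤ X ∧ ∀ n ∈ N, n ∈ X → ∃ x ∈ X, x * x = n) := by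
  let f : {x : X // x ^ 2 = 1} → B := fun x => ⟨(x.1 : G), hX1 _ x.1.2 (by
    rw [← pow_two, ← SubmonoidClass.coe_pow, x.2, OneMemClass.coe_one])⟩
  have hf : Function.Injective f := fun x y h => Subtype.ext (Subtype.ext (congrArg Subtype.val h :))
  have hle := Nat.card_le_card_of_injective f hf
  have h8 : Nat.card {x : X // x ^ 2 = 1} ≤ 8 := hle.trans hB
  have hc : ∀ x ∈ X, x ^ 4 = 1 → ∀ y ∈ X, x * y = y * x := fun x hx _ y hy => hXc x hx y hy
  refine ⟨Cfsg.Lib.MacWilliams.relIndex_le hG hc hsq h8, fun h => ⟨?_, ?_⟩⟩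
  · have h1 : Nat.card B ≤ Nat.card {x : X // x ^ 2 = 1} :=
      hB.trans (h.trans (Cfsg.Lib.MacWilliams.relIndex_le hG hc hsq le_rfl))
    intro b hb
    obtain ⟨x, hx⟩ := ((Nat.bijective_iff_injective_and_card f).2 ⟨hf, le_antisymm hle h1⟩).2 ⟨b, hb⟩
    have hxb : ((x.1 : G)) = b := congrArg Subtype.val hx
    exact hxb ▸ x.1.2
  · let Q : Subgroup G :=
      { carrier := {n | ∃ x ∈ X, x * x = n}
        one_mem' := ⟨1, one_mem X, one_mul 1⟩
        mul_mem' := by
          rintro _ _ ⟨x, hx, rfl⟩ ⟨y, hy, rfl⟩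
          refine ⟨x * y, mul_mem hx hy, ?_⟩
          calc x * y * (x * y) = x * (y * x) * y := by group
            _ = x * (x * y) * y := by rw [hXc y hy x hx]
            _ = x * x * (y * y) := by group
        inv_mem' := by
          rintro _ ⟨x, hx, rfl⟩
          exact ⟨x⁻¹, inv_mem hx, by group⟩ }
    have hQX : Q ≤ X := by rintro _ ⟨x, hx, rfl⟩; exact mul_mem hx hx
    have hQN : Q ≤ N ⊓ X := by
      rintro _ ⟨x, hx, rfl⟩
      exact ⟨by rw [← pow_two]; exact hsq x hx, mul_mem hx hx⟩
    have hQ8 : Q.relIndex X ≤ 8 :=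
      Cfsg.Lib.MacWilliams.relIndex_le (N := Q) hG hc (fun x hx => show ∃ y ∈ X, y * y = x ^ 2 from ⟨x, hx, (pow_two x).symm⟩) h8
    intro n hnN hnX
    have h1 := relIndex_mul_relIndex Q (N ⊓ X) X hQN inf_le_right
    rw [inf_relIndex_right] at h1
    have h2 : Q.relIndex (N ⊓ X) = 1 := by
      have h0 : Q.relIndex (N ⊓ X) ≠ 0 := index_ne_zero_of_finite (H := Q.subgroupOf (N ⊓ X))
      by_contra hne
      have h3 : 2 * N.relIndex X ≤ Q.relIndex (N ⊓ X) * N.relIndex X := Nat.mul_le_mul_right _ (by omega)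
      omega
    exact (relIndex_eq_one.1 h2) ⟨hnN, hnX⟩

end Cfsg.Lib.HaradaE8
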