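import Cfsg.Agent.Lib.HaradaE8.Tools

/-!
# The configuration: an involution with a four-group of fixed points

`B` is a normal elementary abelian subgroup of order eight, `Z` a four-subgroup of `B` centralized by
the involution `a`, and the centralizer of `Z` and `a` is `Z ⊔ zpowers a`.
-/

set_option autoImplicit false
set_option linter.style.haveILetI false

namespace Cfsg.Lib.HaradaE8

open Subgroup

universe u

/-- The configuration. -/
structure Cfg (S : Type u) [Group S] where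
  hS : IsPGroup 2 S
  B : Subgroup S
  Z : Subgroup S
  a : S
  b : S
  hBn : B.Normal
  hB8 : Nat.card B = 8
  hB2 : ∀ x ∈ B, x * x = 1
  hZB : Z ≤ B
  hZ4 : Nat.card Z = 4
  haa : a * a = 1
  haB : a ∉ centralizer (B : Set S)
  haZ : ∀ z ∈ Z, a * z = z * a
  hself : ∀ m : S, (∀ z ∈ Z, m * z = z * m) → a * m = m * a → m ∈ Z ∨ m * a ∈ Z
  hb : b ∈ B
  hbZ : b ∉ Z

namespace Cfg

variable {S : Type u} [Group S] (F : Cfg S)

/-- the centralizer of `B` -/
def C : Subgroup S := centralizer (F.B : Set S)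

/-- the commutator with `a` -/
def psi (x : S) : S := x⁻¹ * (F.a * x * F.a)

/-- the commutator of `b` with `a` -/
def z0 : S := F.psi F.b

theorem ainv : F.a⁻¹ = F.a := inv_eq_of_mul_eq_one_right F.haa

theorem conj_a (x y : S) : F.a * (x * y) * F.a = F.a * x * F.a * (F.a * y * F.a) := by
  calc F.a * (x * y) * F.a = F.a * x * (F.a * F.a) * y * F.a := by rw [F.haa]; group
    _ = _ := by group

theorem psi_eq (x : S) : F.a * x * F.a = x * F.psi x := by rw [psi, mul_inv_cancel_left]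

theorem psi_invert (x : S) : F.a * F.psi x * F.a = (F.psi x)⁻¹ := by
  rw [psi, mul_inv_rev, inv_inv, mul_inv_rev, mul_inv_rev, F.ainv]
  calc F.a * (x⁻¹ * (F.a * x * F.a)) * F.a = F.a * x⁻¹ * F.a * x * (F.a * F.a) := by group
    _ = _ := by rw [F.haa]; group

theorem psi_mul (x y : S) : F.psi (x * y) = y⁻¹ * F.psi x * y * F.psi y := by
  rw [psi, psi, psi, F.conj_a]; group

theorem Bcomm {x y : S} (hx : x ∈ F.B) (hy : y ∈ F.B) : x * y = y * x := by
  have e : ∀ t ∈ F.B, t⁻¹ = t := fun t ht => inv_eq_of_mul_eq_one_right (F.hB2 t ht)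
  rw [← e _ (mul_mem hx hy), mul_inv_rev, e x hx, e y hy]

theorem Binv {x : S} (hx : x ∈ F.B) : x⁻¹ = x := inv_eq_of_mul_eq_one_right (F.hB2 x hx)

theorem C_comm {c x : S} (hc : c ∈ F.C) (hx : x ∈ F.B) : c * x = x * c :=
  (mem_centralizer_iff.1 hc x hx).symm

theorem B_le_C : F.B ≤ F.C := fun _ hx => mem_centralizer_iff.2 fun _ hy => F.Bcomm hy hx

theorem Z_le_C : F.Z ≤ F.C := F.hZB.trans F.B_le_C

theorem C_normal : F.C.Normal := by
  haveI := F.hBn
  refine ⟨fun c hc g => mem_centralizer_iff.2 fun x hx => ?_⟩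
  have h := mem_centralizer_iff.1 hc (g⁻¹ * x * g⁻¹⁻¹) (F.hBn.conj_mem x hx g⁻¹)
  rw [inv_inv] at h
  calc x * (g * c * g⁻¹) = g * ((g⁻¹ * x * g) * c) * g⁻¹ := by group
    _ = g * (c * (g⁻¹ * x * g)) * g⁻¹ := by rw [h]
    _ = g * c * g⁻¹ * x := by group

theorem conj_a_mem {H : Subgroup S} (hH : H.Normal) {x : S} (hx : x ∈ H) : F.a * x * F.a ∈ H := by
  have h := hH.conj_mem x hx F.a
  rwa [F.ainv] at h

theorem psi_mem {H : Subgroup S} (hH : H.Normal) {x : S} (hx : x ∈ H) : F.psi x ∈ H :=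
  mul_mem (inv_mem hx) (F.conj_a_mem hH hx)

theorem a_commute {x : S} (h : F.a * x * F.a = x) : F.a * x = x * F.a := by
  calc F.a * x = F.a * x * (F.a * F.a) := by rw [F.haa, mul_one]
    _ = F.a * x * F.a * F.a := by group
    _ = x * F.a := by rw [h]

theorem fixed {c : S} (hc : c ∈ F.C) (h : F.a * c * F.a = c) : c ∈ F.Z := by
  rcases F.hself c (fun z hz => F.C_comm hc (F.hZB hz)) (F.a_commute h) with h' | h'
  · exact h'
  · exfalso
    apply F.haB
    have := mul_mem (inv_mem hc) (F.Z_le_C h')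
    rwa [inv_mul_cancel_left] at this

theorem psi_one {c : S} (hc : c ∈ F.C) (h : F.psi c = 1) : c ∈ F.Z :=
  F.fixed hc (by rw [F.psi_eq, h, mul_one])

theorem psi_Z {z : S} (hz : z ∈ F.Z) : F.psi z = 1 := by
  rw [psi, F.haZ z hz, mul_assoc z, F.haa, mul_one, inv_mul_cancel]

theorem psi_a : F.psi F.a = 1 := by rw [psi, F.haa, one_mul, inv_mul_cancel]

theorem fixB {c : S} (hc : c ∈ F.C) (h : F.psi c ∈ F.B) : F.psi c ∈ F.Z :=
  F.fixed (F.B_le_C h) (by rw [F.psi_invert, F.Binv h])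

theorem card_two : Nat.card F.B = 2 * Nat.card F.Z := by rw [F.hB8, F.hZ4]

theorem B_cases [Finite S] {x : S} (hx : x ∈ F.B) : x ∈ F.Z ∨ F.b * x ∈ F.Z :=
  two_cosets F.hZB F.card_two F.hb F.hbZ hx

theorem mem_C_of_gens [Finite S] {h : S} (hW : ∀ z ∈ F.Z, h * z = z * h) (hhb : h * F.b = F.b * h) : h ∈ F.C :=
  mem_centralizer_of_gens F.hZB F.card_two F.hb F.hbZ hW hhb

theorem z0_mem : F.z0 ∈ F.Z := F.fixB (F.B_le_C F.hb) (F.psi_mem F.hBn F.hb)

theorem z0_ne : F.z0 ≠ 1 := fun h => F.hbZ (F.psi_one (F.B_le_C F.hb) h)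

theorem z0_sq : F.z0 * F.z0 = 1 := F.hB2 _ (F.hZB F.z0_mem)

theorem conj_b : F.a * F.b * F.a = F.b * F.z0 := F.psi_eq F.b

theorem psi_B [Finite S] {x : S} (hx : x ∈ F.B) : F.psi x = 1 ∨ F.psi x = F.z0 := by
  rcases F.B_cases hx with h | h
  · exact Or.inl (F.psi_Z h)
  · right
    have e : x = F.b * (F.b * x) := by rw [← mul_assoc, F.hB2 _ F.hb, one_mul]
    rw [e, F.psi_mul, F.psi_Z h, mul_one, mul_assoc _ (F.psi F.b),
      F.Bcomm (F.psi_mem F.hBn F.hb) (F.hZB h), inv_mul_cancel_left]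
    rfl

theorem psi_zero {c : S} (hc : c ∈ F.C) (h : F.psi c = F.z0) : c ∈ F.B := by
  have h1 : F.psi (c * F.b) = 1 := by
    rw [F.psi_mul, h, ← z0, mul_assoc _ F.z0 F.b, F.Bcomm (F.hZB F.z0_mem) F.hb, inv_mul_cancel_left, F.z0_sq]
  have := mul_mem (F.hZB (F.psi_one (mul_mem hc (F.B_le_C F.hb)) h1)) (inv_mem F.hb)
  rwa [mul_inv_cancel_right] at this

theorem exists_Z {s : S} (hs : s ∈ F.Z) (hs1 : s ≠ 1) : ∃ p ∈ F.Z, p ≠ 1 ∧ p ≠ s := by
  by_contra h
  push Not at h
  have hle : F.Z ≤ zpowers s := fun x hx => by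
    by_cases hx1 : x = 1
    · rw [hx1]; exact one_mem _
    · rw [h x hx hx1]; exact mem_zpowers s
  have := card_dvd_of_le hle
  rw [F.hZ4, Nat.card_zpowers, orderOf_eq_prime (by rw [pow_two]; exact F.hB2 s (F.hZB hs)) hs1] at this
  norm_num at this

theorem Z_el [Finite S] {s p : S} (hs : s ∈ F.Z) (hp : p ∈ F.Z) (hs1 : s ≠ 1) (hp1 : p ≠ 1) (hsp : s ≠ p) :
    ∀ t ∈ F.Z, t = 1 ∨ t = s ∨ t = p ∨ t = s * p :=
  four_elems F.hZ4 (fun x hx => F.hB2 x (F.hZB hx)) hs hp hs1 hp1 hsp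

theorem psi_inv_of {x : S} (hx : x ∈ F.C) (h : F.psi x ∈ F.B) : F.psi x⁻¹ = F.psi x := by
  rw [psi, inv_inv]
  have e : F.a * x⁻¹ * F.a = (F.psi x)⁻¹ * x⁻¹ := by
    rw [← mul_inv_rev, ← F.psi_eq, mul_inv_rev, mul_inv_rev, F.ainv, mul_assoc]
  rw [e, F.Binv h, ← mul_assoc, F.C_comm hx h, mul_inv_cancel_right]

theorem two_fixed [Finite S] {x y : S} (hx : x ∈ F.C) (hy : y ∈ F.C) (hxB : x ∉ F.B) (hyB : y ∉ F.B)
    (hpx : F.psi x ∈ F.B) (hpy : F.psi y ∈ F.B) : x⁻¹ * y ∈ F.B := by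
  obtain ⟨p, hp, hp1, hp0⟩ := F.exists_Z F.z0_mem F.z0_ne
  have hel := F.Z_el F.z0_mem hp F.z0_ne hp1 (Ne.symm hp0)
  have hcases : ∀ t, t ∈ F.C → t ∉ F.B → F.psi t ∈ F.B → F.psi t = p ∨ F.psi t = F.z0 * p := by
    intro t ht htB htp
    rcases hel _ (F.fixB ht htp) with e | e | e | e
    · exact absurd (F.hZB (F.psi_one ht e)) htB
    · exact absurd (F.psi_zero ht e) htB
    · exact Or.inl e
    · exact Or.inr e
  have hm : F.psi (x⁻¹ * y) = F.psi x * F.psi y := by
    rw [F.psi_mul, F.psi_inv_of hx hpx, mul_assoc y⁻¹, ← F.C_comm hy hpx, inv_mul_cancel_left]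
  have hz : F.psi (x⁻¹ * y) = 1 ∨ F.psi (x⁻¹ * y) = F.z0 := by
    rw [hm]
    have hpp : p * p = 1 := F.hB2 _ (F.hZB hp)
    have hc : p * F.z0 = F.z0 * p := F.Bcomm (F.hZB hp) (F.hZB F.z0_mem)
    rcases hcases x hx hxB hpx with ex | ex <;> rcases hcases y hy hyB hpy with ey | ey <;> rw [ex, ey]
    · exact Or.inl hpp
    · exact Or.inr (by rw [← mul_assoc, hc, mul_assoc, hpp, mul_one])
    · exact Or.inr (by rw [mul_assoc, hpp, mul_one])
    · exact Or.inl (by rw [mul_assoc, ← mul_assoc p, hc, mul_assoc F.z0 p, hpp, mul_one, F.z0_sq])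
  rcases hz with h | h
  · exact F.hZB (F.psi_one (mul_mem (inv_mem hx) hy) h)
  · exact F.psi_zero (mul_mem (inv_mem hx) hy) h

/-- Counting elements moved by `a` into `E`. -/
theorem count [Finite S] {T : Type u} (f : T → S) (hf : Function.Injective f) (E : Subgroup S)
    (hM : ∀ t, ∀ z ∈ F.Z, f t * z = z * f t) (hE : ∀ t, F.psi (f t) ∈ E) :
    Nat.card T ≤ 8 * Nat.card E := by
  classical
  haveI : Finite T := Finite.of_injective f hf
  haveI : Fintype T := Fintype.ofFinite T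
  haveI : Fintype S := Fintype.ofFinite S
  set Zf : Finset S := Finset.univ.filter (fun z => z ∈ F.Z) with hZf
  have hZc : Zf.card = 4 := by rw [hZf, ← Fintype.card_subtype, ← Nat.card_eq_fintype_card]; exact F.hZ4
  have h := Finset.card_le_mul_card_image_of_maps_to (f := fun m => F.psi m) (s := Finset.univ.image f)
    (t := Finset.univ.filter (fun e => e ∈ E)) (fun m hm => by
      obtain ⟨t, -, rfl⟩ := Finset.mem_image.1 hm
      exact Finset.mem_filter.2 ⟨Finset.mem_univ _, hE t⟩) 8 (fun p _ => by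
    rcases ((Finset.univ.image f).filter fun m => F.psi m = p).eq_empty_or_nonempty with he | ⟨m0, hm0⟩
    · simp [he]
    rw [Finset.mem_filter] at hm0
    refine le_trans (Finset.card_le_card
      (t := Zf.image (fun z => z * m0) ∪ Zf.image (fun z => z * F.a * m0)) ?_)
      ((Finset.card_union_le _ _).trans (le_trans (Nat.add_le_add Finset.card_image_le Finset.card_image_le)
        (by rw [hZc])))
    intro m hm
    rw [Finset.mem_filter] at hm
    obtain ⟨t, -, rfl⟩ := Finset.mem_image.1 hm.1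
    obtain ⟨t0, -, rfl⟩ := Finset.mem_image.1 hm0.1
    have hk : F.a * (f t * (f t0)⁻¹) * F.a = f t * (f t0)⁻¹ := by
      have h1 : F.a * (f t)⁻¹⁻¹ * F.a = f t * p := by rw [inv_inv, F.psi_eq, hm.2]
      have h2 : F.a * f t0 * F.a = f t0 * p := by rw [F.psi_eq, hm0.2]
      rw [F.conj_a, show F.a * (f t0)⁻¹ * F.a = (F.a * f t0 * F.a)⁻¹ by
        rw [mul_inv_rev, mul_inv_rev, F.ainv, mul_assoc], h2, ← inv_inv (f t), h1, inv_inv]
      group
    have hcz : ∀ z ∈ F.Z, f t * (f t0)⁻¹ * z = z * (f t * (f t0)⁻¹) := fun z hz => by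
      have h1 : Commute (f t) z := hM t z hz
      have h2 : Commute (f t0)⁻¹ z := (show Commute (f t0) z from hM t0 z hz).inv_left
      exact (h1.mul_left h2).eq
    rcases F.hself _ hcz (F.a_commute hk) with h | h
    · refine Finset.mem_union_left _ (Finset.mem_image.2 ⟨_, Finset.mem_filter.2 ⟨Finset.mem_univ _, h⟩, ?_⟩)
      exact inv_mul_cancel_right _ _
    · refine Finset.mem_union_right _ (Finset.mem_image.2 ⟨_, Finset.mem_filter.2 ⟨Finset.mem_univ _, h⟩, ?_⟩)
      rw [mul_assoc _ F.a F.a, F.haa, mul_one, inv_mul_cancel_right])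
  rw [Finset.card_image_of_injective _ hf, Finset.card_univ, ← Nat.card_eq_fintype_card,
    ← Fintype.card_subtype, ← Nat.card_eq_fintype_card] at h
  exact h

/-- No element acting on `B` as a transvection with axis `Z`, other than `a`, may be moved into a small
subgroup. -/
theorem count_sixteen [Finite S] (E : Subgroup S) (hEn : E.Normal) (hEC : E ≤ F.C)
    (hz0 : F.z0 ∉ E) {e x q : S} (he : e ∈ F.C) (hee : e ∉ E) (hze : F.z0 * e ∉ E) (hpe : F.psi e ∈ E)
    (hxZ : ∀ z ∈ F.Z, x * z = z * x) (hxb : x * F.b * x⁻¹ = F.b * q)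
    (hq1 : q ≠ 1) (hq0 : q ≠ F.z0) (hpx : F.psi x ∈ E) : False := by
  classical
  haveI : Fintype S := Fintype.ofFinite S
  let pw : S → Bool → S := fun g c => cond c g 1
  let f : (Bool × Bool × Bool × Bool × E) → S := fun t =>
    ((t.2.2.2.2 : S) * pw F.z0 t.1 * pw e t.2.1) * (pw x t.2.2.1 * pw F.a t.2.2.2.1)
  have hCpart : ∀ (k l : Bool) (n : E), (n : S) * pw F.z0 k * pw e l ∈ F.C := fun k l n =>
    mul_mem (mul_mem (hEC n.2) (by cases k; exacts [one_mem _, F.Z_le_C F.z0_mem]))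
      (by cases l; exacts [one_mem _, he])
  -- the four values on `b`
  have hact : ∀ (i j i' j' : Bool), (pw x j * pw F.a i)⁻¹ * (pw x j' * pw F.a i') ∈ F.C → i = i' ∧ j = j' := by
    intro i j i' j' h
    have h' : (pw x j' * pw F.a i') * F.b * (pw x j' * pw F.a i')⁻¹
        = (pw x j * pw F.a i) * F.b * (pw x j * pw F.a i)⁻¹ := by
      have hc := F.C_comm h F.hb
      calc (pw x j' * pw F.a i') * F.b * (pw x j' * pw F.a i')⁻¹
          = (pw x j * pw F.a i) * (((pw x j * pw F.a i)⁻¹ * (pw x j' * pw F.a i')) * F.b)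
              * (pw x j' * pw F.a i')⁻¹ := by group
        _ = _ := by rw [hc]; group
    have val : ∀ (i j : Bool), (pw x j * pw F.a i) * F.b * (pw x j * pw F.a i)⁻¹
        = F.b * (cond j q 1 * cond i F.z0 1) := by
      intro i j
      cases i <;> cases j <;> simp only [pw, cond_true, cond_false, one_mul, mul_one, inv_one]
      · exact hxb
      · rw [F.ainv]; exact F.conj_b
      · calc x * F.a * F.b * (x * F.a)⁻¹ = x * (F.a * F.b * F.a⁻¹) * x⁻¹ := by group
          _ = x * F.b * (F.z0 * x⁻¹) := by rw [F.ainv, F.conj_b]; group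
          _ = x * F.b * (x⁻¹ * F.z0) := by
            rw [((show Commute x F.z0 from hxZ _ F.z0_mem).inv_left).eq]
          _ = F.b * (q * F.z0) := by rw [← mul_assoc, hxb, mul_assoc]
    rw [val, val] at h'
    have h'' := mul_left_cancel h'
    cases i <;> cases j <;> cases i' <;> cases j' <;>
      simp only [cond_true, cond_false, one_mul, mul_one] at h'' <;>
      first
        | exact ⟨rfl, rfl⟩
        | exact absurd h'' hq1
        | exact absurd h''.symm hq1
        | exact absurd h'' F.z0_ne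
        | exact absurd h''.symm F.z0_ne
        | exact absurd h'' hq0
        | exact absurd h''.symm hq0
        | exact absurd (mul_eq_left.1 h'') F.z0_ne
        | exact absurd (mul_eq_left.1 h''.symm) F.z0_ne
        | exact absurd (mul_eq_right.1 h'') hq1
        | exact absurd (mul_eq_right.1 h''.symm) hq1
        | exact absurd (by
            calc q = q * F.z0 * F.z0 := by rw [mul_assoc, F.z0_sq, mul_one]
              _ = F.z0 := by rw [h'', one_mul]) hq0
        | exact absurd (by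
            calc q = q * F.z0 * F.z0 := by rw [mul_assoc, F.z0_sq, mul_one]
              _ = F.z0 := by rw [h''.symm, one_mul]) hq0
  have hind : ∀ (k l k' l' : Bool) (n n' : E),
      (n : S) * pw F.z0 k * pw e l = (n' : S) * pw F.z0 k' * pw e l' → k = k' ∧ l = l' := by
    intro k l k' l' n n' h
    have h1 : (pw F.z0 k * pw e l) * (pw F.z0 k' * pw e l')⁻¹ ∈ E := by
      have e1 : (pw F.z0 k * pw e l) * (pw F.z0 k' * pw e l')⁻¹ = (n : S)⁻¹ * n' := by
        calc (pw F.z0 k * pw e l) * (pw F.z0 k' * pw e l')⁻¹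
            = (n : S)⁻¹ * ((n : S) * pw F.z0 k * pw e l) * (pw F.z0 k' * pw e l')⁻¹ := by group
          _ = _ := by rw [h]; group
      rw [e1]; exact mul_mem (inv_mem n.2) n'.2
    clear h
    haveI := hEn
    set π := QuotientGroup.mk' E with hπ
    have hn : ∀ g, g ∉ E → π g ≠ 1 := fun g hg h => hg ((QuotientGroup.eq_one_iff g).1 h)
    have h2 : π (pw F.z0 k * pw e l) = π (pw F.z0 k' * pw e l') := by
      rw [← mul_inv_eq_one, ← map_inv, ← map_mul, hπ, QuotientGroup.mk'_apply, QuotientGroup.eq_one_iff]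
      exact h1
    have hZ2 : π F.z0 * π F.z0 = 1 := by rw [← map_mul, F.z0_sq, map_one]
    have hprod := hn _ hze
    rw [map_mul] at hprod
    cases k <;> cases l <;> cases k' <;> cases l' <;>
      simp only [pw, cond_true, cond_false, map_one, map_mul, one_mul, mul_one] at h2 <;>
      first
        | exact ⟨rfl, rfl⟩
        | exact absurd h2 (hn _ hz0)
        | exact absurd h2.symm (hn _ hz0)
        | exact absurd h2 (hn _ hee)
        | exact absurd h2.symm (hn _ hee)
        | exact absurd h2 hprod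
        | exact absurd h2.symm hprod
        | exact absurd (by rw [h2, hZ2]) hprod
        | exact absurd (by rw [← h2, hZ2]) hprod
        | exact absurd (mul_eq_left.1 h2) (hn _ hee)
        | exact absurd (mul_eq_left.1 h2.symm) (hn _ hee)
        | exact absurd (mul_eq_right.1 h2) (hn _ hz0)
        | exact absurd (mul_eq_right.1 h2.symm) (hn _ hz0)
  have hf : Function.Injective f := by
    rintro ⟨k, l, j, i, n⟩ ⟨k', l', j', i', n'⟩ h
    simp only [f] at h
    have hxa : (pw x j * pw F.a i)⁻¹ * (pw x j' * pw F.a i') ∈ F.C := by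
      haveI := F.C_normal
      have h1 : (pw x j * pw F.a i) * (pw x j' * pw F.a i')⁻¹ ∈ F.C := by
        have e1 : (pw x j * pw F.a i) * (pw x j' * pw F.a i')⁻¹
            = ((n : S) * pw F.z0 k * pw e l)⁻¹ * ((n' : S) * pw F.z0 k' * pw e l') := by
          calc (pw x j * pw F.a i) * (pw x j' * pw F.a i')⁻¹
              = ((n : S) * pw F.z0 k * pw e l)⁻¹ * (((n : S) * pw F.z0 k * pw e l) * (pw x j * pw F.a i))
                  * (pw x j' * pw F.a i')⁻¹ := by group
            _ = _ := by rw [h]; group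
        rw [e1]; exact mul_mem (inv_mem (hCpart _ _ _)) (hCpart _ _ _)
      have h2 := inv_mem h1
      rw [mul_inv_rev, inv_inv] at h2
      have h3 := F.C_normal.conj_mem _ h2 (pw x j * pw F.a i)⁻¹
      rwa [inv_inv, mul_assoc _ _ (pw x j * pw F.a i), mul_assoc, inv_mul_cancel, mul_one] at h3
    obtain ⟨rfl, rfl⟩ := hact i j i' j' hxa
    have hu := mul_right_cancel h
    obtain ⟨rfl, rfl⟩ := hind k l k' l' n n' hu
    exact Prod.ext rfl (Prod.ext rfl (Prod.ext rfl (Prod.ext rfl (Subtype.ext (mul_right_cancel (mul_right_cancel hu))))))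
  have hpsi1 : F.psi 1 = 1 := F.psi_Z (one_mem _)
  have hcount := F.count f hf E
    (fun t z hz => by
      have h1 : Commute ((t.2.2.2.2 : S) * pw F.z0 t.1 * pw e t.2.1) z :=
        F.C_comm (hCpart _ _ _) (F.hZB hz)
      have h2 : Commute (pw x t.2.2.1) z := by
        cases t.2.2.1
        · exact Commute.one_left z
        · exact hxZ z hz
      have h3 : Commute (pw F.a t.2.2.2.1) z := by
        cases t.2.2.2.1
        · exact Commute.one_left z
        · exact F.haZ z hz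
      exact (h1.mul_left (h2.mul_left h3)).eq)
    (fun t => by
      have hmulE : ∀ {p r : S}, F.psi p ∈ E → F.psi r ∈ E → F.psi (p * r) ∈ E := fun {p r} hp hr => by
        rw [F.psi_mul]
        refine mul_mem ?_ hr
        have := hEn.conj_mem _ hp r⁻¹
        rwa [inv_inv] at this
      have hp : ∀ (g : S) (c : Bool), F.psi g ∈ E → F.psi (pw g c) ∈ E := fun g c hg => by
        cases c
        · show F.psi 1 ∈ E; rw [hpsi1]; exact one_mem _
        · exact hg
      refine hmulE (hmulE (hmulE (F.psi_mem hEn t.2.2.2.2.2) (hp _ _ ?_)) (hp _ _ hpe))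
        (hmulE (hp _ _ hpx) (hp _ _ ?_))
      · rw [F.psi_Z F.z0_mem]; exact one_mem _
      · rw [F.psi_a]; exact one_mem _)
  rw [Nat.card_prod, Nat.card_prod, Nat.card_prod, Nat.card_prod, Nat.card_eq_fintype_card (α := Bool),
    Fintype.card_bool] at hcount
  have := Nat.card_pos (α := E)
  omega

/-- An element acting as `a` on `B`, composed with `a`, centralizes `B`. -/
theorem mul_a_mem_C [Finite S] {l : S} (hlZ : ∀ z ∈ F.Z, l * z = z * l) (hlb : l * F.b * l⁻¹ = F.b * F.z0) :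
    l * F.a ∈ F.C := by
  refine F.mem_C_of_gens (fun z hz => (Commute.mul_left (hlZ z hz) (F.haZ z hz)).eq) ?_
  have h1 : l * (F.a * F.b * F.a) * l⁻¹ = F.b := by
    rw [F.conj_b]
    calc l * (F.b * F.z0) * l⁻¹ = l * F.b * l⁻¹ * (l * F.z0 * l⁻¹) := by group
      _ = F.b * F.z0 * F.z0 := by rw [hlb, hlZ _ F.z0_mem, mul_inv_cancel_right]
      _ = F.b := by rw [mul_assoc, F.z0_sq, mul_one]
  calc l * F.a * F.b = l * (F.a * F.b * F.a) * l⁻¹ * (l * F.a⁻¹) := by group
    _ = F.b * (l * F.a) := by rw [h1, F.ainv]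

theorem conj_b_of_mul_a {x : S} (h : x * F.a ∈ F.C) : x * F.b * x⁻¹ = F.b * F.z0 := by
  calc x * F.b * x⁻¹ = x * ((F.a * F.a) * F.b * (F.a * F.a)) * x⁻¹ := by rw [F.haa, one_mul, mul_one]
    _ = x * F.a * (F.a * F.b * F.a) * (F.a * x⁻¹) := by group
    _ = x * F.a * (F.b * F.z0) * (x * F.a)⁻¹ := by rw [F.conj_b, mul_inv_rev, F.ainv]
    _ = _ := by rw [F.C_comm h (mul_mem F.hb (F.hZB F.z0_mem)), mul_inv_cancel_right]

theorem flag [Finite S] {z1 : S} (hz1 : z1 ∈ F.Z) (hc : ∀ g : S, g * z1 * g⁻¹ = z1) (h1 : z1 ≠ 1)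
    (h0 : z1 ≠ F.z0) : F.Z.Normal := by
  haveI := F.hBn
  obtain ⟨z, x2, x3, W, hWn, hWB, hW4, hzW, hz1', hzc, hx2, hx21, hzx2, -, -⟩ := exists_flag F.hS F.B F.hB8
  have hzZ : z ∈ F.Z := F.fixed (F.B_le_C (hWB hzW)) (by
    have := hzc F.a; rwa [F.ainv] at this)
  by_cases hzz : z = z1
  · subst hzz
    have hx2Z : x2 ∈ F.Z := by
      have hd : F.psi x2 ∈ W := mul_mem (inv_mem hx2) (F.conj_a_mem hWn hx2)
      rcases F.psi_B (hWB hx2) with e | e
      · exact F.psi_one (F.B_le_C (hWB hx2)) e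
      · exfalso
        have hW2 : ∀ x ∈ W, x * x = 1 := fun x hx => F.hB2 x (hWB hx)
        rcases four_elems hW4 hW2 hzW hx2 hz1' hx21 hzx2 _ hd with r | r | r | r
        · exact F.z0_ne (e.symm.trans r)
        · exact h0 (e.symm.trans r).symm
        · have : x2 ∈ F.Z := by rw [← r, e]; exact F.z0_mem
          exact F.z0_ne (e.symm.trans (F.psi_Z this))
        · have : x2 ∈ F.Z := by
            have h := mul_mem (inv_mem hz1) (show z * x2 ∈ F.Z by rw [← r, e]; exact F.z0_mem)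
            rwa [inv_mul_cancel_left] at h
          exact F.z0_ne (e.symm.trans (F.psi_Z this))
    have hle : W ≤ F.Z := by
      intro t ht
      rcases four_elems hW4 (fun x hx => F.hB2 x (hWB hx)) hzW hx2 hz1' hx21 hzx2 t ht with r | r | r | r <;>
        rw [r]
      exacts [one_mem _, hz1, hx2Z, mul_mem hz1 hx2Z]
    rw [← eq_of_le_of_card_ge hle (by rw [F.hZ4, hW4])]
    exact hWn
  · refine ⟨fun t ht g => ?_⟩
    rcases F.Z_el hzZ hz1 hz1' h1 hzz t ht with r | r | r | r <;> rw [r]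
    · rw [mul_one, mul_inv_cancel]; exact one_mem _
    · rw [hzc]; exact hzZ
    · rw [hc]; exact hz1
    · rw [← conj_mul, hzc, hc]; exact mul_mem hzZ hz1

end Cfg

end Cfsg.Lib.HaradaE8
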