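import Cfsg.Agent.Lib.HaradaE8.Cfg

/-!
# The bound when `C` is elementary abelian of order sixteen
-/

set_option autoImplicit false
set_option linter.style.haveILetI false

namespace Cfsg.Lib.HaradaE8

open Subgroup

universe u

namespace Cfg

variable {S : Type u} [Group S] [Finite S] (F : Cfg S)

/-- The bound when `C = B ∪ u B` with `u` an involution. -/
theorem elementary_bound {u : S} (hu : u ∈ F.C) (huB : u ∉ F.B) (hu2 : u * u = 1)
    (hcases : ∀ x ∈ F.C, x ∈ F.B ∨ u⁻¹ * x ∈ F.B) {L N : Subgroup S} (hNL : N ≤ L) (hsq : SqIn L N) :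
    N.relIndex L ≤ 16 := by
  classical
  haveI := F.hBn
  haveI := F.C_normal
  have hui : u⁻¹ = u := inv_eq_of_mul_eq_one_right hu2
  have hform : ∀ x ∈ F.C, x ∈ F.B ∨ ∃ t ∈ F.B, x = u * t := fun x hx => by
    rcases hcases x hx with h | h
    · exact Or.inl h
    · exact Or.inr ⟨_, h, by rw [mul_inv_cancel_left]⟩
  have hCsq : ∀ x ∈ F.C, x * x = 1 := by
    intro x hx
    rcases hform x hx with h | ⟨t, ht, rfl⟩
    · exact F.hB2 x h
    · calc u * t * (u * t) = u * (t * u) * t := by group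
        _ = u * (u * t) * t := by rw [F.C_comm hu ht]
        _ = (u * u) * (t * t) := by group
        _ = 1 := by rw [hu2, F.hB2 t ht, one_mul]
  have hCinv : ∀ x ∈ F.C, x⁻¹ = x := fun x hx => inv_eq_of_mul_eq_one_right (hCsq x hx)
  have hCcomm : ∀ x ∈ F.C, ∀ y ∈ F.C, x * y = y * x := fun x hx y hy => by
    rw [← hCinv _ (mul_mem hx hy), mul_inv_rev, hCinv x hx, hCinv y hy]
  -- the commutator of `u`
  set q := F.psi u with hq
  have hqC : q ∈ F.C := F.psi_mem F.C_normal hu
  have hqZ : q ∈ F.Z := F.fixed hqC (by rw [hq, F.psi_invert, hCinv _ hqC])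
  have hq1 : q ≠ 1 := fun h => huB (F.hZB (F.psi_one hu h))
  have hq0 : q ≠ F.z0 := fun h => huB (F.psi_zero hu h)
  have helZ := F.Z_el F.z0_mem hqZ F.z0_ne hq1 (Ne.symm hq0)
  -- only `a` fixes `Z` pointwise
  have stab : ∀ h : S, (∀ z ∈ F.Z, h * z = z * h) → h ∈ F.C ∨ h * F.a ∈ F.C := by
    intro h hhZ
    have hpC : F.psi h ∈ F.C := by
      refine F.mem_C_of_gens (fun z hz => ?_) ?_
      · have c1 : Commute h z := hhZ z hz
        have c2 : Commute F.a z := F.haZ z hz
        exact (c1.inv_left.mul_left ((c2.mul_left c1).mul_left c2)).eq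
      · rw [← mul_inv_eq_iff_eq_mul]
        have hpB : h * F.b * h⁻¹ ∈ F.B := F.hBn.conj_mem _ F.hb h
        have hab : F.a * (h * F.b * h⁻¹) * F.a = h * F.b * h⁻¹ * F.z0 := by
          rw [F.psi_eq]
          congr 1
          rcases F.psi_B hpB with s | s
          · exfalso
            apply F.hbZ
            have h2 := F.psi_one (F.B_le_C hpB) s
            have := hhZ _ h2
            have e1 : h * F.b * h⁻¹ = F.b := by
              calc h * F.b * h⁻¹ = h⁻¹ * (h * (h * F.b * h⁻¹)) := by group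
                _ = h⁻¹ * (h * F.b * h⁻¹ * h) := by rw [this]
                _ = F.b := by group
            exact e1 ▸ h2
          · exact s
        have hz0 : h * F.z0 * h⁻¹ = F.z0 := by rw [hhZ _ F.z0_mem, mul_inv_cancel_right]
        calc F.psi h * F.b * (F.psi h)⁻¹ = h⁻¹ * (F.a * (h * (F.a * F.b * F.a) * h⁻¹) * F.a) * h := by
              rw [psi, mul_inv_rev, mul_inv_rev, mul_inv_rev, inv_inv, F.ainv]; group
          _ = h⁻¹ * (F.a * (h * F.b * h⁻¹ * (h * F.z0 * h⁻¹)) * F.a) * h := by rw [F.conj_b]; group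
          _ = F.b := by
            rw [hz0, F.conj_a, hab, F.haZ _ F.z0_mem, mul_assoc F.z0 F.a, F.haa, mul_one,
              mul_assoc (h * F.b * h⁻¹), F.z0_sq, mul_one]
            group
    have hcZ : F.psi h ∈ F.Z := F.fixed hpC (by rw [F.psi_invert, hCinv _ hpC])
    obtain ⟨w, hw, hwp⟩ : ∃ w ∈ F.C, F.psi w = F.psi h := by
      rcases helZ _ hcZ with r | r | r | r <;> rw [r]
      · exact ⟨1, one_mem _, F.psi_Z (one_mem _)⟩
      · exact ⟨F.b, F.B_le_C F.hb, rfl⟩
      · exact ⟨u, hu, rfl⟩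
      · exact ⟨F.b * u, mul_mem (F.B_le_C F.hb) hu, by
          rw [F.psi_mul, ← z0, ← hq, mul_assoc u⁻¹, ← F.C_comm hu (F.hZB F.z0_mem), inv_mul_cancel_left]⟩
    have hfix : F.psi (h * w) = 1 := by
      rw [F.psi_mul, hwp, mul_assoc w⁻¹, ← F.C_comm hw (F.hZB hcZ), inv_mul_cancel_left, F.hB2 _ (F.hZB hcZ)]
    have hhw : h = h * w * w⁻¹ := by group
    rcases F.hself (h * w) (fun z hz => (Commute.mul_left (hhZ z hz) (F.C_comm hw (F.hZB hz))).eq)
        (F.a_commute (by rw [F.psi_eq, hfix, mul_one])) with r | r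
    · left; rw [hhw]; exact mul_mem (F.Z_le_C r) (inv_mem hw)
    · right
      have h2 := F.conj_a_mem F.C_normal (inv_mem hw)
      have e1 : h * F.a = h * w * F.a * (F.a * w⁻¹ * F.a) := by
        calc h * F.a = h * w * w⁻¹ * F.a := by group
          _ = h * w * (F.a * F.a) * w⁻¹ * F.a := by rw [F.haa, mul_one]
          _ = _ := by group
      rw [e1]
      exact mul_mem (F.Z_le_C r) h2
  -- the size of `D`
  set D := L ⊓ F.C with hD
  have hDC : D ≤ F.C := inf_le_right
  have hBC2 : F.B.relIndex F.C ≤ 2 := relIndex_le_two fun x hx y hy hxB hyB => by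
    have := mul_mem (inv_mem ((hcases x hx).resolve_left hxB)) ((hcases y hy).resolve_left hyB)
    rwa [mul_inv_rev, inv_inv, mul_assoc, mul_inv_cancel_left] at this
  have hC16 : Nat.card F.C ≤ 16 := by
    have h := card_mul_index (F.B.subgroupOf F.C)
    rw [Nat.card_congr (subgroupOfEquivOfLe F.B_le_C).toEquiv, F.hB8] at h
    change 8 * F.B.relIndex F.C = Nat.card F.C at h
    omega
  have hDcard : Nat.card ↥(N ⊓ D) * N.relIndex D = Nat.card D := by
    rw [← inf_relIndex_right N D]
    have h := card_mul_index ((N ⊓ D).subgroupOf D)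
    rw [Nat.card_congr (subgroupOfEquivOfLe inf_le_right).toEquiv] at h
    exact h
  have hD16 : Nat.card D ≤ 16 := (Nat.le_of_dvd Nat.card_pos (card_dvd_of_le hDC)).trans hC16
  have hsplit := relIndex_le_mul N F.C L
  rw [← hD] at hsplit
  have hfour := four_bound F.hS F.B F.hB8 F.hB2 hNL hsq
  rw [show L ⊓ centralizer (F.B : Set S) = D from rfl] at hfour
  by_contra hbig
  push Not at hbig
  have hf8 : 8 ≤ N.relIndex D := eight_le_relIndex F.hS (by omega)
  have hND1 := Nat.card_pos (α := ↥(N ⊓ D))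
  have hND : Nat.card ↥(N ⊓ D) ≤ 2 := by
    by_contra h
    have := Nat.mul_le_mul (show 3 ≤ Nat.card ↥(N ⊓ D) by omega) hf8
    omega
  -- commutators
  have hcomm : ∀ x ∈ D, ∀ y ∈ L, x⁻¹ * (y * x * y⁻¹) ∈ N ⊓ D := fun x hx y hy =>
    ⟨hsq.comm hx.1 hy, hNL (hsq.comm hx.1 hy),
      (show x⁻¹ * (y * x * y⁻¹) ∈ F.C from mul_mem (inv_mem (hDC hx)) (F.C_normal.conj_mem x (hDC hx) y))⟩
  by_cases hD8 : Nat.card D ≤ 8
  · -- `L` centralizes `D`
    have hND1' : Nat.card ↥(N ⊓ D) = 1 := by
      by_contra h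
      have := Nat.mul_le_mul (show 2 ≤ Nat.card ↥(N ⊓ D) by omega) hf8
      omega
    have hDeq : Nat.card D = 8 := by rw [hND1', one_mul] at hDcard; omega
    have hcen : ∀ x ∈ D, ∀ y ∈ L, y * x = x * y := by
      intro x hx y hy
      have h1 := hcomm x hx y hy
      rw [Subgroup.eq_bot_of_card_le (N ⊓ D) hND1'.le, mem_bot] at h1
      exact mul_inv_eq_iff_eq_mul.1 (inv_mul_eq_one.1 h1).symm
    have hnBD : ¬ F.B ≤ D := by
      intro hle
      have : L ≤ F.C := fun y hy => mem_centralizer_iff.2 fun x hx => (hcen x (hle hx) y hy).symm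
      rw [relIndex_eq_one.2 this, mul_one] at hsplit
      have := Nat.le_mul_of_pos_left (N.relIndex D) hND1
      omega
    set U := D ⊓ F.B with hU
    have hDB2 : D.relIndex F.B ≤ 2 := by
      have h1 := relIndex_le_two (K := D) (X := F.C) fun x hx y hy hxD hyD => ?_
      · have h2 := relIndex_mul_relIndex (D ⊓ F.B) F.B F.C inf_le_right F.B_le_C
        have h3 := relIndex_mul_relIndex (D ⊓ F.B) D F.C inf_le_left hDC
        rw [inf_relIndex_right] at h2
        rw [inf_relIndex_left] at h3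
        have h4 : D.relIndex F.C * Nat.card D = Nat.card F.C := by
          have h := card_mul_index (D.subgroupOf F.C)
          rw [Nat.card_congr (subgroupOfEquivOfLe hDC).toEquiv, mul_comm] at h
          exact h
        have h5 : F.B.relIndex F.C * 8 = Nat.card F.C := by
          have h := card_mul_index (F.B.subgroupOf F.C)
          rw [Nat.card_congr (subgroupOfEquivOfLe F.B_le_C).toEquiv, mul_comm, F.hB8] at h
          exact h
        rw [hDeq] at h4
        have h6 : F.B.relIndex D ≤ 2 := by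
          refine relIndex_le_two fun x hx y hy hxB hyB => ?_
          have := mul_mem (inv_mem ((hcases x (hDC hx)).resolve_left hxB)) ((hcases y (hDC hy)).resolve_left hyB)
          rwa [mul_inv_rev, inv_inv, mul_assoc, mul_inv_cancel_left] at this
        have h7 : D.relIndex F.C = F.B.relIndex F.C := by omega
        rw [← h7, ← h3] at h2
        have h8 := Nat.eq_of_mul_eq_mul_right (relIndex_pos D F.C) h2
        omega
      · have hidx : (D.subgroupOf F.C).index = 2 := by
          have h := card_mul_index (D.subgroupOf F.C)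
          rw [Nat.card_congr (subgroupOfEquivOfLe hDC).toEquiv, hDeq] at h
          rcases Nat.lt_or_ge (D.subgroupOf F.C).index 2 with h' | h'
          · exfalso
            apply hxD
            have h0 : (D.subgroupOf F.C).index ≠ 0 := index_ne_zero_of_finite
            have h1 : (D.subgroupOf F.C).index = 1 := by omega
            have := index_eq_one.1 h1
            exact (this ▸ mem_top (⟨x, hx⟩ : F.C) : (⟨x, hx⟩ : F.C) ∈ D.subgroupOf F.C)
          · omega
        exact (mul_mem_iff_of_index_two hidx (a := (⟨x, hx⟩ : F.C)⁻¹) (b := ⟨y, hy⟩)).2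
          ⟨fun h => absurd (inv_mem_iff.1 h) hxD, fun h => absurd h hyD⟩
    have hU4 : Nat.card U = 4 := by
      have h := card_mul_index (U.subgroupOf F.B)
      rw [Nat.card_congr (subgroupOfEquivOfLe inf_le_right).toEquiv, F.hB8] at h
      change Nat.card U * (D ⊓ F.B).relIndex F.B = 8 at h
      rw [inf_relIndex_right] at h
      have hne : D.relIndex F.B ≠ 1 := fun h1 => hnBD (relIndex_eq_one.1 h1)
      have hpos := relIndex_pos D F.B
      have h2 : D.relIndex F.B = 2 := by omega
      rw [h2] at h; omega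
    have hUB : U ≤ F.B := inf_le_right
    have hUfix : ∀ x ∈ U, ∀ y ∈ L, y * x = x * y := fun x hx => hcen x hx.1
    obtain ⟨x, hxB, hxU⟩ : ∃ x ∈ F.B, x ∉ U := by
      by_contra h
      push Not at h
      exact hnBD (fun t ht => (h t ht).1)
    have hc2 : Nat.card F.B = 2 * Nat.card U := by rw [F.hB8, hU4]
    let v : S → S := fun y => x⁻¹ * (y * x * y⁻¹)
    haveI : Fintype S := Fintype.ofFinite S
    let T : Finset S := Finset.univ.filter (fun t => t ∈ U)
    have hT : T.card = 4 := by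
      rw [← Fintype.card_subtype, ← Nat.card_eq_fintype_card]; exact hU4
    have hv : ∀ y ∈ L, v y ∈ T := by
      intro y hy
      refine Finset.mem_filter.2 ⟨Finset.mem_univ _, ?_⟩
      rcases two_cosets hUB hc2 hxB hxU (F.hBn.conj_mem x hxB y) with h | h
      · exfalso
        apply hxU
        have e1 : y * x * y⁻¹ = x := by
          calc y * x * y⁻¹ = y⁻¹ * (y * (y * x * y⁻¹)) := by group
            _ = y⁻¹ * (y * x * y⁻¹ * y) := by rw [hUfix _ h y hy]
            _ = x := by group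
        exact e1 ▸ h
      · show x⁻¹ * _ ∈ U
        rw [F.Binv hxB]; exact h
    obtain ⟨hp4, hp4eq⟩ := values_le L F.C v T hv (fun y hy y' hy' hyy => by
      refine mem_centralizer_of_gens hUB hc2 hxB hxU (fun t ht => ?_) ?_
      · exact hUfix t ht _ (mul_mem (inv_mem hy) hy')
      · have h' : y * x * y⁻¹ = y' * x * y'⁻¹ := mul_left_cancel hyy
        calc y⁻¹ * y' * x = y⁻¹ * (y' * x * y'⁻¹) * y' := by group
          _ = y⁻¹ * (y * x * y⁻¹) * y' := by rw [h']
          _ = _ := by group)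
    have hp : T.card ≤ F.C.relIndex L := by
      obtain ⟨k, hk⟩ := relIndex_pow F.hS F.C L
      rw [hT]
      by_contra h
      have : k < 2 := (Nat.pow_lt_pow_iff_right (le_refl 2)).1 (show 2 ^ k < 2 ^ 2 by omega)
      have : 2 ^ k ≤ 2 ^ 1 := Nat.pow_le_pow_right (by norm_num) (by omega)
      have := Nat.mul_le_mul (show N.relIndex D ≤ 8 by rw [← hDcard, hND1', one_mul] at hD8; exact hD8) (show F.C.relIndex L ≤ 2 by omega)
      omega
    have hall : ∀ t ∈ U, ∃ y ∈ L, y * x * y⁻¹ = x * t := fun t ht => by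
      obtain ⟨y, hy, e⟩ := hp4eq hp t (Finset.mem_filter.2 ⟨Finset.mem_univ _, ht⟩)
      exact ⟨y, hy, by rw [← e]; exact (mul_inv_cancel_left _ _).symm⟩
    -- `U` is normal
    obtain ⟨z, x2, x3, W, hWn, hWB, hW4, -, -, -, -, -, -, -, -⟩ := exists_flag F.hS F.B F.hB8
    have hWU : W ≤ U := by
      intro t ht
      by_contra htU
      have hlt : U ≤ W := by
        intro r hr
        obtain ⟨y, hy, e⟩ := hall r hr
        have htx : x * t ∈ U := (two_cosets hUB hc2 hxB hxU (hWB ht)).resolve_left htU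
        have hyt : y * t * y⁻¹ = t * r := by
          have h1 : y * (x * t) * y⁻¹ = x * t := by rw [hUfix _ htx y hy, mul_inv_cancel_right]
          calc y * t * y⁻¹ = (y * x * y⁻¹)⁻¹ * (y * (x * t) * y⁻¹) := by group
            _ = r⁻¹ * (x⁻¹ * x) * t := by rw [e, h1]; group
            _ = r * t := by rw [inv_mul_cancel, mul_one, F.Binv (hUB hr)]
            _ = t * r := F.Bcomm (hUB hr) (hWB ht)
        have hm := hWn.conj_mem t ht y
        rw [hyt] at hm
        have := mul_mem (inv_mem ht) hm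
        rwa [inv_mul_cancel_left] at this
      exact htU (eq_of_le_of_card_ge hlt (by rw [hW4, hU4]) ▸ ht)
    have hUn : U.Normal := eq_of_le_of_card_ge hWU (by rw [hW4, hU4]) ▸ hWn
    have hUZ : ¬ F.Z ≤ U := by
      intro h
      have hZU : F.Z = U := eq_of_le_of_card_ge h (by rw [hU4, F.hZ4])
      obtain ⟨r, hr, hr1, hr0⟩ := F.exists_Z F.z0_mem F.z0_ne
      obtain ⟨y, hy, e⟩ := hall r (h hr)
      have hyZ : ∀ w ∈ F.Z, y * w = w * y := fun w hw => hUfix w (h hw) y hy
      have hxbZ : F.b * x ∈ F.Z := (F.B_cases hxB).resolve_left fun hh => hxU (h hh)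
      have hyb : y * F.b * y⁻¹ = F.b * r := by
        have hxz : x * (F.b * x) = F.b := by
          rw [← mul_assoc, F.Bcomm hxB F.hb, mul_assoc, F.hB2 x hxB, mul_one]
        calc y * F.b * y⁻¹ = y * (x * (F.b * x)) * y⁻¹ := by rw [hxz]
          _ = y * x * y⁻¹ * (y * (F.b * x) * y⁻¹) := by group
          _ = x * r * (F.b * x) := by rw [e, hyZ _ hxbZ, mul_inv_cancel_right]
          _ = x * (F.b * x) * r := by rw [mul_assoc, F.Bcomm (F.hZB hr) (F.hZB hxbZ), ← mul_assoc]
          _ = _ := by rw [hxz]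
      rcases stab y hyZ with hh | hh
      · rw [F.C_comm hh F.hb, mul_inv_cancel_right] at hyb
        exact hr1 (left_eq_mul.1 hyb)
      · exact hr0 (mul_left_cancel (hyb.symm.trans (F.conj_b_of_mul_a hh)))
    obtain ⟨x0, hx0, hx0U⟩ := SetLike.not_le_iff_exists.1 hUZ
    have hz0U : F.z0 ∈ U := by
      obtain ⟨u1, hu1, hu1Z⟩ : ∃ u1 ∈ U, u1 ∉ F.Z := by
        by_contra h
        push Not at h
        exact hUZ (eq_of_le_of_card_ge h (by rw [hU4, F.hZ4])).ge
      rcases F.psi_B (hUB hu1) with e | e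
      · exact absurd (F.psi_one (F.B_le_C (hUB hu1)) e) hu1Z
      · exact e ▸ F.psi_mem hUn hu1
    obtain ⟨d, hdD, hdB⟩ := SetLike.not_le_iff_exists.1 (fun h : D ≤ F.B => hnBD
      (eq_of_le_of_card_ge h (by rw [F.hB8, hDeq])).ge)
    obtain ⟨t, ht, rfl⟩ := (hform d (hDC hdD)).resolve_left hdB
    set q' := F.psi (u * t) with hq'
    have hq'e : q' = q * F.psi t := by
      rw [hq', F.psi_mul, ← hq, mul_assoc t⁻¹, ← F.Bcomm ht (F.hZB hqZ), inv_mul_cancel_left]
    have hq'Z : q' ∈ F.Z := by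
      rw [hq'e]
      refine mul_mem hqZ ?_
      rcases F.psi_B ht with e | e <;> rw [e]
      exacts [one_mem _, F.z0_mem]
    have hq'ne : q' ≠ 1 ∧ q' ≠ F.z0 := by
      rw [hq'e]
      rcases F.psi_B ht with e | e <;> rw [e]
      · rw [mul_one]; exact ⟨hq1, hq0⟩
      · exact ⟨fun h => hq0 (by
          calc q = q * F.z0 * F.z0 := by rw [mul_assoc, F.z0_sq, mul_one]
            _ = F.z0 := by rw [h, one_mul]), fun h => hq1 (mul_eq_right.1 h)⟩
    have hq'U : q' ∉ U := by
      intro h
      apply hUZ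
      intro r hr
      rcases F.Z_el F.z0_mem hq'Z F.z0_ne hq'ne.1 (Ne.symm hq'ne.2) r hr with e | e | e | e <;> rw [e]
      exacts [one_mem _, hz0U, h, mul_mem hz0U h]
    have hx0B : x0 ∈ F.B := F.hZB hx0
    -- an element moving `x0` by `z0`
    have hx0x : x * x0 ∈ U := (two_cosets hUB hc2 hxB hxU hx0B).resolve_left hx0U
    obtain ⟨y, hy, e⟩ := hall F.z0 hz0U
    have hconjyU : ∀ w ∈ U, y * w * y⁻¹ = w := fun w hw => by rw [hUfix w hw y hy, mul_inv_cancel_right]
    have hycv : ∀ p ∈ F.B, p ∉ U → y * p * y⁻¹ = p * F.z0 := by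
      intro p hp hpU
      have h1 : x * p ∈ U := (two_cosets hUB hc2 hxB hxU hp).resolve_left hpU
      have h2 : x * (x * p) = p := by rw [← mul_assoc, F.hB2 x hxB, one_mul]
      calc y * p * y⁻¹ = y * (x * (x * p)) * y⁻¹ := by rw [h2]
        _ = y * x * y⁻¹ * (y * (x * p) * y⁻¹) := by group
        _ = x * F.z0 * (x * p) := by rw [e, hconjyU _ h1]
        _ = x * (x * p) * F.z0 := by rw [mul_assoc, F.Bcomm (hUB hz0U) (hUB h1), ← mul_assoc]
        _ = _ := by rw [h2]
    set k := y⁻¹ * (F.a * y * F.a) with hk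
    have haU : ∀ w ∈ U, F.a * w * F.a ∈ U := fun w hw => F.conj_a_mem hUn hw
    have hky : ∀ p ∈ F.B, F.a * (y * (F.a * p * F.a) * y⁻¹) * F.a = y * p * y⁻¹ := by
      intro p hp
      have hapB : F.a * p * F.a ∈ F.B := F.conj_a_mem F.hBn hp
      have haa2 : F.a * (F.a * p * F.a) * F.a = p := by
        calc F.a * (F.a * p * F.a) * F.a = (F.a * F.a) * p * (F.a * F.a) := by group
          _ = p := by rw [F.haa, one_mul, mul_one]
      by_cases hpU : p ∈ U
      · rw [hconjyU p hpU, hconjyU _ (haU p hpU), haa2]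
      · have hapU : F.a * p * F.a ∉ U := fun h => hpU (haa2 ▸ haU _ h)
        rw [hycv p hp hpU, hycv _ hapB hapU, F.conj_a, haa2, F.haZ _ F.z0_mem, mul_assoc F.z0 F.a, F.haa, mul_one]
    have hkC : k ∈ F.C := by
      refine mem_centralizer_iff.2 fun p hp => ?_
      have h1 := hky p hp
      have h2 : k * p * k⁻¹ = p := by
        calc k * p * k⁻¹ = y⁻¹ * (F.a * (y * (F.a * p * F.a⁻¹) * y⁻¹) * F.a⁻¹) * y := by rw [hk]; group
          _ = p := by rw [F.ainv, h1]; group
      exact (mul_inv_eq_iff_eq_mul.1 h2).symm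
    have hut : u * t ∈ F.C := mul_mem hu (F.B_le_C ht)
    have hyd : y * (u * t) * y⁻¹ = u * t := by rw [hcen _ hdD y hy, mul_inv_cancel_right]
    have hyad : y * (F.a * (u * t) * F.a) * y⁻¹ = F.a * (u * t) * F.a := by
      have e2 : k * (F.a * (u * t) * F.a) * k⁻¹ = F.a * (u * t) * F.a := by
        rw [hCcomm k hkC _ (F.conj_a_mem F.C_normal hut), mul_inv_cancel_right]
      calc y * (F.a * (u * t) * F.a) * y⁻¹
          = y * (k * (F.a * (u * t) * F.a) * k⁻¹) * y⁻¹ := by rw [e2]
        _ = F.a * (y * ((F.a * F.a) * (u * t) * (F.a * F.a⁻¹)) * y⁻¹) * F.a⁻¹ := by rw [hk]; group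
        _ = _ := by rw [F.haa, one_mul, mul_inv_cancel, mul_one, hyd, F.ainv]
    rw [F.psi_eq, ← hq', show y * (u * t * q') * y⁻¹ = y * (u * t) * y⁻¹ * (y * q' * y⁻¹) by group, hyd,
      hycv q' (F.hZB hq'Z) hq'U] at hyad
    exact F.z0_ne (mul_eq_left.1 (mul_left_cancel hyad))
  · -- `D = C`
    push Not at hD8
    have hDC' : D = F.C := by
      refine eq_of_le_of_card_ge hDC ?_
      have hdvd := card_dvd_of_le hDC
      obtain ⟨r, hr⟩ := hdvd
      rcases Nat.lt_or_ge r 2 with h | h
      · interval_cases r <;> omega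
      · have := Nat.mul_le_mul_left (Nat.card D) h
        omega
    have hCL : F.C ≤ L := hDC' ▸ (inf_le_left : D ≤ L)
    have hp1 : ¬ L ≤ F.C := by
      intro h
      rw [relIndex_eq_one.2 h, mul_one] at hsplit
      have := Nat.mul_le_mul (show 1 ≤ Nat.card ↥(N ⊓ D) from hND1) (le_refl (N.relIndex D))
      omega
    obtain ⟨y0, hy0, hy0C⟩ := SetLike.not_le_iff_exists.1 hp1
    obtain ⟨p0, hp0, hne⟩ : ∃ p ∈ F.B, y0 * p * y0⁻¹ ≠ p := by
      by_contra h
      push Not at h
      exact hy0C (mem_centralizer_iff.2 fun p hp => (mul_inv_eq_iff_eq_mul.1 (h p hp)).symm)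
    have hCD : ∀ p ∈ F.C, p ∈ D := fun p hp => hDC'.symm ▸ hp
    set u' := p0⁻¹ * (y0 * p0 * y0⁻¹) with hu'
    have hu'1 : u' ≠ 1 := fun h => hne (inv_mul_eq_one.1 h).symm
    have hu'N : u' ∈ N ⊓ D := hcomm p0 (hCD _ (F.B_le_C hp0)) y0 hy0
    have hu'B : u' ∈ F.B := mul_mem (inv_mem hp0) (F.hBn.conj_mem p0 hp0 y0)
    have hND' : ∀ r ∈ N ⊓ D, r = 1 ∨ r = u' := by
      intro r hr
      by_contra hcon
      push Not at hcon
      have : ({1, u', r} : Finset S).card ≤ Nat.card ↥(N ⊓ D) := by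
        rw [← Fintype.card_coe, ← Nat.card_eq_fintype_card]
        refine Nat.card_le_card_of_injective (fun w => (⟨w.1, ?_⟩ : ↥(N ⊓ D)))
          (fun a b h => Subtype.ext (congrArg Subtype.val h :))
        have := w.2
        simp only [Finset.mem_insert, Finset.mem_singleton] at this
        rcases this with e | e | e <;> rw [e]
        exacts [one_mem _, hu'N, hr]
      rw [Finset.card_insert_of_notMem (by simp [Ne.symm hu'1, Ne.symm hcon.1]),
        Finset.card_pair (Ne.symm hcon.2)] at this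
      omega
    have hND2 : Nat.card ↥(N ⊓ D) = 2 := by
      refine le_antisymm hND ?_
      exact (Subgroup.one_lt_card_iff_ne_bot _).2 (fun h => hu'1 (by
        have := hu'N; rw [h, mem_bot] at this; exact this))
    have hmove : ∀ p ∈ F.C, ∀ y ∈ L, y * p * y⁻¹ = p ∨ y * p * y⁻¹ = p * u' := by
      intro p hp y hy
      rcases hND' _ (hcomm p (hCD p hp) y hy) with e | e
      · exact Or.inl (inv_mul_eq_one.1 e).symm
      · exact Or.inr (by rw [← e, mul_inv_cancel_left])
    have hu'fix : ∀ y ∈ L, y * u' * y⁻¹ = u' := by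
      intro y hy
      refine (hmove u' (F.B_le_C hu'B) y hy).resolve_right fun e => ?_
      rw [F.hB2 _ hu'B] at e
      exact hu'1 (conj_eq_one_iff.1 e)
    have hf : N.relIndex D ≤ 8 := by
      have h1 : Nat.card D ≤ 16 := hD16
      rw [← hDcard, hND2] at h1
      omega
    have hp : 4 ≤ F.C.relIndex L := by
      obtain ⟨k, hk⟩ := relIndex_pow F.hS F.C L
      by_contra h
      have : k < 2 := (Nat.pow_lt_pow_iff_right (le_refl 2)).1 (show 2 ^ k < 2 ^ 2 by omega)
      have : 2 ^ k ≤ 2 ^ 1 := Nat.pow_le_pow_right (by norm_num) (by omega)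
      have := Nat.mul_le_mul hf (show F.C.relIndex L ≤ 2 by omega)
      omega
    by_cases hu'Z : u' ∈ F.Z
    · obtain ⟨r, hr, hr1, hru⟩ := F.exists_Z hu'Z hu'1
      have hel' := F.Z_el hu'Z hr hu'1 hr1 (Ne.symm hru)
      let v : S → S × S := fun y => (y * r * y⁻¹, y * F.b * y⁻¹)
      let T : Finset (S × S) := ({r, r * u'} : Finset S) ×ˢ ({F.b, F.b * u'} : Finset S)
      have hv : ∀ y ∈ L, v y ∈ T := fun y hy => by
        simp only [T, v, Finset.mem_product, Finset.mem_insert, Finset.mem_singleton]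
        exact ⟨hmove r (F.Z_le_C hr) y hy, hmove F.b (F.B_le_C F.hb) y hy⟩
      have hfixZ : ∀ y : S, y * u' * y⁻¹ = u' → y * r * y⁻¹ = r → ∀ w ∈ F.Z, y * w = w * y := by
        intro y e1 e2 w hw
        have c1 : Commute y u' := mul_inv_eq_iff_eq_mul.1 e1
        have c2 : Commute y r := mul_inv_eq_iff_eq_mul.1 e2
        rcases hel' w hw with s | s | s | s <;> rw [s]
        · rw [mul_one, one_mul]
        · exact c1
        · exact c2
        · exact (c1.mul_right c2).eq
      have key : ∀ (y y' p : S), y * p * y⁻¹ = y' * p * y'⁻¹ → y⁻¹ * y' * p * (y⁻¹ * y')⁻¹ = p := fun y y' p e => by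
        calc y⁻¹ * y' * p * (y⁻¹ * y')⁻¹ = y⁻¹ * (y' * p * y'⁻¹) * y := by group
          _ = y⁻¹ * (y * p * y⁻¹) * y := by rw [e]
          _ = p := by group
      obtain ⟨hle, hall⟩ := values_le L F.C v T hv (fun y hy y' hy' hyy => by
        obtain ⟨e1, e2⟩ := Prod.ext_iff.1 hyy
        exact F.mem_C_of_gens (hfixZ _ (key _ _ _ (by rw [hu'fix y hy, hu'fix y' hy'])) (key _ _ _ e1))
          (mul_inv_eq_iff_eq_mul.1 (key _ _ _ e2)))
      have hT4 : T.card ≤ 4 := by
        rw [Finset.card_product]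
        exact Nat.mul_le_mul Finset.card_le_two Finset.card_le_two
      obtain ⟨y, hy, e⟩ := hall (hT4.trans hp) (r, F.b * u') (by simp [T])
      obtain ⟨e1, e2⟩ := Prod.ext_iff.1 e
      simp only [v] at e1 e2
      rcases stab y (hfixZ y (hu'fix y hy) e1) with hh | hh
      · rw [F.C_comm hh F.hb, mul_inv_cancel_right] at e2
        exact hu'1 (left_eq_mul.1 e2)
      · have hu'0 : u' = F.z0 := mul_left_cancel (e2.symm.trans (F.conj_b_of_mul_a hh))
        -- the commutator with `u` is `q`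
        have hyu : y * u * y⁻¹ = u * q := by
          have haua : F.a * u * F.a = u * q := F.psi_eq u
          calc y * u * y⁻¹ = y * ((F.a * F.a) * u * (F.a * F.a)) * y⁻¹ := by rw [F.haa, one_mul, mul_one]
            _ = y * F.a * (F.a * u * F.a) * (y * F.a⁻¹)⁻¹ := by group
            _ = y * F.a * (u * q) * (y * F.a)⁻¹ := by rw [haua, F.ainv]
            _ = u * q := by rw [hCcomm _ hh _ (mul_mem hu hqC), mul_inv_cancel_right]
        rcases hmove u hu y hy with s | s
        · rw [hyu] at s; exact hq1 (mul_eq_left.1 s)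
        · rw [hyu, hu'0] at s; exact hq0 (mul_left_cancel s)
    · have hbu : F.b * u' ∈ F.Z := (F.B_cases hu'B).resolve_left hu'Z
      obtain ⟨z, x2, x3, W, hWn, hWB, hW4, hzW, hz1, hzc, -, -, -, -, -⟩ := exists_flag F.hS F.B F.hB8
      have hzZ : z ∈ F.Z := F.fixed (F.B_le_C (hWB hzW)) (by
        have := hzc F.a; rwa [F.ainv] at this)
      obtain ⟨r, hr, hr1, hrz⟩ := F.exists_Z hzZ hz1
      have hel' := F.Z_el hzZ hr hz1 hr1 (Ne.symm hrz)
      let v : S → S := fun y => y * r * y⁻¹
      let T : Finset S := {r, r * u'}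
      have hv : ∀ y ∈ L, v y ∈ T := fun y hy => by
        simp only [T, v, Finset.mem_insert, Finset.mem_singleton]
        exact hmove r (F.Z_le_C hr) y hy
      obtain ⟨hle, -⟩ := values_le L F.C v T hv (fun y hy y' hy' hyy => by
        set g := y⁻¹ * y' with hg
        have key : ∀ p : S, y * p * y⁻¹ = y' * p * y'⁻¹ → Commute g p := fun p e => by
          refine mul_inv_eq_iff_eq_mul.1 ?_
          calc g * p * g⁻¹ = y⁻¹ * (y' * p * y'⁻¹) * y := by rw [hg]; group
            _ = y⁻¹ * (y * p * y⁻¹) * y := by rw [e]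
            _ = p := by group
        have c1 : Commute g z := key z (by rw [hzc, hzc])
        have c2 : Commute g r := key r hyy
        have c3 : Commute g u' := key u' (by rw [hu'fix y hy, hu'fix y' hy'])
        have hZ : ∀ w ∈ F.Z, g * w = w * g := by
          intro w hw
          rcases hel' w hw with s | s | s | s <;> rw [s]
          · rw [mul_one, one_mul]
          · exact c1
          · exact c2
          · exact (c1.mul_right c2).eq
        refine F.mem_C_of_gens hZ ?_
        have : Commute g (F.b * u' * u'⁻¹) := Commute.mul_right (hZ _ hbu) c3.inv_right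
        rwa [mul_inv_cancel_right] at this)
      have : T.card ≤ 2 := Finset.card_le_two
      omega

end Cfg

end Cfsg.Lib.HaradaE8
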