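import Cfsg.Agent.Lib.HaradaE8.Noncyclic
import Cfsg.Agent.Lib.HaradaE8.Elementary

/-!
# The bound when `C ⧸ B` is cyclic, and the bound in the configuration
-/

set_option autoImplicit false
set_option linter.style.haveILetI false

namespace Cfsg.Lib.HaradaE8

open Subgroup

universe u

namespace Cfg

variable {S : Type u} [Group S] [Finite S] (F : Cfg S)

theorem cyclic_bound {u : S} (hu : u ∈ F.C) (hgen : F.C ≤ zpowers u ⊔ F.B) {L N : Subgroup S} (hNL : N ≤ L)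
    (hsq : SqIn L N) : N.relIndex L ≤ 16 := by
  classical
  haveI := F.hBn
  haveI := F.C_normal
  have hform : ∀ x ∈ F.C, ∃ i : ℤ, ∃ t ∈ F.B, x = u ^ i * t := by
    intro x hx
    obtain ⟨y, hy, t, ht, rfl⟩ := mem_sup_of_normal_right.1 (hgen hx)
    obtain ⟨i, rfl⟩ := exists_zpow_eq hy
    exact ⟨i, t, ht, rfl⟩
  by_cases huB : u ∈ F.B
  · refine self_centralizing_bound F.hS F.B F.hB8 F.hB2 (fun x hx => ?_) hNL hsq
    obtain ⟨i, t, ht, rfl⟩ := hform x hx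
    exact mul_mem (zpow_mem huB i) ht
  by_cases hu2 : u * u = 1
  · refine F.elementary_bound hu huB hu2 (fun x hx => ?_) hNL hsq
    obtain ⟨i, t, ht, rfl⟩ := hform x hx
    obtain ⟨k, rfl | rfl⟩ := Int.even_or_odd' i
    · left
      rwa [zpow_mul, zpow_two, hu2, one_zpow, one_mul]
    · right
      rwa [zpow_add, zpow_mul, zpow_two, hu2, one_zpow, one_mul, zpow_one, inv_mul_cancel_left]
  have hCcomm : ∀ x ∈ F.C, ∀ y ∈ F.C, x * y = y * x := by
    intro x hx y hy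
    obtain ⟨i, s, hs, rfl⟩ := hform x hx
    obtain ⟨j, t, ht, rfl⟩ := hform y hy
    have c1 : Commute (u ^ i) (u ^ j) := Commute.zpow_zpow (Commute.refl u) i j
    have c2 : Commute (u ^ i) t := F.C_comm (zpow_mem hu i) ht
    have c3 : Commute s (u ^ j) := (F.C_comm (zpow_mem hu j) hs).symm
    have c4 : Commute s t := F.Bcomm hs ht
    exact ((c1.mul_right c2).mul_left (c3.mul_right c4)).eq
  have hodd : ∀ j : ℤ, u ^ (2 * (2 * j + 1)) = 1 → False := by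
    intro j hj
    obtain ⟨k, hk⟩ := F.hS u
    obtain ⟨p, r, hpr⟩ : IsCoprime (2 * j + 1) (((2 ^ k : ℕ)) : ℤ) := by
      push_cast
      refine IsCoprime.pow_right ?_
      exact ⟨1, -j, by ring⟩
    apply hu2
    have e : (2 : ℤ) = 2 * (2 * j + 1) * p + (((2 ^ k : ℕ)) : ℤ) * (2 * r) := by linear_combination -2 * hpr
    rw [← zpow_two, e, zpow_add, zpow_mul, hj, one_zpow, one_mul, zpow_mul _ (((2 ^ k : ℕ)) : ℤ),
      zpow_natCast, hk, one_zpow]
  -- the involution `z1` of `zpowers u`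
  obtain ⟨v, hvu, hvv, hv1⟩ := exists_invol_of_ne_one F.hS (fun h : u = 1 => huB (h ▸ one_mem _))
  set q := u * (F.a * u * F.a) with hq
  have hauC : F.a * u * F.a ∈ F.C := F.conj_a_mem F.C_normal hu
  have hqZ : q ∈ F.Z := by
    refine F.fixed (mul_mem hu hauC) ?_
    rw [hq, F.conj_a, show F.a * (F.a * u * F.a) * F.a = u from by
      calc F.a * (F.a * u * F.a) * F.a = (F.a * F.a) * u * (F.a * F.a) := by group
        _ = u := by rw [F.haa, one_mul, mul_one]]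
    exact hCcomm _ hauC _ hu
  have haua : F.a * u * F.a = u⁻¹ * q := by rw [hq, inv_mul_cancel_left]
  have hqq : q * q = 1 := F.hB2 q (F.hZB hqZ)
  have hapow : ∀ i : ℤ, F.a * u ^ i * F.a = u ^ (-i) * q ^ i := by
    intro i
    have h1 : (F.a * u * F.a⁻¹) ^ i = F.a * u ^ i * F.a⁻¹ := conj_zpow
    rw [F.ainv, haua, (show Commute u⁻¹ q from F.C_comm (inv_mem hu) (F.hZB hqZ)).mul_zpow, inv_zpow'] at h1
    exact h1.symm
  obtain ⟨jv, hjv⟩ := exists_zpow_eq hvu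
  obtain ⟨l, rfl | rfl⟩ := Int.even_or_odd' jv
  swap
  · exact (hodd l (by rw [mul_comm, zpow_mul, hjv, zpow_two, hvv])).elim
  set z1 := v with hz1def
  have hvinv : z1⁻¹ = z1 := inv_eq_of_mul_eq_one_right hvv
  have hz1Z : z1 ∈ F.Z := by
    refine F.fixed (hjv ▸ zpow_mem hu _) ?_
    rw [← hjv, hapow, zpow_neg, hjv, hvinv, zpow_mul, zpow_two, hqq, one_zpow, mul_one]
  have hOmega : ∀ x ∈ F.C, x * x = 1 → x ∈ F.B := by
    intro x hx hxx
    obtain ⟨i, t, ht, rfl⟩ := hform x hx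
    have hii : u ^ i * u ^ i = 1 := by
      calc u ^ i * u ^ i = u ^ i * (t * t) * u ^ i := by rw [F.hB2 t ht, mul_one]
        _ = u ^ i * t * (t * u ^ i) := by group
        _ = u ^ i * t * (u ^ i * t) := by rw [F.C_comm (zpow_mem hu i) ht]
        _ = 1 := hxx
    refine mul_mem ?_ ht
    by_cases h1 : u ^ i = 1
    · rw [h1]; exact one_mem _
    · rw [sq_eq_one_unique (zpow_mem (mem_zpowers u) i) hvu hii hvv h1 hv1]; exact F.hZB hz1Z
  set E := zpowers (u * u) with hE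
  have hEu : E ≤ zpowers u := zpowers_le.2 (mul_mem (mem_zpowers u) (mem_zpowers u))
  have hEpow : ∀ i : ℤ, u ^ (2 * i) ∈ E := fun i => by
    rw [zpow_mul, zpow_two]; exact zpow_mem (mem_zpowers _) i
  have hEC : E ≤ F.C := zpowers_le.2 (mul_mem hu hu)
  have hsqE : ∀ x ∈ F.C, x * x ∈ E := by
    intro x hx
    obtain ⟨i, t, ht, rfl⟩ := hform x hx
    have e : u ^ i * t * (u ^ i * t) = u ^ (2 * i) := by
      calc u ^ i * t * (u ^ i * t) = u ^ i * (t * u ^ i) * t := by group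
        _ = u ^ i * (u ^ i * t) * t := by rw [F.C_comm (zpow_mem hu i) ht]
        _ = u ^ i * u ^ i * (t * t) := by group
        _ = _ := by rw [F.hB2 t ht, mul_one, ← zpow_add, two_mul]
    rw [e]; exact hEpow i
  have hEn : E.Normal := by
    refine ⟨fun x hx g => ?_⟩
    obtain ⟨i, rfl⟩ := exists_zpow_eq hx
    have h1 : (g * (u * u) * g⁻¹) ^ i = g * (u * u) ^ i * g⁻¹ := conj_zpow
    rw [← h1]
    refine zpow_mem ?_ i
    rw [show g * (u * u) * g⁻¹ = g * u * g⁻¹ * (g * u * g⁻¹) by group]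
    exact hsqE _ (F.C_normal.conj_mem u hu g)
  have hz1E : z1 ∈ E := hjv ▸ hEpow l
  have hzfix : ∀ g : S, g * z1 * g⁻¹ = z1 := fun g => by
    refine sq_eq_one_unique (hEu (hEn.conj_mem _ hz1E g)) hvu ?_ hvv ?_ hv1
    · rw [show g * z1 * g⁻¹ * (g * z1 * g⁻¹) = g * (z1 * z1) * g⁻¹ by group, hvv, mul_one, mul_inv_cancel]
    · exact fun h => hv1 (conj_eq_one_iff.1 h)
  have hEB : ∀ x ∈ E, x ∈ F.B → x = 1 ∨ x = z1 := fun x hx hxB => by
    by_cases h : x = 1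
    · exact Or.inl h
    · exact Or.inr (sq_eq_one_unique (hEu hx) hvu (F.hB2 x hxB) hvv h hv1)
  -- commutators with `a`
  have hpsiB : ∀ t ∈ F.B, F.psi t ∈ F.B := fun t ht => F.psi_mem F.hBn ht
  have hpsi : ∀ (i : ℤ) (t : S), t ∈ F.B → F.psi (u ^ i * t) = u ^ (2 * -i) * q ^ i * F.psi t := by
    intro i t ht
    have h1 : F.psi (u ^ i) = u ^ (2 * -i) * q ^ i := by
      rw [psi, hapow, ← mul_assoc, ← zpow_neg, ← zpow_add, ← two_mul]
    rw [F.psi_mul, h1, mul_assoc t⁻¹, F.C_comm (mul_mem (zpow_mem hu _) (zpow_mem (F.Z_le_C hqZ) _)) ht,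
      inv_mul_cancel_left]
  -- reduction to `4 < f`
  set D := L ⊓ F.C with hD
  have hDC : D ≤ F.C := inf_le_right
  obtain ⟨hf8, hfeq⟩ := rank_three (X := D) (B := F.B) (N := N) F.hS F.hB8.le
    (fun x hx y hy => hCcomm x (hDC hx) y (hDC hy)) (fun x hx hxx => hOmega x (hDC hx) hxx)
    (fun x hx => hsq x hx.1)
  by_cases hf : N.relIndex D ≤ 4
  · exact (four_bound F.hS F.B F.hB8 F.hB2 hNL hsq).trans (Nat.mul_le_mul_right 4 hf)
  push Not at hf
  obtain ⟨hBD, hNsq⟩ := hfeq (eight_le_relIndex F.hS hf)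
  have hNDE : ∀ n, n ∈ N → n ∈ F.C → n ∈ E := by
    intro n hn hnC
    obtain ⟨x, hx, rfl⟩ := hNsq n hn ⟨hNL hn, hnC⟩
    exact hsqE x (hDC hx)
  have hmove : ∀ p ∈ F.B, ∀ y ∈ L, y * p * y⁻¹ = p ∨ y * p * y⁻¹ = p * z1 := by
    intro p hp y hy
    have hB' : p⁻¹ * (y * p * y⁻¹) ∈ F.B := mul_mem (inv_mem hp) (F.hBn.conj_mem p hp y)
    rcases hEB _ (hNDE _ (hsq.comm (hBD hp).1 hy) (F.B_le_C hB')) hB' with e | e
    · exact Or.inl (inv_mul_eq_one.1 e).symm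
    · exact Or.inr (by rw [← e, mul_inv_cancel_left])
  by_contra hbig
  push Not at hbig
  have hsplit := relIndex_le_mul N F.C L
  rw [← hD] at hsplit
  have hp : 4 ≤ F.C.relIndex L := by
    obtain ⟨k, hk⟩ := relIndex_pow F.hS F.C L
    by_contra h
    have : k < 2 := (Nat.pow_lt_pow_iff_right (le_refl 2)).1 (show 2 ^ k < 2 ^ 2 by omega)
    have : 2 ^ k ≤ 2 ^ 1 := Nat.pow_le_pow_right (by norm_num) (by omega)
    have := Nat.mul_le_mul hf8 (show F.C.relIndex L ≤ 2 by omega)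
    omega
  have key : ∀ (y y' p : S), y * p * y⁻¹ = y' * p * y'⁻¹ → Commute (y⁻¹ * y') p := fun y y' p e =>
    mul_inv_eq_iff_eq_mul.1 (by
      calc y⁻¹ * y' * p * (y⁻¹ * y')⁻¹ = y⁻¹ * (y' * p * y'⁻¹) * y := by group
        _ = y⁻¹ * (y * p * y⁻¹) * y := by rw [e]
        _ = p := by group)
  have hbuild : ∀ (s : S), s ∈ F.Z → s ≠ 1 → s ≠ z1 → ∀ g : S, Commute g s → ∀ w ∈ F.Z, g * w = w * g := by
    intro s hs hs1 hsz g c1 w hw
    have c0 : Commute g z1 := mul_inv_eq_iff_eq_mul.1 (hzfix g)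
    rcases F.Z_el hz1Z hs hv1 hs1 (Ne.symm hsz) w hw with r | r | r | r <;> rw [r]
    · rw [mul_one, one_mul]
    · exact c0
    · exact c1
    · exact (c0.mul_right c1).eq
  -- all four values occur
  have hvalues : ∀ (s : S), s ∈ F.Z → s ≠ 1 → s ≠ z1 →
      ∀ pr ∈ ({s, s * z1} : Finset S) ×ˢ ({F.b, F.b * z1} : Finset S),
        ∃ y ∈ L, y * s * y⁻¹ = pr.1 ∧ y * F.b * y⁻¹ = pr.2 := by
    intro s hs hs1 hsz pr hpr
    let v' : S → S × S := fun y => (y * s * y⁻¹, y * F.b * y⁻¹)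
    let T : Finset (S × S) := ({s, s * z1} : Finset S) ×ˢ ({F.b, F.b * z1} : Finset S)
    obtain ⟨-, hall⟩ := values_le L F.C v' T (fun y hy => by
        simp only [T, v', Finset.mem_product, Finset.mem_insert, Finset.mem_singleton]
        exact ⟨hmove s (F.hZB hs) y hy, hmove F.b F.hb y hy⟩)
      (fun y _ y' _ hyy => by
        obtain ⟨e1, e2⟩ := Prod.ext_iff.1 hyy
        exact F.mem_C_of_gens (hbuild s hs hs1 hsz _ (key _ _ _ e1)) (key _ _ _ e2))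
    have hT : T.card ≤ 4 := by
      rw [Finset.card_product]
      exact Nat.mul_le_mul Finset.card_le_two Finset.card_le_two
    obtain ⟨y, hy, e⟩ := hall (hT.trans hp) pr hpr
    exact ⟨y, hy, congrArg Prod.fst e, congrArg Prod.snd e⟩
  by_cases h10 : z1 = F.z0
  · -- `z0` is a square in `C`
    obtain ⟨p, hpZ, hp1, hp0⟩ := F.exists_Z hz1Z hv1
    obtain ⟨y, hy, e1, e2⟩ := hvalues p hpZ hp1 hp0 (p, F.b * z1) (by simp)
    have hyZ := hbuild p hpZ hp1 hp0 y (mul_inv_eq_iff_eq_mul.1 e1)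
    have hya : y * F.a ∈ F.C := F.mul_a_mem_C hyZ (by rw [e2, h10])
    have hz1N : z1 ∈ N := by
      have := hsq.comm (hBD F.hb).1 hy
      rwa [e2, inv_mul_cancel_left] at this
    obtain ⟨x, hx, hxx⟩ := hNsq z1 hz1N (hBD (F.hZB hz1Z))
    have hxC := hDC hx
    have hcom : F.psi x ∈ N := by
      have e : y * x * y⁻¹ = F.a * x * F.a := by
        calc y * x * y⁻¹ = y * (F.a * F.a) * x * (F.a * F.a) * y⁻¹ := by rw [F.haa, mul_one, mul_one]
          _ = (y * F.a) * (F.a * x * F.a) * (y * F.a⁻¹)⁻¹ := by group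
          _ = (y * F.a) * (F.a * x * F.a) * (y * F.a)⁻¹ := by rw [F.ainv]
          _ = F.a * x * F.a := by
            rw [hCcomm _ hya _ (F.conj_a_mem F.C_normal hxC), mul_inv_cancel_right]
      have := hsq.comm hx.1 hy
      rw [e] at this
      exact this
    obtain ⟨i, t, ht, rfl⟩ := hform x hxC
    have hi : u ^ (2 * i) = z1 := by
      rw [← hxx, two_mul, zpow_add]
      calc u ^ i * u ^ i = u ^ i * (t * t) * u ^ i := by rw [F.hB2 t ht, mul_one]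
        _ = u ^ i * t * (t * u ^ i) := by group
        _ = _ := by rw [F.C_comm (zpow_mem hu i) ht]
    have hpB : F.psi (u ^ i * t) ∈ F.B := by
      rw [hpsi i t ht, show 2 * -i = -(2 * i) by ring, zpow_neg, hi]
      exact mul_mem (mul_mem (inv_mem (F.hZB hz1Z)) (F.hZB (zpow_mem hqZ i))) (hpsiB t ht)
    have hxB : u ^ i * t ∈ F.B := by
      rcases hEB _ (hNDE _ hcom (F.B_le_C hpB)) hpB with r | r
      · exact F.hZB (F.psi_one hxC r)
      · exact F.psi_zero hxC (r.trans h10)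
    exact hv1 (hxx.symm.trans (F.hB2 _ hxB))
  -- `z1 ≠ z0`
  have h01 : F.z0 ≠ z1 := Ne.symm h10
  have hz01 : F.z0 * z1 = z1 * F.z0 := F.Bcomm (F.hZB F.z0_mem) (F.hZB hz1Z)
  obtain ⟨h1, h1L, e10, e1b⟩ := hvalues F.z0 F.z0_mem F.z0_ne h01 (F.z0 * z1, F.b) (by simp)
  obtain ⟨h0, h0L, e00, e0b⟩ := hvalues F.z0 F.z0_mem F.z0_ne h01 (F.z0, F.b * z1) (by simp)
  simp only at e10 e1b e00 e0b
  have i10 : h1⁻¹ * F.z0 * h1 = F.z0 * z1 := by
    calc h1⁻¹ * F.z0 * h1 = h1⁻¹ * (F.z0 * (z1 * z1)) * h1 := by rw [hvv, mul_one]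
      _ = h1⁻¹ * (F.z0 * z1) * h1 * (h1⁻¹ * z1 * h1⁻¹⁻¹) := by group
      _ = h1⁻¹ * (h1 * F.z0 * h1⁻¹) * h1 * z1 := by rw [e10, hzfix]
      _ = F.z0 * z1 := by group
  have i1b : h1⁻¹ * F.b * h1 = F.b := by
    calc h1⁻¹ * F.b * h1 = h1⁻¹ * (h1 * F.b * h1⁻¹) * h1 := by rw [e1b]
      _ = F.b := by group
  have az1 : F.a * z1 * F.a = z1 := by rw [F.haZ z1 hz1Z, mul_assoc, F.haa, mul_one]
  have az0 : F.a * F.z0 * F.a = F.z0 := by rw [F.haZ _ F.z0_mem, mul_assoc, F.haa, mul_one]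
  set h := h1⁻¹ * F.a * h1 * F.a with hh
  have hconj : ∀ x : S, h * x * h⁻¹ = h1⁻¹ * (F.a * (h1 * (F.a * x * F.a) * h1⁻¹) * F.a) * h1 := by
    intro x
    rw [hh, mul_inv_rev, mul_inv_rev, mul_inv_rev, inv_inv, F.ainv]; group
  have hh0 : h * F.z0 * h⁻¹ = F.z0 := by
    rw [hconj, az0, e10, F.conj_a, az0, az1]
    calc h1⁻¹ * (F.z0 * z1) * h1 = h1⁻¹ * F.z0 * h1 * (h1⁻¹ * z1 * h1⁻¹⁻¹) := by group
      _ = F.z0 := by rw [i10, hzfix, mul_assoc, hvv, mul_one]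
  have hhb : h * F.b * h⁻¹ = F.b * z1 := by
    rw [hconj, F.conj_b, show h1 * (F.b * F.z0) * h1⁻¹ = h1 * F.b * h1⁻¹ * (h1 * F.z0 * h1⁻¹) by group,
      e1b, e10, F.conj_a, F.conj_b, F.conj_a, az0, az1, mul_assoc F.b, ← mul_assoc F.z0 F.z0, F.z0_sq, one_mul]
    calc h1⁻¹ * (F.b * z1) * h1 = h1⁻¹ * F.b * h1 * (h1⁻¹ * z1 * h1⁻¹⁻¹) := by group
      _ = F.b * z1 := by rw [i1b, hzfix]
  have hhZ : ∀ w ∈ F.Z, h * w = w * h := hbuild F.z0 F.z0_mem F.z0_ne h01 h (mul_inv_eq_iff_eq_mul.1 hh0)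
  have h0Z : ∀ w ∈ F.Z, h0 * w = w * h0 := hbuild F.z0 F.z0_mem F.z0_ne h01 h0 (mul_inv_eq_iff_eq_mul.1 e00)
  have hc : h0⁻¹ * h ∈ F.C :=
    F.mem_C_of_gens (fun w hw => ((Commute.inv_left (h0Z w hw)).mul_left (hhZ w hw)).eq)
      (key h0 h F.b (e0b.trans hhb.symm))
  have hz1h0 : h0 * z1 * h0⁻¹ = z1 := hzfix h0
  have h0sq : h0 * h0 ∈ E := by
    refine hNDE _ (by rw [← pow_two]; exact hsq h0 h0L)
      (F.mem_C_of_gens (fun w hw => (Commute.mul_left (h0Z w hw) (h0Z w hw)).eq) ?_)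
    refine mul_inv_eq_iff_eq_mul.1 ?_
    calc h0 * h0 * F.b * (h0 * h0)⁻¹ = h0 * (h0 * F.b * h0⁻¹) * h0⁻¹ := by group
      _ = h0 * (F.b * z1) * h0⁻¹ := by rw [e0b]
      _ = h0 * F.b * h0⁻¹ * (h0 * z1 * h0⁻¹) := by group
      _ = F.b := by rw [e0b, hz1h0, mul_assoc, hvv, mul_one]
  -- the subgroup `K = E × zpowers z0`
  set K := E ⊔ zpowers F.z0 with hK
  have hz0K : F.z0 ∈ K := mem_sup_right (mem_zpowers _)
  have hEK : E ≤ K := le_sup_left
  have hKform : ∀ x ∈ K, x ∈ E ∨ x * F.z0 ∈ E := by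
    intro x hx
    obtain ⟨e, he, w, hw, rfl⟩ := mem_sup_of_normal_left.1 hx
    obtain ⟨i, rfl⟩ := exists_zpow_eq hw
    obtain ⟨k, rfl | rfl⟩ := Int.even_or_odd' i
    · left; rwa [zpow_mul, zpow_two, F.z0_sq, one_zpow, mul_one]
    · right; rwa [zpow_add, zpow_mul, zpow_two, F.z0_sq, one_zpow, one_mul, zpow_one, mul_assoc, F.z0_sq, mul_one]
  have hKconj : ∀ g : S, g * F.z0 * g⁻¹ ∈ K → ∀ x ∈ K, g * x * g⁻¹ ∈ K := by
    intro g hg x hx
    rcases hKform x hx with r | r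
    · exact hEK (hEn.conj_mem x r g)
    · have := mul_mem (hEK (hEn.conj_mem _ r g)) (inv_mem hg)
      rwa [show g * (x * F.z0) * g⁻¹ * (g * F.z0 * g⁻¹)⁻¹ = g * x * g⁻¹ by group] at this
  have hZK : ∀ w ∈ F.Z, w ∈ K := by
    intro w hw
    rcases F.Z_el hz1Z F.z0_mem hv1 F.z0_ne h10 w hw with r | r | r | r <;> rw [r]
    exacts [one_mem _, hEK hz1E, hz0K, mul_mem (hEK hz1E) hz0K]
  have hpsiK : ∀ x ∈ F.C, F.psi x ∈ K := by
    intro x hx
    obtain ⟨i, t, ht, rfl⟩ := hform x hx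
    rw [hpsi i t ht]
    refine mul_mem (mul_mem (hEK (hEpow _)) (hZK _ (zpow_mem hqZ i))) ?_
    rcases F.psi_B ht with r | r <;> rw [r]
    exacts [one_mem _, hz0K]
  have hKa : ∀ x ∈ K, F.a * x * F.a ∈ K := fun x hx => by
    have := hKconj F.a (by rw [F.ainv, az0]; exact hz0K) x hx
    rwa [F.ainv] at this
  have hKh1 : ∀ x ∈ K, h1⁻¹ * x * h1 ∈ K := fun x hx => by
    have := hKconj h1⁻¹ (by rw [inv_inv, i10]; exact hZK _ (mul_mem F.z0_mem hz1Z)) x hx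
    rwa [inv_inv] at this
  set c := h0⁻¹ * h with hcdef
  have hhc : c⁻¹ * (h⁻¹ * c * h) ∈ K := by
    set y := h1 * c * h1⁻¹ with hy
    have hyC : y ∈ F.C := F.C_normal.conj_mem c hc h1
    set k := h1⁻¹ * F.psi y * h1 with hk
    have hkK : k ∈ K := hKh1 _ (hpsiK y hyC)
    have e : h⁻¹ * c * h = c * F.psi c * (F.a * k * F.a) := by
      calc h⁻¹ * c * h
          = F.a⁻¹ * (h1⁻¹ * (F.a⁻¹ * (h1 * c * h1⁻¹) * F.a) * h1) * F.a := by rw [hh]; group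
        _ = F.a * (h1⁻¹ * (F.a * y * F.a) * h1) * F.a := by rw [F.ainv]
        _ = F.a * (h1⁻¹ * (y * F.psi y) * h1) * F.a := by rw [F.psi_eq y]
        _ = F.a * (c * k) * F.a := by rw [hk]; generalize F.psi y = s; rw [hy]; group
        _ = _ := by rw [F.conj_a, F.psi_eq c]
    rw [e, mul_assoc, inv_mul_cancel_left]
    exact mul_mem (hpsiK c hc) (hKa k hkK)
  have hhC : h⁻¹ * c * h ∈ F.C := by
    have := F.C_normal.conj_mem c hc h⁻¹
    rwa [inv_inv] at this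
  have hhh : h * h ∈ K := by
    have e : h * h = h0 * h0 * (c * (h⁻¹ * c * h) * c⁻¹ * c) := by rw [hcdef]; group
    have e2 : c * (h⁻¹ * c * h) * c⁻¹ * c = c * c * (c⁻¹ * (h⁻¹ * c * h)) := by group
    rw [e, e2]
    exact mul_mem (hEK h0sq) (mul_mem (hEK (hsqE c hc)) hhc)
  have hpsih : F.psi h ∈ K := by
    have e : F.a * h * F.a = h⁻¹ := by
      have e' : h⁻¹ = F.a⁻¹ * h1⁻¹ * F.a⁻¹ * h1 := by rw [hh]; group
      rw [e', F.ainv]
      calc F.a * h * F.a = F.a * h1⁻¹ * F.a * h1 * (F.a * F.a) := by rw [hh]; group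
        _ = _ := by rw [F.haa, mul_one]
    rw [psi, e, ← mul_inv_rev]
    exact inv_mem hhh
  obtain ⟨x, hxZ, hxb, hxE⟩ : ∃ x : S, (∀ w ∈ F.Z, x * w = w * x) ∧ x * F.b * x⁻¹ = F.b * z1 ∧ F.psi x ∈ E := by
    rcases hKform _ hpsih with r | r
    · exact ⟨h, hhZ, hhb, r⟩
    · refine ⟨h * F.b, fun w hw => ((Commute.mul_left (hhZ w hw) (F.Bcomm F.hb (F.hZB hw)))).eq, ?_, ?_⟩
      · calc h * F.b * F.b * (h * F.b)⁻¹ = h * (F.b * F.b) * F.b⁻¹ * h⁻¹ := by group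
          _ = h * F.b * h⁻¹ := by rw [F.hB2 _ F.hb, mul_one, F.Binv F.hb]
          _ = _ := hhb
      · rw [F.psi_mul]
        have hkB : F.psi h ∈ F.C := by
          have := mul_mem (hEC r) (inv_mem (F.Z_le_C F.z0_mem))
          rwa [mul_inv_cancel_right] at this
        rw [mul_assoc F.b⁻¹, F.C_comm hkB F.hb, inv_mul_cancel_left]
        exact r
  have hz0E : F.z0 ∉ E := fun r => by
    rcases hEB _ r (F.hZB F.z0_mem) with s | s
    exacts [F.z0_ne s, h01 s]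
  have hut : ∀ t ∈ F.B, u * t ∉ E := by
    intro t ht r
    obtain ⟨j, hj⟩ := exists_zpow_eq r
    have htt : t = u ^ (2 * (j - 1) + 1) := by
      rw [show 2 * (j - 1) + 1 = -1 + 2 * j by ring, zpow_add, zpow_mul u 2 j, zpow_two, hj, zpow_neg_one,
        inv_mul_cancel_left]
    exact hodd (j - 1) (by rw [mul_comm, zpow_mul, ← htt, zpow_two, F.hB2 t ht])
  obtain ⟨t, ht, hte⟩ : ∃ t ∈ F.B, F.psi (u * t) ∈ E := by
    have hpu : F.psi u = u ^ (2 * (-1 : ℤ)) * q := by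
      have := hpsi 1 1 (one_mem _)
      rwa [zpow_one, mul_one, zpow_one, F.psi_Z (one_mem _), mul_one] at this
    rcases F.Z_el hz1Z F.z0_mem hv1 F.z0_ne h10 q hqZ with r | r | r | r
    · exact ⟨1, one_mem _, by rw [mul_one, hpu, r, mul_one]; exact hEpow _⟩
    · exact ⟨1, one_mem _, by rw [mul_one, hpu, r]; exact mul_mem (hEpow _) hz1E⟩
    all_goals
      refine ⟨F.b, F.hb, ?_⟩
      rw [F.psi_mul, mul_assoc F.b⁻¹, F.C_comm (F.psi_mem F.C_normal hu) F.hb, inv_mul_cancel_left,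
        show F.psi F.b = F.z0 from rfl, hpu, r]
    · rw [mul_assoc, F.z0_sq, mul_one]; exact hEpow _
    · rw [mul_assoc, mul_assoc z1, F.z0_sq, mul_one]; exact mul_mem (hEpow _) hz1E
  refine F.count_sixteen E hEn hEC hz0E (e := u * t) (x := x) (q := z1) (mul_mem hu (F.B_le_C ht)) (hut t ht) ?_ hte
    hxZ hxb hv1 h10 hxE
  rw [← mul_assoc, ← F.C_comm hu (F.hZB F.z0_mem), mul_assoc]
  exact hut _ (mul_mem (F.hZB F.z0_mem) ht)

/-- The bound in the configuration. -/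
theorem bound (F : Cfg S) {L N : Subgroup S} (hNL : N ≤ L) (hsq : SqIn L N) : N.relIndex L ≤ 16 := by
  by_cases hnc : ∃ u ∈ F.C, F.C ≤ zpowers u ⊔ F.B
  · obtain ⟨u, hu, hgen⟩ := hnc
    exact F.cyclic_bound hu hgen hNL hsq
  · exact F.noncyclic_bound hnc hNL hsq

end Cfg

end Cfsg.Lib.HaradaE8
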