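import Cfsg.Agent.Lib.HaradaE8.Main
import Mathlib.GroupTheory.SpecificGroups.Quaternion
import Mathlib.GroupTheory.Nilpotent
import Mathlib.Tactic.FinCases

/-!
# Self-centralizing elementary abelian subgroups near a central product of two quaternion groups

In a 2-group with a subgroup `Q₁ ∗ Q₂`, two quaternion groups of order eight, containing its own
centralizer, one of two complementary elementary abelian subgroups of order eight of the central product
is self-centralizing.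
-/

set_option autoImplicit false
set_option linter.style.haveILetI false

namespace Cfsg.Lib.HaradaE8.Extraspecial

open Subgroup
open scoped Pointwise

universe u

abbrev QG : Type := QuaternionGroup 2

/-- the central involution -/
def cc : QG := QuaternionGroup.a 2
/-- the first generator -/
def i0 : QG := QuaternionGroup.a 1
/-- the second generator -/
def j0 : QG := QuaternionGroup.xa 0
/-- the central involution in the first factor -/
def d0 : QG × QG := (cc, 1)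

/-- equality modulo the diagonal centre -/
abbrev Eqv (p q : QG × QG) : Prop := p = q ∨ p = q * (cc, cc)

/-- equality modulo the centre of the central product -/
abbrev Cl (p q : QG × QG) : Prop := Eqv p q ∨ Eqv p (q * d0)

/-- an automorphism of order three -/
def tri : QG → QG
  | QuaternionGroup.a n => if n = 0 then QuaternionGroup.a 0 else if n = 1 then QuaternionGroup.xa 0
      else if n = 2 then QuaternionGroup.a 2 else QuaternionGroup.xa 2
  | QuaternionGroup.xa n => if n = 0 then QuaternionGroup.xa 3 else if n = 1 then QuaternionGroup.a 3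
      else if n = 2 then QuaternionGroup.xa 1 else QuaternionGroup.a 1

theorem tri_mul : ∀ p q : QG, tri (p * q) = tri p * tri q := by decide

theorem tri_three : ∀ p : QG, tri (tri (tri p)) = p := by decide

/-- the change of labelling -/
def relabel : QG × QG →* QG × QG where
  toFun p := (p.1, tri p.2)
  map_one' := by decide
  map_mul' p q := Prod.ext rfl (tri_mul p.2 q.2)

theorem relabel_surj (p : QG × QG) : relabel (p.1, tri (tri p.2)) = p := Prod.ext rfl (tri_three p.2)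

theorem relabel_eqv : ∀ p : QG × QG, Eqv (relabel p) 1 ↔ Eqv p 1 := by decide

/-- the graph of the identity -/
def graph : Subgroup (QG × QG) where
  carrier := {p | p.1 = p.2 ∨ p.1 = p.2 * cc}
  one_mem' := Or.inl rfl
  mul_mem' {p q} hp hq := by
    revert hp hq
    obtain ⟨p1, p2⟩ := p
    obtain ⟨q1, q2⟩ := q
    simp only [Set.mem_setOf_eq, Prod.mk_mul_mk]
    rintro (rfl | rfl) (rfl | rfl)
    · exact Or.inl rfl
    · exact Or.inr (mul_assoc _ _ _).symm
    · revert p2 q1; decide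
    · revert p2 q2; decide
  inv_mem' {p} hp := by
    revert hp
    obtain ⟨p1, p2⟩ := p
    simp only [Set.mem_setOf_eq, Prod.inv_mk]
    rintro (rfl | rfl)
    · exact Or.inl rfl
    · revert p2; decide

instance : DecidablePred (· ∈ graph) := fun p => inferInstanceAs (Decidable (p.1 = p.2 ∨ p.1 = p.2 * cc))

theorem card_graph : Nat.card graph = 16 := by
  rw [Nat.card_eq_fintype_card]; decide

theorem graph_sq : ∀ p : QG × QG, p ∈ graph → Eqv (p * p) 1 := by decide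

theorem graph_selfc : ∀ p : QG × QG, Eqv (p * (i0, i0)) ((i0, i0) * p) → Eqv (p * (j0, j0)) ((j0, j0) * p) →
    p ∈ graph := by decide

theorem graph_normal : ∀ d p : QG × QG, d ∈ graph → ∃ e, e ∈ graph ∧ Eqv (p * d * p⁻¹) e := by
  intro d p hd
  refine ⟨p * d * p⁻¹, ?_, Or.inl rfl⟩
  have h1 : ∀ a b : QG, ∀ e, (e = 1 ∨ e = cc) → a * (b * e) * a⁻¹ = a * b * a⁻¹ * e := by decide
  have h2 : ∀ a a' b : QG, a * b * a⁻¹ = a' * b * a'⁻¹ ∨ a * b * a⁻¹ = a' * b * a'⁻¹ * cc := by decide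
  obtain ⟨d1, d2⟩ := d
  obtain ⟨p1, p2⟩ := p
  have hd' : d1 = d2 ∨ d1 = d2 * cc := hd
  rcases hd' with rfl | rfl
  · exact h2 p1 p2 d1
  · show p1 * (d2 * cc) * p1⁻¹ = _ ∨ p1 * (d2 * cc) * p1⁻¹ = _ * cc
    rw [h1 p1 d2 cc (Or.inr rfl)]
    rcases h2 p1 p2 d2 with h | h
    · exact Or.inr (by rw [h]; rfl)
    · refine Or.inl ?_
      show _ = p2 * d2 * p2⁻¹
      rw [h, mul_assoc, show cc * cc = 1 by decide, mul_one]

theorem classes_i : ∀ p : QG × QG, Eqv (p * (i0, i0)) ((i0, i0) * p) →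
    Eqv ((j0, j0) * p) (p * (j0, j0) * d0) → Eqv (p * p) d0 → Cl p (i0, 1) ∨ Cl p (1, i0) := by decide

theorem classes_j : ∀ p : QG × QG, Eqv (p * (j0, j0)) ((j0, j0) * p) →
    Eqv ((i0, i0) * p) (p * (i0, i0) * d0) → Eqv (p * p) d0 → Cl p (j0, 1) ∨ Cl p (1, j0) := by decide

theorem gens : ∀ q : QG, ∃ a : Fin 4, ∃ b : Fin 2, q = i0 ^ (a : ℕ) * j0 ^ (b : ℕ) := by decide

theorem central : ∀ p : QG, (∀ q, p * q = q * p) → p = 1 ∨ p = cc := by decide

theorem cl_mul {p p' q q' : QG × QG} (h : Cl p q) (h' : Cl p' q') : Cl (p * p') (q * q') := by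
  have hc : ∀ r : QG × QG, r * (cc, cc) = (cc, cc) * r := by decide
  have hd : ∀ r : QG × QG, r * d0 = d0 * r := by decide
  have e1 : ((cc, cc) : QG × QG) * (cc, cc) = 1 := by decide
  have e2 : d0 * d0 = 1 := by decide
  have e3 : ∀ e f : QG × QG, (e = 1 ∨ e = (cc, cc) ∨ e = d0 ∨ e = d0 * (cc, cc)) →
      (f = 1 ∨ f = (cc, cc) ∨ f = d0 ∨ f = d0 * (cc, cc)) →
      (e * f = 1 ∨ e * f = (cc, cc) ∨ e * f = d0 ∨ e * f = d0 * (cc, cc)) := by
    rintro e f (rfl | rfl | rfl | rfl) (rfl | rfl | rfl | rfl) <;> decide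
  have e4 : ∀ e : QG × QG, (e = 1 ∨ e = (cc, cc) ∨ e = d0 ∨ e = d0 * (cc, cc)) → ∀ r, e * r = r * e := by
    rintro e (rfl | rfl | rfl | rfl) <;> decide
  have e5 : ∀ a b : QG × QG, Cl a b → ∃ e, (e = 1 ∨ e = (cc, cc) ∨ e = d0 ∨ e = d0 * (cc, cc)) ∧ a = b * e := by
    rintro a b ((r | r) | (r | r))
    · exact ⟨1, Or.inl rfl, by rw [r, mul_one]⟩
    · exact ⟨_, Or.inr (Or.inl rfl), r⟩
    · exact ⟨_, Or.inr (Or.inr (Or.inl rfl)), r⟩
    · exact ⟨_, Or.inr (Or.inr (Or.inr rfl)), by rw [r, mul_assoc]⟩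
  obtain ⟨e, he, rfl⟩ := e5 _ _ h
  obtain ⟨f, hf, rfl⟩ := e5 _ _ h'
  have key : q * e * (q' * f) = q * q' * (e * f) := by
    rw [mul_assoc q e, ← mul_assoc e q', e4 e he q', mul_assoc q' e, ← mul_assoc]
  rw [key]
  rcases e3 e f he hf with r | r | r | r <;> rw [r]
  · exact Or.inl (Or.inl (mul_one _))
  · exact Or.inl (Or.inr rfl)
  · exact Or.inr (Or.inl rfl)
  · exact Or.inr (Or.inr (mul_assoc _ _ _).symm)

theorem cl_inv : ∀ p q : QG, ∀ p' q' : QG, Cl (p, p') (q, q') → Cl (p⁻¹, p'⁻¹) (q⁻¹, q'⁻¹) := by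
  intro p q p' q' h
  have h1 := cl_mul (cl_mul (show Cl (p, p')⁻¹ (p, p')⁻¹ from Or.inl (Or.inl rfl)) h)
    (show Cl (q, q')⁻¹ (q, q')⁻¹ from Or.inl (Or.inl rfl))
  rw [inv_mul_cancel, one_mul, mul_assoc, mul_inv_cancel, mul_one] at h1
  rcases h1 with (r | r) | (r | r)
  · exact Or.inl (Or.inl r.symm)
  all_goals
    rw [show ((p⁻¹, p'⁻¹) : QG × QG) = (p, p')⁻¹ from rfl, show ((q⁻¹, q'⁻¹) : QG × QG) = (q, q')⁻¹ from rfl, r]
  · left; right; rw [mul_assoc, show ((cc, cc) : QG × QG) * (cc, cc) = 1 by decide, mul_one]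
  · right; left; rw [mul_assoc, show d0 * d0 = (1 : QG × QG) by decide, mul_one]
  · right; right
    rw [mul_assoc ((p, p')⁻¹ * d0), show ((cc, cc) : QG × QG) * d0 = d0 * (cc, cc) by decide, ← mul_assoc,
      mul_assoc _ d0 d0, show d0 * d0 = (1 : QG × QG) by decide, mul_one, mul_assoc,
      show ((cc, cc) : QG × QG) * (cc, cc) = 1 by decide, mul_one]

variable {S : Type u} [Group S]

/-- `g` moves the class of `p` to the class of `q` -/
def Moves (φ : QG × QG →* S) (g : S) (p q : QG × QG) : Prop := ∃ r, Cl r q ∧ g * φ p * g⁻¹ = φ r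

theorem Moves.mul {φ : QG × QG →* S} {g : S} {p q p' q' : QG × QG} (h : Moves φ g p q) (h' : Moves φ g p' q') :
    Moves φ g (p * p') (q * q') := by
  obtain ⟨r, hr, e⟩ := h
  obtain ⟨r', hr', e'⟩ := h'
  refine ⟨r * r', cl_mul hr hr', ?_⟩
  rw [map_mul, map_mul, ← e, ← e']; group

theorem Moves.inv {φ : QG × QG →* S} {g : S} {p q : QG × QG} (h : Moves φ g p q) : Moves φ g p⁻¹ q⁻¹ := by
  obtain ⟨r, hr, e⟩ := h
  refine ⟨r⁻¹, cl_inv r.1 q.1 r.2 q.2 hr, ?_⟩
  rw [map_inv, map_inv, ← e]; group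

theorem Moves.comp {φ : QG × QG →* S} {g h : S} (hg : g * φ d0 * g⁻¹ = φ d0) (hk : ∀ p, Eqv p 1 → φ p = 1)
    {p q w : QG × QG} (h1 : Moves φ h p q) (h2 : Moves φ g q w) : Moves φ (g * h) p w := by
  obtain ⟨r, hr, e⟩ := h1
  obtain ⟨r', hr', e'⟩ := h2
  have hcc : φ (cc, cc) = 1 := hk _ (Or.inr (one_mul _).symm)
  have e0 : g * h * φ p * (g * h)⁻¹ = g * φ r * g⁻¹ := by rw [← e]; group
  rcases hr with (s | s) | (s | s)
  · exact ⟨r', hr', by rw [e0, s, e']⟩
  · exact ⟨r', hr', by rw [e0, s, map_mul, hcc, mul_one, e']⟩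
  all_goals
    refine ⟨r' * d0, ?_, ?_⟩
    · have := cl_mul hr' (show Cl d0 1 from Or.inr (Or.inl (one_mul _).symm))
      rwa [mul_one] at this
  · rw [e0, s, map_mul, map_mul, ← e']
    calc g * (φ q * φ d0) * g⁻¹ = g * φ q * g⁻¹ * (g * φ d0 * g⁻¹) := by group
      _ = _ := by rw [hg]
  · rw [e0, s, map_mul, hcc, mul_one, map_mul, map_mul, ← e']
    calc g * (φ q * φ d0) * g⁻¹ = g * φ q * g⁻¹ * (g * φ d0 * g⁻¹) := by group
      _ = _ := by rw [hg]

/-- Either the graph gives a self-centralizing subgroup or some element exchanges the two factors. -/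
theorem moved [Finite S] (hS : IsPGroup 2 S) (φ : QG × QG →* S) (hker : ∀ p q, φ p = φ q ↔ Eqv p q)
    (hC : centralizer (φ.range : Set S) ≤ φ.range) :
    centralizer ((graph.map φ : Subgroup S) : Set S) = graph.map φ ∨
    ∃ x : S, x * φ d0 * x⁻¹ = φ d0 ∧ Moves φ x (i0, 1) (1, i0) ∧ Moves φ x (j0, 1) (1, j0) ∧
      Moves φ x (1, i0) (i0, 1) ∧ Moves φ x (1, j0) (j0, 1) := by
  classical
  set A := graph.map φ with hA
  set C := centralizer (A : Set S) with hCdef
  set Q := φ.range with hQ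
  have hmem : ∀ d ∈ graph, φ d ∈ A := fun d hd => mem_map_of_mem φ hd
  have hA2 : ∀ q ∈ A, q * q = 1 := by
    rintro _ ⟨d, hd, rfl⟩
    rw [← map_mul, ← map_one φ, hker]
    exact graph_sq d hd
  have hAC : A ≤ C := fun x hx => mem_centralizer_iff.2 fun y hy => by
    have e : ∀ t ∈ A, t⁻¹ = t := fun t ht => inv_eq_of_mul_eq_one_right (hA2 t ht)
    rw [← e _ (mul_mem hy hx), mul_inv_rev, e y hy, e x hx]
  by_cases hne : C ≤ A
  · exact Or.inl (le_antisymm hne hAC)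
  right
  have hcom : ∀ c ∈ C, ∀ d ∈ graph, c * φ d = φ d * c := fun c hc d hd =>
    (mem_centralizer_iff.1 hc _ (hmem d hd)).symm
  have hCQ : ∀ c ∈ C, c ∈ Q → c ∈ A := by
    rintro c hc ⟨p, rfl⟩
    refine hmem p (graph_selfc p ?_ ?_)
    · rw [← hker, map_mul, map_mul]; exact hcom _ hc _ (Or.inl rfl)
    · rw [← hker, map_mul, map_mul]; exact hcom _ hc _ (Or.inl rfl)
  -- `Q` normalizes `C`
  have hQC : Q ≤ normalizer (C : Set S) := by
    rintro _ ⟨p, rfl⟩
    refine mem_normalizer_iff.2 fun h => ?_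
    have key : ∀ p : QG × QG, ∀ h, h ∈ C → φ p * h * (φ p)⁻¹ ∈ C := by
      intro p h hh
      refine mem_centralizer_iff.2 ?_
      rintro _ ⟨d, hd, rfl⟩
      obtain ⟨e, he, hee⟩ := graph_normal d p⁻¹ hd
      rw [← hker, inv_inv, map_mul, map_mul, map_inv] at hee
      have hh' := hcom h hh e he
      rw [← hee] at hh'
      calc φ d * (φ p * h * (φ p)⁻¹) = φ p * (((φ p)⁻¹ * φ d * φ p) * h) * (φ p)⁻¹ := by group
        _ = φ p * (h * ((φ p)⁻¹ * φ d * φ p)) * (φ p)⁻¹ := by rw [hh']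
        _ = φ p * h * (φ p)⁻¹ * φ d := by group
    refine ⟨key p h, fun hh => ?_⟩
    have := key p⁻¹ _ hh
    rwa [map_inv, inv_inv, show (φ p)⁻¹ * (φ p * h * (φ p)⁻¹) * φ p = h by group] at this
  -- an element of `C` outside `Q` normalizing `Q`
  obtain ⟨c, hc, hcA, hcn⟩ : ∃ c ∈ C, c ∉ A ∧ ∀ p, ∃ q, c * φ p * c⁻¹ = φ q := by
    set K := C ⊔ Q with hK
    haveI : Fact (Nat.Prime 2) := ⟨Nat.prime_two⟩
    have hn : Group.IsNilpotent K := (hS.to_subgroup K).isNilpotent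
    have hlt : Q.subgroupOf K < ⊤ := by
      refine lt_top_iff_ne_top.2 fun h => hne fun c hc => hCQ c hc ?_
      have : (⟨c, mem_sup_left hc⟩ : K) ∈ Q.subgroupOf K := h ▸ mem_top _
      exact this
    obtain ⟨y, hy, hyQ⟩ := SetLike.exists_of_lt (Group.normalizerCondition_of_isNilpotent (G := K) _ hlt)
    have hyK : (y : S) ∈ ((C : Set S) * (Q : Set S)) := by
      rw [← coe_mul_of_right_le_normalizer_left C Q hQC]; exact y.2
    obtain ⟨c, hc, q, hq, hcq⟩ := hyK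
    refine ⟨c, hc, fun h => hyQ ?_, fun p => ?_⟩
    · show (y : S) ∈ Q
      have hAQ : c ∈ Q := by
        obtain ⟨d, -, rfl⟩ := h
        exact ⟨d, rfl⟩
      rw [← hcq]; exact mul_mem hAQ hq
    · have hpQ : q⁻¹ * φ p * q ∈ Q := mul_mem (mul_mem (inv_mem hq) ⟨p, rfl⟩) hq
      have h1 := (mem_normalizer_iff.1 hy ⟨q⁻¹ * φ p * q, mem_sup_right hpQ⟩).1 hpQ
      obtain ⟨r, hr⟩ : (y : S) * (q⁻¹ * φ p * q) * (y : S)⁻¹ ∈ Q := h1
      refine ⟨r, ?_⟩
      rw [hr, ← hcq]; group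
  obtain ⟨P, hP⟩ := hcn (i0, 1)
  obtain ⟨R, hR⟩ := hcn (j0, 1)
  have conjeq : ∀ s t : QG × QG, s = t → c * φ s * c⁻¹ = c * φ t * c⁻¹ := fun s t e => by rw [e]
  have hfix : ∀ d ∈ graph, c * φ d * c⁻¹ = φ d := fun d hd => by rw [hcom c hc d hd, mul_inv_cancel_right]
  have hc0 : c * φ d0 * c⁻¹ = φ d0 := hfix d0 (Or.inr (one_mul _).symm)
  have hcmul : ∀ (s t : QG × QG) (u v : S), c * φ s * c⁻¹ = u → c * φ t * c⁻¹ = v → c * φ (s * t) * c⁻¹ = u * v := by
    intro s t u v e1 e2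
    rw [← e1, ← e2, map_mul]; group
  have hI := hfix (i0, i0) (Or.inl rfl)
  have hJ := hfix (j0, j0) (Or.inl rfl)
  have hPc : Cl P (i0, 1) ∨ Cl P (1, i0) := by
    refine classes_i P ((hker _ _).1 ?_) ((hker _ _).1 ?_) ((hker _ _).1 ?_)
    · rw [map_mul, map_mul, ← hcmul _ _ _ _ hP hI, ← hcmul _ _ _ _ hI hP]
      exact conjeq _ _ (by decide)
    · rw [map_mul, map_mul, map_mul, ← hcmul _ _ _ _ (hcmul _ _ _ _ hP hJ) hc0, ← hcmul _ _ _ _ hJ hP]
      exact conjeq _ _ (by decide)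
    · rw [map_mul, ← hcmul _ _ _ _ hP hP, ← hc0]
      exact conjeq _ _ (by decide)
  have hRc : Cl R (j0, 1) ∨ Cl R (1, j0) := by
    refine classes_j R ((hker _ _).1 ?_) ((hker _ _).1 ?_) ((hker _ _).1 ?_)
    · rw [map_mul, map_mul, ← hcmul _ _ _ _ hR hJ, ← hcmul _ _ _ _ hJ hR]
      exact conjeq _ _ (by decide)
    · rw [map_mul, map_mul, map_mul, ← hcmul _ _ _ _ (hcmul _ _ _ _ hR hI) hc0, ← hcmul _ _ _ _ hI hR]
      exact conjeq _ _ (by decide)
    · rw [map_mul, ← hcmul _ _ _ _ hR hR, ← hc0]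
      exact conjeq _ _ (by decide)
  have hanti : Eqv (R * P) (P * R * d0) := by
    refine (hker _ _).1 ?_
    rw [map_mul, map_mul, map_mul, ← hcmul _ _ _ _ hR hP, ← hcmul _ _ _ _ (hcmul _ _ _ _ hP hR) hc0]
    exact conjeq _ _ (by decide)
  have swap_of : Cl P (1, i0) → Cl R (1, j0) →
      ∃ x : S, x * φ d0 * x⁻¹ = φ d0 ∧ Moves φ x (i0, 1) (1, i0) ∧ Moves φ x (j0, 1) (1, j0) ∧
        Moves φ x (1, i0) (i0, 1) ∧ Moves φ x (1, j0) (j0, 1) := by
    intro hP' hR'
    have h1 : Moves φ c (i0, 1) (1, i0) := ⟨P, hP', hP⟩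
    have h2 : Moves φ c (j0, 1) (1, j0) := ⟨R, hR', hR⟩
    refine ⟨c, hc0, h1, h2, ?_, ?_⟩
    · have := h1.inv.mul (show Moves φ c (i0, i0) (i0, i0) from ⟨_, Or.inl (Or.inl rfl), hI⟩)
      rwa [show ((i0, 1) : QG × QG)⁻¹ * (i0, i0) = (1, i0) by decide,
        show ((1, i0) : QG × QG)⁻¹ * (i0, i0) = (i0, 1) by decide] at this
    · have := h2.inv.mul (show Moves φ c (j0, j0) (j0, j0) from ⟨_, Or.inl (Or.inl rfl), hJ⟩)
      rwa [show ((j0, 1) : QG × QG)⁻¹ * (j0, j0) = (1, j0) by decide,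
        show ((1, j0) : QG × QG)⁻¹ * (j0, j0) = (j0, 1) by decide] at this
  rcases hPc with hP' | hP' <;> rcases hRc with hR' | hR'
  rotate_left 3
  · exact swap_of hP' hR'
  rotate_left 1
  · exfalso
    revert hP' hR' hanti
    rintro hanti (((rfl | rfl) | (rfl | rfl))) (((rfl | rfl) | (rfl | rfl))) <;> revert hanti <;> decide
  · exfalso
    revert hP' hR' hanti
    rintro hanti (((rfl | rfl) | (rfl | rfl))) (((rfl | rfl) | (rfl | rfl))) <;> revert hanti <;> decide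
  -- the inner case
  exfalso
  obtain ⟨d, hd, hdP, hdR⟩ : ∃ d, d ∈ graph ∧ Eqv (d * (i0, 1) * d⁻¹) P ∧ Eqv (d * (j0, 1) * d⁻¹) R := by
    rcases hP' with (rfl | rfl) | (rfl | rfl) <;> rcases hR' with (rfl | rfl) | (rfl | rfl)
    all_goals first
      | exact ⟨1, by decide, by decide, by decide⟩
      | exact ⟨(i0, i0), by decide, by decide, by decide⟩
      | exact ⟨(j0, j0), by decide, by decide, by decide⟩
      | exact ⟨(i0 * j0, i0 * j0), by decide, by decide, by decide⟩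
  set y := (φ d)⁻¹ * c with hy
  let G0 := (centralizer ({y} : Set S)).comap φ
  have hG0 : ∀ s : QG × QG, c * φ s * c⁻¹ = φ d * φ s * (φ d)⁻¹ → s ∈ G0 := fun s e => by
    refine mem_comap.2 (mem_centralizer_singleton_iff.2 ?_)
    rw [hy]
    calc φ s * ((φ d)⁻¹ * c) = (φ d)⁻¹ * (φ d * φ s * (φ d)⁻¹) * c := by group
      _ = (φ d)⁻¹ * (c * φ s * c⁻¹) * c := by rw [e]
      _ = (φ d)⁻¹ * c * φ s := by group
  have g1 : (i0, 1) ∈ G0 := hG0 _ (by rw [hP, ← map_inv, ← map_mul, ← map_mul]; exact ((hker _ _).2 hdP).symm)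
  have g2 : (j0, 1) ∈ G0 := hG0 _ (by rw [hR, ← map_inv, ← map_mul, ← map_mul]; exact ((hker _ _).2 hdR).symm)
  have gA : ∀ e, e ∈ graph → e ∈ G0 := fun e he => hG0 _ (by
    rw [hfix e he, hcom (φ d) (hAC (hmem d hd)) e he, mul_inv_cancel_right])
  have g3 : (1, i0) ∈ G0 := by
    have := mul_mem (inv_mem g1) (gA (i0, i0) (Or.inl rfl))
    rwa [show ((i0, 1) : QG × QG)⁻¹ * (i0, i0) = (1, i0) by decide] at this
  have g4 : (1, j0) ∈ G0 := by
    have := mul_mem (inv_mem g2) (gA (j0, j0) (Or.inl rfl))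
    rwa [show ((j0, 1) : QG × QG)⁻¹ * (j0, j0) = (1, j0) by decide] at this
  have hall : ∀ s : QG × QG, s ∈ G0 := by
    rintro ⟨s1, s2⟩
    obtain ⟨a, b, rfl⟩ := gens s1
    obtain ⟨a', b', rfl⟩ := gens s2
    have := mul_mem (mul_mem (pow_mem g1 (a : ℕ)) (pow_mem g2 (b : ℕ)))
      (mul_mem (pow_mem g3 (a' : ℕ)) (pow_mem g4 (b' : ℕ)))
    simpa using this
  have hyQ : y ∈ Q := hC (mem_centralizer_iff.2 (by
    rintro _ ⟨s, rfl⟩
    exact mem_centralizer_singleton_iff.1 (hall s)))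
  apply hcA
  have := mul_mem (hmem d hd) (hCQ y (mul_mem (inv_mem (hAC (hmem d hd))) hc) hyQ)
  rwa [hy, mul_inv_cancel_left] at this

/-- A central product of two quaternion groups which contains its centralizer gives a self-centralizing
elementary abelian subgroup of order eight. -/
theorem exists_self_centralizing [Finite S] (hS : IsPGroup 2 S) (Q Q₁ Q₂ : Subgroup S) (e₁ : Q₁ ≃* QG) (e₂ : Q₂ ≃* QG)
    (hcomm : ∀ a ∈ Q₁, ∀ b ∈ Q₂, a * b = b * a) (hQ : Q₁ ⊔ Q₂ = Q) (hQ32 : Nat.card Q = 32)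
    (hC : centralizer (Q : Set S) ≤ Q) :
    ∃ A : Subgroup S, (∀ a ∈ A, a * a = 1) ∧ Nat.card A = 8 ∧ centralizer (A : Set S) = A := by
  classical
  let φ : QG × QG →* S :=
    { toFun := fun p => (e₁.symm p.1 : S) * (e₂.symm p.2 : S)
      map_one' := by simp
      map_mul' := fun p q => by
        show (e₁.symm (p.1 * q.1) : S) * (e₂.symm (p.2 * q.2) : S) = _
        rw [map_mul, map_mul, coe_mul, coe_mul]
        calc (e₁.symm p.1 : S) * (e₁.symm q.1 : S) * ((e₂.symm p.2 : S) * (e₂.symm q.2 : S))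
            = (e₁.symm p.1 : S) * ((e₁.symm q.1 : S) * (e₂.symm p.2 : S)) * (e₂.symm q.2 : S) := by group
          _ = (e₁.symm p.1 : S) * ((e₂.symm p.2 : S) * (e₁.symm q.1 : S)) * (e₂.symm q.2 : S) := by
            rw [hcomm _ (e₁.symm q.1).2 _ (e₂.symm p.2).2]
          _ = _ := by group }
  have hφ : ∀ p, φ p = (e₁.symm p.1 : S) * (e₂.symm p.2 : S) := fun p => rfl
  have hrange : φ.range = Q := by
    refine le_antisymm ?_ ?_
    · rintro _ ⟨p, rfl⟩
      rw [hφ, ← hQ]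
      exact mul_mem (mem_sup_left (e₁.symm p.1).2) (mem_sup_right (e₂.symm p.2).2)
    · rw [← hQ]
      refine sup_le (fun x hx => ⟨(e₁ ⟨x, hx⟩, 1), ?_⟩) (fun x hx => ⟨(1, e₂ ⟨x, hx⟩), ?_⟩)
      · rw [hφ]; simp
      · rw [hφ]; simp
  have hker2 : Nat.card φ.ker = 2 := by
    have h := card_mul_index φ.ker
    rw [index_ker, hrange, hQ32, Nat.card_prod, Nat.card_eq_fintype_card (α := QG)] at h
    have h8 : Fintype.card QG = 8 := by decide
    rw [h8] at h; omega
  have hkmem : ∀ p, p ∈ φ.ker → p = 1 ∨ p = (cc, cc) := by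
    rintro ⟨p1, p2⟩ hp
    rw [MonoidHom.mem_ker, hφ] at hp
    have hinv : (e₁.symm p1 : S) = (e₂.symm p2 : S)⁻¹ := eq_inv_of_mul_eq_one_left hp
    have c1 : p1 = 1 ∨ p1 = cc := central p1 fun q => by
      apply e₁.symm.injective
      apply Subtype.ext
      rw [map_mul, map_mul, coe_mul, coe_mul, hinv]
      exact (Commute.inv_left (show Commute (e₂.symm p2 : S) (e₁.symm q : S) from
        (hcomm _ (e₁.symm q).2 _ (e₂.symm p2).2).symm)).eq
    have c2 : p2 = 1 ∨ p2 = cc := central p2 fun q => by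
      apply e₂.symm.injective
      apply Subtype.ext
      have hinv' : (e₂.symm p2 : S) = (e₁.symm p1 : S)⁻¹ := by rw [hinv, inv_inv]
      rw [map_mul, map_mul, coe_mul, coe_mul, hinv']
      exact (Commute.inv_left (show Commute (e₁.symm p1 : S) (e₂.symm q : S) from
        hcomm _ (e₁.symm p1).2 _ (e₂.symm q).2)).eq
    have hne : cc ≠ (1 : QG) := by decide
    rcases c1 with rfl | rfl <;> rcases c2 with rfl | rfl
    · exact Or.inl rfl
    · exfalso
      rw [map_one, coe_one, one_mul] at hp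
      exact hne (e₂.symm.injective (Subtype.ext (by rw [hp, map_one, coe_one])))
    · exfalso
      rw [map_one, coe_one, mul_one] at hp
      exact hne (e₁.symm.injective (Subtype.ext (by rw [hp, map_one, coe_one])))
    · exact Or.inr rfl
  have hcc : (cc, cc) ∈ φ.ker := by
    by_contra h
    have : φ.ker = ⊥ := (eq_bot_iff_forall _).2 fun p hp => (hkmem p hp).resolve_right fun e => h (e ▸ hp)
    rw [this, card_bot] at hker2
    omega
  have hker : ∀ p q, φ p = φ q ↔ Eqv p q := by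
    intro p q
    constructor
    · intro h
      have hm : q⁻¹ * p ∈ φ.ker := by rw [MonoidHom.mem_ker, map_mul, map_inv, h, inv_mul_cancel]
      rcases hkmem _ hm with r | r
      · exact Or.inl (inv_mul_eq_one.1 r).symm
      · exact Or.inr (by rw [← r, mul_inv_cancel_left])
    · rintro (rfl | rfl)
      · rfl
      · rw [map_mul, MonoidHom.mem_ker.1 hcc, mul_one]
  -- the candidates
  set ψ := φ.comp relabel with hψ
  have hψker : ∀ p q, ψ p = ψ q ↔ Eqv p q := by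
    intro p q
    have key : ∀ r s : QG × QG, Eqv r s ↔ Eqv (s⁻¹ * r) 1 := by
      intro r s
      constructor
      · rintro (rfl | rfl)
        · exact Or.inl (inv_mul_cancel _)
        · exact Or.inr (by rw [inv_mul_cancel_left, one_mul])
      · rintro (h | h)
        · exact Or.inl (inv_mul_eq_one.1 h).symm
        · exact Or.inr (by rw [← one_mul (cc, cc), ← h, mul_inv_cancel_left])
    show φ (relabel p) = φ (relabel q) ↔ _
    rw [hker, key, key p q, ← map_inv, ← map_mul, relabel_eqv]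
  have hψrange : ψ.range = φ.range := by
    refine le_antisymm ?_ ?_
    · rintro _ ⟨p, rfl⟩; exact ⟨relabel p, rfl⟩
    · rintro _ ⟨p, rfl⟩; exact ⟨_, by show φ (relabel _) = _; rw [relabel_surj]⟩
  have hgood : ∀ (χ : QG × QG →* S), (∀ p q, χ p = χ q ↔ Eqv p q) →
      centralizer ((graph.map χ : Subgroup S) : Set S) = graph.map χ →
      ∃ A : Subgroup S, (∀ a ∈ A, a * a = 1) ∧ Nat.card A = 8 ∧ centralizer (A : Set S) = A := by
    intro χ hχ hcen
    refine ⟨_, ?_, ?_, hcen⟩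
    · rintro _ ⟨d, hd, rfl⟩
      rw [← map_mul, ← map_one χ, hχ]
      exact graph_sq d hd
    · let r := χ.comp graph.subtype
      have hr : r.range = graph.map χ := by rw [MonoidHom.range_comp, range_subtype]
      have hk : Nat.card r.ker = 2 := by
        have hkeq : ∀ d : graph, d ∈ r.ker ↔ (d : QG × QG) = 1 ∨ (d : QG × QG) = (cc, cc) := fun d => by
          rw [MonoidHom.mem_ker, ← map_one χ]
          show χ d = χ 1 ↔ _
          rw [hχ, Eqv, one_mul]
        rw [Nat.card_congr (Equiv.subtypeEquivRight hkeq)]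
        rw [Nat.card_eq_fintype_card]
        decide
      have h := card_mul_index r.ker
      rw [index_ker, hk, card_graph, hr] at h
      omega
  have hCφ : centralizer (φ.range : Set S) ≤ φ.range := by rw [hrange]; exact hC
  rcases moved hS φ hker hCφ with h | ⟨x, hx0, hxi, hxj, -, -⟩
  · exact hgood φ hker h
  rcases moved hS ψ hψker (by rw [hψrange]; exact hCφ) with h | ⟨x', hx'0, -, -, hx'k, hx'l⟩
  · exact hgood ψ hψker h
  exfalso
  have hk1 : ∀ p, Eqv p 1 → φ p = 1 := fun p hp => by rw [← map_one φ, hker]; exact hp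
  have hd0 : relabel d0 = d0 := by decide
  have hx'0' : x' * φ d0 * x'⁻¹ = φ d0 := by
    have := hx'0
    change x' * φ (relabel d0) * x'⁻¹ = φ (relabel d0) at this
    rwa [hd0] at this
  have transfer : ∀ p q, Moves ψ x' p q → Moves φ x' (relabel p) (relabel q) := by
    rintro p q ⟨r, hr, e⟩
    refine ⟨relabel r, ?_, e⟩
    have hcc' : relabel (cc, cc) = (cc, cc) := by decide
    rcases hr with (s | s) | (s | s) <;> rw [s]
    · exact Or.inl (Or.inl rfl)
    · rw [map_mul, hcc']; exact Or.inl (Or.inr rfl)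
    · rw [map_mul, hd0]; exact Or.inr (Or.inl rfl)
    · rw [map_mul, map_mul, hcc', hd0]; exact Or.inr (Or.inr rfl)
  have m1 : Moves φ x' (1, j0) (i0, 1) := by
    have := transfer _ _ hx'k
    rwa [show relabel (1, i0) = (1, j0) by decide, show relabel (i0, 1) = (i0, 1) by decide] at this
  have m2 : Moves φ x' (1, i0 * j0) (j0, 1) := by
    have := transfer _ _ hx'l
    rwa [show relabel (1, j0) = (1, i0 * j0) by decide, show relabel (j0, 1) = (j0, 1) by decide] at this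
  have m3 : Moves φ x' (1, i0) (j0 * i0⁻¹, 1) := by
    have := m2.mul m1.inv
    rwa [show ((1, i0 * j0) : QG × QG) * (1, j0)⁻¹ = (1, i0) by decide,
      show ((j0, 1) : QG × QG) * (i0, 1)⁻¹ = (j0 * i0⁻¹, 1) by decide] at this
  set g := x' * x with hg
  have hg0 : g * φ d0 * g⁻¹ = φ d0 := by
    calc g * φ d0 * g⁻¹ = x' * (x * φ d0 * x⁻¹) * x'⁻¹ := by rw [hg]; group
      _ = _ := by rw [hx0, hx'0']
  have gi : Moves φ g (i0, 1) (j0 * i0⁻¹, 1) := hxi.comp hx'0' hk1 m3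
  have gj : Moves φ g (j0, 1) (i0, 1) := hxj.comp hx'0' hk1 m1
  have gm : Moves φ g (j0 * i0⁻¹, 1) (i0 * (j0 * i0⁻¹)⁻¹, 1) := by
    have := gj.mul gi.inv
    rwa [show ((j0, 1) : QG × QG) * (i0, 1)⁻¹ = (j0 * i0⁻¹, 1) by decide,
      show ((i0, 1) : QG × QG) * (j0 * i0⁻¹, 1)⁻¹ = (i0 * (j0 * i0⁻¹)⁻¹, 1) by decide] at this
  have clj : ∀ r, Cl r (i0 * (j0 * i0⁻¹)⁻¹, 1) → Cl r (j0, 1) := by decide
  have gm' : Moves φ g (j0 * i0⁻¹, 1) (j0, 1) := by
    obtain ⟨r, hr, e⟩ := gm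
    exact ⟨r, clj r hr, e⟩
  have g3 : Moves φ (g * (g * g)) (i0, 1) (i0, 1) :=
    ((gi.comp hg0 hk1 gm')).comp hg0 hk1 gj
  have h30 : g * (g * g) * φ d0 * (g * (g * g))⁻¹ = φ d0 := by
    calc g * (g * g) * φ d0 * (g * (g * g))⁻¹ = g * (g * (g * φ d0 * g⁻¹) * g⁻¹) * g⁻¹ := by group
      _ = φ d0 := by rw [hg0, hg0, hg0]
  have hpw : ∀ m : ℕ, Moves φ ((g * (g * g)) ^ m) (i0, 1) (i0, 1) := by
    intro m
    induction m with
    | zero => exact ⟨_, Or.inl (Or.inl rfl), by rw [pow_zero, one_mul, inv_one, mul_one]⟩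
    | succ m ih => rw [pow_succ']; exact ih.comp h30 hk1 g3
  obtain ⟨k, hk⟩ := hS g
  obtain ⟨m, t, hm⟩ : ∃ m t : ℕ, 3 * m = 1 + 2 ^ k * t := by
    clear * -
    induction k with
    | zero => exact ⟨1, 2, by norm_num⟩
    | succ k ih =>
      obtain ⟨m, t, h⟩ := ih
      obtain ⟨s, rfl | rfl⟩ := Nat.even_or_odd' t
      · exact ⟨m, s, by rw [h, pow_succ]; ring⟩
      · exact ⟨m + 2 ^ k, s + 2, by rw [mul_add, h, pow_succ]; ring⟩
  have hgpow : (g * (g * g)) ^ m = g := by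
    rw [show g * (g * g) = g ^ 3 by rw [pow_succ' g 2, pow_two g], ← pow_mul, hm, pow_add, pow_one, pow_mul, hk,
      one_pow, mul_one]
  obtain ⟨r, hr, e⟩ := hgpow ▸ hpw m
  obtain ⟨r', hr', e'⟩ := gi
  have hrr : Eqv r r' := (hker _ _).1 (e.symm.trans e')
  revert hr hr' hrr
  clear * -
  rintro ((rfl | rfl) | (rfl | rfl)) ((rfl | rfl) | (rfl | rfl)) <;> decide

end Cfsg.Lib.HaradaE8.Extraspecial
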