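import Cfsg.Agent.Lib.HaradaE8.Main
import Cfsg.Prelude.Def_TwoFusion

/-!
# 2-groups in which three involutions of a four-group have the same centralizer

If the centralizer of every involution of a four-group `B` in the 2-group `S` is `T = D × B`, with
`D` dihedral or quasi-dihedral, then every section of `S` has rank at most four.
-/

set_option autoImplicit false
set_option linter.unusedSectionVars false
set_option linter.style.haveILetI false

namespace Cfsg.Lib.HaradaE8.FourCent

open Subgroup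

universe u

variable {S : Type u} [Group S] [Finite S]

/-- A proper subgroup of a 2-group is moved by something outside it. -/
theorem eq_top_of_normalizer_le (hS : IsPGroup 2 S) {H : Subgroup S}
    (h : normalizer (H : Set S) ≤ H) : H = ⊤ := by
  haveI : Fact (Nat.Prime 2) := ⟨Nat.prime_two⟩
  haveI : Group.IsNilpotent S := hS.isNilpotent
  by_contra hne
  exact absurd h (not_le_of_gt (Group.normalizerCondition_of_isNilpotent H (lt_top_iff_ne_top.2 hne)))

theorem mem_normalizer_of (H : Subgroup S) {n : S} (h : ∀ t ∈ H, n * t * n⁻¹ ∈ H) :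
    n ∈ normalizer (H : Set S) := by
  rw [mem_normalizer_iff_map_conj_eq]
  refine eq_of_le_of_card_ge ?_ (le_of_eq ?_)
  · rintro _ ⟨t, ht, rfl⟩
    exact h t ht
  · exact Nat.card_congr (H.equivMapOfInjective _ (MulAut.conj n).injective).toEquiv

theorem conj_mem {H : Subgroup S} {n : S} (hn : n ∈ normalizer (H : Set S)) {t : S} (ht : t ∈ H) :
    n * t * n⁻¹ ∈ H :=
  (mem_normalizer_iff.1 hn t).1 ht

/-- Induction along squares. -/
theorem mem_of_sq {P : S → Prop} (hS : IsPGroup 2 S) {X : Subgroup S}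
    (hP : ∀ n, P n → P (n ^ 2)) (h : ∀ n, P n → n ^ 2 ∈ X → n ∈ X) :
    ∀ n, P n → n ∈ X := by
  have aux : ∀ k : ℕ, ∀ n, P n → n ^ 2 ^ k ∈ X → n ∈ X := by
    intro k
    induction k with
    | zero => intro n _ hx; simpa using hx
    | succ k ih =>
      intro n hn hx
      refine h n hn (ih (n ^ 2) (hP n hn) ?_)
      rwa [← pow_mul, ← pow_succ']
  intro n hn
  obtain ⟨k, hk⟩ := hS n
  exact aux k n hn (by rw [hk]; exact one_mem X)

/-- The hypotheses common to both cases. -/
structure Data (T B : Subgroup S) : Prop where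
  two : IsPGroup 2 S
  le : B ≤ T
  four : Nat.card B = 4
  sq : ∀ b ∈ B, b * b = 1
  cent : ∀ b ∈ B, b ≠ 1 → centralizer ({b} : Set S) = T

variable {T B : Subgroup S}

theorem Data.commute (h : Data T B) {b t : S} (hb : b ∈ B) (ht : t ∈ T) : t * b = b * t := by
  by_cases hb1 : b = 1
  · rw [hb1, mul_one, one_mul]
  · rw [← h.cent b hb hb1] at ht
    exact mem_centralizer_singleton_iff.1 ht

theorem Data.mem_of_fix (h : Data T B) {b n : S} (hb : b ∈ B) (hb1 : b ≠ 1)
    (hn : n * b * n⁻¹ = b) : n ∈ T := by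
  rw [← h.cent b hb hb1]
  exact mem_centralizer_singleton_iff.2 (mul_inv_eq_iff_eq_mul.1 hn)

theorem Data.exists_ne_one (h : Data T B) : ∃ b ∈ B, b ≠ 1 := by
  by_contra hno
  push Not at hno
  have : B = ⊥ := le_bot_iff.1 fun b hb => mem_bot.2 (hno b hb)
  have h4 := h.four
  rw [this, card_bot] at h4
  exact absurd h4 (by norm_num)

/-! ### Cyclic times four-group, extended by two -/

/-- Elements `x ^ i * b`. -/
def cycTimes (h : Data T B) {x : S} (hx : x ∈ T) : Subgroup S where
  carrier := {t | ∃ i : ℤ, ∃ b ∈ B, t = x ^ i * b}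
  one_mem' := ⟨0, 1, one_mem _, by simp⟩
  mul_mem' := by
    rintro _ _ ⟨i, b, hb, rfl⟩ ⟨j, c, hc, rfl⟩
    refine ⟨i + j, b * c, mul_mem hb hc, ?_⟩
    have e : x ^ j * b = b * x ^ j := h.commute hb (zpow_mem hx j)
    calc x ^ i * b * (x ^ j * c) = x ^ i * (b * x ^ j) * c := by group
      _ = x ^ i * (x ^ j * b) * c := by rw [e]
      _ = x ^ (i + j) * (b * c) := by group
  inv_mem' := by
    rintro _ ⟨i, b, hb, rfl⟩
    refine ⟨-i, b⁻¹, inv_mem hb, ?_⟩
    rw [mul_inv_rev, ← zpow_neg]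
    exact ((h.commute (inv_mem hb) (zpow_mem hx (-i))).symm)

theorem mem_cycTimes {h : Data T B} {x : S} {hx : x ∈ T} {t : S} :
    t ∈ cycTimes h hx ↔ ∃ i : ℤ, ∃ b ∈ B, t = x ^ i * b := Iff.rfl

theorem cycTimes_comm (h : Data T B) {x : S} (hx : x ∈ T) {s t : S} (hs : s ∈ cycTimes h hx)
    (ht : t ∈ cycTimes h hx) : Commute s t := by
  obtain ⟨i, b, hb, rfl⟩ := hs
  obtain ⟨j, c, hc, rfl⟩ := ht
  have e1 : Commute (x ^ i) c := h.commute hc (zpow_mem hx i)
  have e2 : Commute (x ^ j) b := h.commute hb (zpow_mem hx j)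
  have e3 : Commute b c := h.commute hc (h.le hb)
  exact Commute.mul_left ((Commute.zpow_zpow_self x i j).mul_right e1) (e2.symm.mul_right e3)

/-- An elementary quotient of a subgroup of a cyclic by four group has order at most eight. -/
theorem relIndex_cycTimes (h : Data T B) {x : S} (hx : x ∈ T) {M N : Subgroup S}
    (hM : M ≤ cycTimes h hx) (hsq : SqIn M N) : N.relIndex M ≤ 8 := by
  classical
  let P : AddSubgroup ℤ :=
    { carrier := {i | ∃ b ∈ B, x ^ i * b ∈ M}
      zero_mem' := ⟨1, one_mem _, by simp⟩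
      add_mem' := by
        rintro i j ⟨b, hb, hm⟩ ⟨c, hc, hn⟩
        refine ⟨b * c, mul_mem hb hc, ?_⟩
        have e : x ^ j * b = b * x ^ j := h.commute hb (zpow_mem hx j)
        have := mul_mem hm hn
        rw [show x ^ i * b * (x ^ j * c) = x ^ i * (b * x ^ j) * c by group, ← e] at this
        rwa [show x ^ (i + j) * (b * c) = x ^ i * (x ^ j * b) * c by group]
      neg_mem' := by
        rintro i ⟨b, hb, hm⟩
        refine ⟨b⁻¹, inv_mem hb, ?_⟩
        have := inv_mem hm
        rw [mul_inv_rev, ← zpow_neg] at this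
        rwa [h.commute (inv_mem hb) (zpow_mem hx (-i))] }
  obtain ⟨g, hg⟩ := Int.subgroup_cyclic P
  have hgP : g ∈ P := by rw [hg]; exact AddSubgroup.mem_closure_singleton_self g
  obtain ⟨b₀, hb₀, hm₀⟩ := hgP
  set m₀ := x ^ g * b₀ with hm₀def
  have hdec : ∀ m ∈ M, ∃ k : ℤ, m₀ ^ (-k) * m ∈ B := by
    intro m hm
    obtain ⟨i, b, hb, hmib⟩ := hM hm
    have hi : i ∈ P := ⟨b, hb, hmib ▸ hm⟩
    rw [hg, AddSubgroup.mem_closure_singleton] at hi
    obtain ⟨k, hk⟩ := hi
    refine ⟨k, ?_⟩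
    have hc : Commute (x ^ g) b₀ := h.commute hb₀ (zpow_mem hx g)
    have hc' : Commute (b₀ ^ (-k)) (x ^ i) :=
      (h.commute (zpow_mem hb₀ (-k)) (zpow_mem hx i)).symm
    rw [hm₀def, hc.mul_zpow, hmib, show (x ^ g) ^ (-k) * b₀ ^ (-k) * (x ^ i * b) =
      (x ^ g) ^ (-k) * (b₀ ^ (-k) * x ^ i) * b by group, hc'.eq, ← zpow_mul, ← hk, smul_eq_mul,
      show x ^ (g * -k) * (x ^ (k * g) * b₀ ^ (-k)) * b = b₀ ^ (-k) * b by
        rw [← mul_assoc (x ^ (g * -k)), ← zpow_add, show g * -k + k * g = 0 by ring, zpow_zero,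
          one_mul]]
    exact mul_mem (zpow_mem hb₀ _) hb
  let f : Bool × B → ↥M ⧸ N.subgroupOf M := fun q =>
    if hq : (q.2 : S) ∈ M then
      ((cond q.1 ⟨m₀, hm₀⟩ 1 * ⟨(q.2 : S), hq⟩ : M) : ↥M ⧸ N.subgroupOf M)
    else ((1 : M) : ↥M ⧸ N.subgroupOf M)
  have hsurj : Function.Surjective f := by
    intro q
    obtain ⟨m, rfl⟩ := QuotientGroup.mk_surjective q
    obtain ⟨k, hk⟩ := hdec m m.2
    have hb'M : m₀ ^ (-k) * (m : S) ∈ M := mul_mem (zpow_mem hm₀ _) m.2
    obtain ⟨q', e, hke⟩ : ∃ q' : ℤ, ∃ e : Bool, k = 2 * q' + cond e 1 0 := by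
      rcases Int.emod_two_eq_zero_or_one k with e | e
      · exact ⟨k / 2, false, by simp; omega⟩
      · exact ⟨k / 2, true, by simp; omega⟩
    refine ⟨(e, ⟨_, hk⟩), ?_⟩
    simp only [f, dif_pos hb'M]
    refine QuotientGroup.eq.2 ?_
    rw [mem_subgroupOf]
    have hN : m₀ ^ (2 * q') ∈ N := by
      rw [mul_comm, zpow_mul]
      exact_mod_cast hsq _ (zpow_mem hm₀ q')
    have hcm : Commute m₀ (m : S) := cycTimes_comm h hx (hM hm₀) (hM m.2)
    convert hN using 1
    push_cast
    cases e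
    · simp only [cond_false, OneMemClass.coe_one, one_mul, mul_inv_rev]
      have hk' : k = 2 * q' := by simpa using hke
      rw [hk', ← zpow_neg, neg_neg, mul_assoc, (hcm.zpow_left _).eq, inv_mul_cancel_left]
    · simp only [cond_true, mul_inv_rev]
      have hk' : k = 2 * q' + 1 := by simpa using hke
      rw [← zpow_neg, neg_neg, mul_assoc, mul_assoc, ← mul_assoc (m₀ ^ k),
        ← zpow_sub_one, hk', show 2 * q' + 1 - 1 = 2 * q' by ring, (hcm.zpow_left _).eq,
        inv_mul_cancel_left]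
  refine (Nat.card_le_card_of_surjective f hsurj).trans (le_of_eq ?_)
  rw [Nat.card_prod, h.four, Nat.card_eq_fintype_card, Fintype.card_bool]

/-! ### Non-abelian `D` -/

/-- With a non-abelian maximal class factor `D`, the group `T` is self-normalizing, so everything. -/
theorem eq_top_of_nonabelian (h : Data T B) {D : Subgroup S} {x y : S} (hprod : Cfsg.IsInternalDirectProduct D B T)
    (hxD : x ∈ D) (hidx : (zpowers x).relIndex D = 2) (hx4 : 4 ∣ orderOf x) (hyD : y ∈ D)
    (hnc : y * x ≠ x * y) : T = ⊤ := by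
  obtain ⟨hDT, hBT, hDB, hmeet, hsup⟩ := hprod
  have hdec : ∀ t ∈ T, ∃ d ∈ D, ∃ b ∈ B, t = d * b := by
    intro t ht
    rw [← hsup] at ht
    have hcent : B ≤ normalizer (D : Set S) := fun b hb =>
      mem_normalizer_of D fun d hd => by rwa [← hDB d hd b hb, mul_inv_cancel_right]
    rw [← SetLike.mem_coe, coe_mul_of_right_le_normalizer_left D B hcent] at ht
    obtain ⟨d, hd, b, hb, rfl⟩ := ht
    exact ⟨d, hd, b, hb, rfl⟩
  have hsqD : ∀ d ∈ D, d * d ∈ zpowers x := fun d hd => by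
    have hi : ((zpowers x).subgroupOf D).index = 2 := hidx
    simpa [mem_subgroupOf] using mul_self_mem_of_index_two hi ⟨d, hd⟩
  have hinD : ∀ d ∈ D, d ∉ zpowers x → ∀ e ∈ D, e ∈ zpowers x ∨ d⁻¹ * e ∈ zpowers x := by
    intro d hd hdx e he
    by_cases hex : e ∈ zpowers x
    · exact Or.inl hex
    · refine Or.inr ?_
      have hi : ((zpowers x).subgroupOf D).index = 2 := hidx
      have := (mul_mem_iff_of_index_two hi (a := (⟨d, hd⟩ : D)⁻¹) (b := ⟨e, he⟩)).2
      simpa [mem_subgroupOf, hdx, hex] using this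
  have huniq : ∀ v ∈ zpowers x, ∀ w ∈ zpowers x, v * v = 1 → w * w = 1 → v ≠ 1 → w ≠ 1 → v = w :=
    fun v hv w hw hv2 hw2 hv1 hw1 => sq_eq_one_unique hv hw hv2 hw2 hv1 hw1
  obtain ⟨n, hn⟩ := hx4
  set s := x ^ n with hs
  set z := s * s with hz
  have hordx : 0 < orderOf x := orderOf_pos x
  have hz1 : z ≠ 1 := by
    rw [hz, hs, ← pow_add]
    exact pow_ne_one_of_lt_orderOf (by omega) (by omega)
  have hz2 : z * z = 1 := by
    rw [hz, hs, ← pow_add, ← pow_add, show n + n + (n + n) = orderOf x by omega, pow_orderOf_eq_one]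
  have hsx : s ∈ zpowers x := pow_mem (mem_zpowers x) n
  have hzx : z ∈ zpowers x := mul_mem hsx hsx
  have hxT : x ∈ T := hDT hxD
  refine eq_top_of_normalizer_le h.two (mem_of_sq (P := fun g => g ∈ normalizer (T : Set S)) h.two
    (fun g hg => pow_mem hg 2) fun g hg hg2 => ?_)
  by_contra hgT
  -- the image of the distinguished involution
  have hgz : g * z * g⁻¹ = z := by
    obtain ⟨d, hd, b, hb, he⟩ := hdec _ (conj_mem hg (hDT (zpowers_le.2 hxD hsx)))
    have hdb : d * b = b * d := hDB d hd b hb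
    have e1 : g * z * g⁻¹ = d * d := by
      calc g * z * g⁻¹ = (g * s * g⁻¹) * (g * s * g⁻¹) := by rw [hz]; group
        _ = d * (b * d) * b := by rw [he]; group
        _ = d * d * (b * b) := by rw [← hdb]; group
        _ = d * d := by rw [h.sq b hb, mul_one]
    rw [e1]
    refine huniq _ (hsqD d hd) _ hzx ?_ hz2 ?_ hz1
    · rw [← e1]
      calc g * z * g⁻¹ * (g * z * g⁻¹) = g * (z * z) * g⁻¹ := by group
        _ = 1 := by rw [hz2]; group
    · rw [← e1, Ne, conj_eq_one_iff]
      exact hz1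
  have hzT : z ∈ T := zpowers_le.2 hxT hzx
  -- the images of the involutions of `B`
  have himg : ∀ b ∈ B, ∃ c ∈ B, g * b * g⁻¹ = c ∨ g * b * g⁻¹ = z * c := by
    intro b hb
    obtain ⟨d, hd, c, hc, he⟩ := hdec _ (conj_mem hg (hBT hb))
    refine ⟨c, hc, ?_⟩
    have hdc : d * c = c * d := hDB d hd c hc
    have hcomm : ∀ e ∈ D, e * d = d * e := by
      intro e he'
      have hbc : g * b * g⁻¹ * e = e * (g * b * g⁻¹) := by
        have hkey : Commute b (g⁻¹ * e * g) := (h.commute hb (by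
          have := conj_mem (inv_mem hg) (hDT he')
          rwa [inv_inv] at this)).symm
        calc g * b * g⁻¹ * e = g * (b * (g⁻¹ * e * g)) * g⁻¹ := by group
          _ = g * ((g⁻¹ * e * g) * b) * g⁻¹ := by rw [hkey.eq]
          _ = e * (g * b * g⁻¹) := by group
      rw [he] at hbc
      have hec : e * c = c * e := hDB e he' c hc
      have : e * d * c = d * e * c := by
        calc e * d * c = e * (d * c) := by group
          _ = d * c * e := hbc.symm
          _ = d * (e * c) := by rw [mul_assoc, hec]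
          _ = d * e * c := by group
      exact mul_right_cancel this
    have hd2 : d * d = 1 := by
      have : d * d * (c * c) = 1 := by
        calc d * d * (c * c) = d * (d * c) * c := by group
          _ = d * (c * d) * c := by rw [hdc]
          _ = d * c * (d * c) := by group
          _ = g * (b * b) * g⁻¹ := by rw [← he]; group
          _ = 1 := by rw [h.sq b hb]; group
      rwa [h.sq c hc, mul_one] at this
    by_cases hd1 : d = 1
    · exact Or.inl (by rw [he, hd1, one_mul])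
    have hdx : d ∈ zpowers x := by
      by_contra hdx
      refine hnc ?_
      have hdxc : Commute d x := (hcomm x hxD).symm
      rcases hinD d hd hdx y hyD with hy | hy
      · obtain ⟨i, rfl⟩ := mem_zpowers_iff.1 hy
        exact (Commute.zpow_self x i).eq
      · obtain ⟨i, hi⟩ := mem_zpowers_iff.1 hy
        rw [show y = d * x ^ i by rw [hi]; group]
        exact (hdxc.mul_left (Commute.zpow_self x i)).eq
    exact Or.inr (by rw [he, huniq d hdx z hzx hd2 hz2 hd1 hz1])
  -- some involution of `B` is fixed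
  have hnofix : ∀ b ∈ B, g * b * g⁻¹ = b → b = 1 := fun b hb hfix => by
    by_contra hb1
    exact hgT (h.mem_of_fix hb hb1 hfix)
  have hg2fix : ∀ b ∈ B, g * (g * b * g⁻¹) * g⁻¹ = b := fun b hb => by
    rw [show g * (g * b * g⁻¹) * g⁻¹ = g ^ 2 * b * (g ^ 2)⁻¹ by rw [pow_two]; group, h.commute hb hg2,
      mul_inv_cancel_right]
  have hzc : ∀ b ∈ B, z * b = b * z := fun b hb => h.commute hb hzT
  have hshift : ∀ b ∈ B, g * b * g⁻¹ = b ∨ g * b * g⁻¹ = z * b := by
    intro b hb
    obtain ⟨c, hc, he⟩ := himg b hb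
    have hw : g * (b * c) * g⁻¹ = b * c := by
      rcases he with e | e
      · calc g * (b * c) * g⁻¹ = g * b * g⁻¹ * (g * c * g⁻¹) := by group
          _ = g * b * g⁻¹ * (g * (g * b * g⁻¹) * g⁻¹) := by rw [e]
          _ = c * b := by rw [hg2fix b hb, e]
          _ = b * c := h.commute hb (hBT hc)
      · have ec : g * c * g⁻¹ = z * b := by
          have := hg2fix b hb
          rw [e, show g * (z * c) * g⁻¹ = g * z * g⁻¹ * (g * c * g⁻¹) by group, hgz] at this
          calc g * c * g⁻¹ = z * z * (g * c * g⁻¹) := by rw [hz2, one_mul]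
            _ = z * b := by rw [mul_assoc, this]
        calc g * (b * c) * g⁻¹ = g * b * g⁻¹ * (g * c * g⁻¹) := by group
          _ = z * (c * z) * b := by rw [e, ec]; group
          _ = z * (z * c) * b := by rw [hzc c hc]
          _ = z * z * (c * b) := by group
          _ = b * c := by rw [hz2, one_mul]; exact h.commute hb (hBT hc)
    have hcb : c = b := by
      have := hnofix _ (mul_mem hb hc) hw
      rw [← inv_eq_of_mul_eq_one_right this]
      exact inv_eq_of_mul_eq_one_right (h.sq b hb)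
    rwa [hcb] at he
  obtain ⟨b, hb, hb1⟩ := h.exists_ne_one
  have hB2 : ∃ c ∈ B, c ≠ 1 ∧ c ≠ b := by
    by_contra hno
    push Not at hno
    classical
    haveI : Fintype B := Fintype.ofFinite B
    have hsub : (Finset.univ : Finset B) ⊆ {1, ⟨b, hb⟩} := fun c _ => by
      by_cases hc1 : (c : S) = 1
      · exact Finset.mem_insert.2 (Or.inl (Subtype.ext hc1))
      · exact Finset.mem_insert.2 (Or.inr (Finset.mem_singleton.2 (Subtype.ext (hno c c.2 hc1))))
    have := (Finset.card_le_card hsub).trans (Finset.card_le_two)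
    rw [Finset.card_univ, ← Nat.card_eq_fintype_card, h.four] at this
    omega
  obtain ⟨c, hc, hc1, hcb⟩ := hB2
  have hbc1 : b * c ≠ 1 := fun e => hcb (by
    rw [← inv_eq_of_mul_eq_one_right e]
    exact inv_eq_of_mul_eq_one_right (h.sq b hb))
  have eb := (hshift b hb).resolve_left fun e => hb1 (hnofix b hb e)
  have ec := (hshift c hc).resolve_left fun e => hc1 (hnofix c hc e)
  refine hbc1 (hnofix _ (mul_mem hb hc) ?_)
  calc g * (b * c) * g⁻¹ = g * b * g⁻¹ * (g * c * g⁻¹) := by group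
    _ = z * (b * z) * c := by rw [eb, ec]; group
    _ = z * (z * b) * c := by rw [hzc b hb]
    _ = z * z * (b * c) := by group
    _ = b * c := by rw [hz2, one_mul]

theorem bound_nonabelian (h : Data T B) {D : Subgroup S} {x y : S} (hprod : Cfsg.IsInternalDirectProduct D B T)
    (hxD : x ∈ D) (hidx : (zpowers x).relIndex D = 2) (hx4 : 4 ∣ orderOf x) (hyD : y ∈ D)
    (hnc : y * x ≠ x * y) {L N : Subgroup S} (hsq : SqIn L N) : N.relIndex L ≤ 16 := by
  have htop := eq_top_of_nonabelian h hprod hxD hidx hx4 hyD hnc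
  obtain ⟨hDT, hBT, hDB, -, hsup⟩ := hprod
  have hcent : B ≤ normalizer (D : Set S) := fun b hb =>
    mem_normalizer_of D fun d hd => by rwa [← hDB d hd b hb, mul_inv_cancel_right]
  set U := cycTimes h (hDT hxD) with hU
  have h2 : U.relIndex L ≤ 2 := by
    refine relIndex_le_two fun a _ c _ ha hc => ?_
    have hdec : ∀ t : S, ∃ d ∈ D, ∃ b ∈ B, t = d * b := by
      intro t
      have ht : t ∈ D ⊔ B := by rw [hsup, htop]; exact mem_top t
      rw [← SetLike.mem_coe, coe_mul_of_right_le_normalizer_left D B hcent] at ht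
      obtain ⟨d, hd, b, hb, rfl⟩ := ht
      exact ⟨d, hd, b, hb, rfl⟩
    obtain ⟨d, hd, b, hb, rfl⟩ := hdec a
    obtain ⟨e, he, b', hb', rfl⟩ := hdec c
    have hdU : d ∉ zpowers x := fun hh => by
      obtain ⟨i, hi⟩ := mem_zpowers_iff.1 hh
      exact ha ⟨i, b, hb, by rw [hi]⟩
    have heU : e ∉ zpowers x := fun hh => by
      obtain ⟨i, hi⟩ := mem_zpowers_iff.1 hh
      exact hc ⟨i, b', hb', by rw [hi]⟩
    have hi : ((zpowers x).subgroupOf D).index = 2 := hidx
    have hde := (mul_mem_iff_of_index_two hi (a := (⟨d, hd⟩ : D)⁻¹) (b := ⟨e, he⟩)).2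
    simp only [inv_mem_iff, mem_subgroupOf] at hde
    have hde' : d⁻¹ * e ∈ zpowers x := by simpa using hde (iff_of_false hdU heU)
    obtain ⟨i, hi⟩ := mem_zpowers_iff.1 hde'
    refine ⟨i, b⁻¹ * b', mul_mem (inv_mem hb) hb', ?_⟩
    have e1 : Commute (d⁻¹ * e) b⁻¹ := hDB _ (mul_mem (inv_mem hd) he) _ (inv_mem hb)
    rw [hi, mul_inv_rev, show b⁻¹ * d⁻¹ * (e * b') = b⁻¹ * (d⁻¹ * e) * b' by group, ← e1.eq,
      mul_assoc]
  have h8 := relIndex_cycTimes h (hDT hxD) (M := L ⊓ U) (N := N) inf_le_right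
    (fun l hl => hsq l hl.1)
  have := (relIndex_le_mul N U L).trans (Nat.mul_le_mul h8 h2)
  omega

/-! ### Elementary abelian `T` of order sixteen -/

variable (hT16 : Nat.card T = 16) (hT2 : ∀ t ∈ T, t * t = 1)

theorem comm_of_sq {H : Subgroup S} (h2 : ∀ t ∈ H, t * t = 1) {s t : S} (hs : s ∈ H) (ht : t ∈ H) :
    s * t = t * s := by
  have e : ∀ u ∈ H, u⁻¹ = u := fun u hu => inv_eq_of_mul_eq_one_right (h2 u hu)
  calc s * t = (s * t)⁻¹ := (e _ (mul_mem hs ht)).symm
    _ = t * s := by rw [mul_inv_rev, e t ht, e s hs]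

/-- The centralizer in `T` of an element normalizing it and squaring into it. -/
theorem fixed_facts (h : Data T B) (hT16 : Nat.card T = 16) (hT2 : ∀ t ∈ T, t * t = 1) {g : S}
    (hg : g ∈ normalizer (T : Set S)) (hgT : g ∉ T) (hg2 : g ^ 2 ∈ T) :
    Nat.card ↥(T ⊓ centralizer ({g} : Set S)) = 4 ∧
      (∀ t ∈ T, t * (g * t * g⁻¹) ∈ T ⊓ centralizer ({g} : Set S)) ∧
      (∀ f ∈ T ⊓ centralizer ({g} : Set S), ∃ t ∈ T, t * (g * t * g⁻¹) = f) ∧
      ∀ t ∈ T, ∃ b ∈ B, b * t ∈ T ⊓ centralizer ({g} : Set S) := by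
  set F := T ⊓ centralizer ({g} : Set S) with hF
  have hcm : ∀ {s t : S}, s ∈ T → t ∈ T → s * t = t * s := fun hs ht => comm_of_sq hT2 hs ht
  have hval : ∀ t ∈ T, t * (g * t * g⁻¹) ∈ F := by
    intro t ht
    have hgt := conj_mem hg ht
    refine ⟨mul_mem ht hgt, mem_centralizer_singleton_iff.2 ?_⟩
    have e1 : g ^ 2 * t = t * g ^ 2 := hcm hg2 ht
    symm
    calc g * (t * (g * t * g⁻¹)) = g * t * g⁻¹ * (g ^ 2 * t * (g ^ 2)⁻¹) * g := by group
      _ = g * t * g⁻¹ * t * g := by rw [e1, mul_inv_cancel_right]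
      _ = t * (g * t * g⁻¹) * g := by rw [hcm hgt ht]
  let δ : T →* F :=
    { toFun := fun t => ⟨(t : S) * (g * t * g⁻¹), hval t t.2⟩
      map_one' := Subtype.ext (show (1 : S) * (g * 1 * g⁻¹) = 1 by group)
      map_mul' := fun s t => Subtype.ext (by
        show (s : S) * t * (g * ((s : S) * t) * g⁻¹) = s * (g * s * g⁻¹) * (t * (g * t * g⁻¹))
        calc (s : S) * t * (g * ((s : S) * t) * g⁻¹)
            = s * (t * (g * s * g⁻¹)) * (g * t * g⁻¹) := by group
          _ = s * (g * s * g⁻¹ * t) * (g * t * g⁻¹) := by rw [hcm t.2 (conj_mem hg s.2)]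
          _ = s * (g * s * g⁻¹) * (t * (g * t * g⁻¹)) := by group) }
  have hker : δ.ker = F.subgroupOf T := by
    ext t
    rw [MonoidHom.mem_ker, mem_subgroupOf, Subtype.ext_iff]
    show (t : S) * (g * t * g⁻¹) = 1 ↔ (t : S) ∈ F
    constructor
    · intro e
      refine ⟨t.2, mem_centralizer_singleton_iff.2 ?_⟩
      have e' : g * t * g⁻¹ = t := by
        rw [← inv_eq_of_mul_eq_one_right e]
        exact inv_eq_of_mul_eq_one_right (hT2 _ t.2)
      exact (mul_inv_eq_iff_eq_mul.1 e').symm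
    · intro e
      have e1 : g * t = t * g := (mem_centralizer_singleton_iff.1 e.2).symm
      rw [e1, mul_inv_cancel_right, hT2 _ t.2]
  have hFT : F ≤ T := inf_le_left
  have hmeet : ∀ b ∈ B, b ∈ F → b = 1 := fun b hb hbF => by
    by_contra hb1
    exact hgT (h.mem_of_fix hb hb1 (by
      rw [(mem_centralizer_singleton_iff.1 hbF.2).symm, mul_inv_cancel_right]))
  let μ : B × F → T := fun p => ⟨(p.1 : S) * p.2, mul_mem (h.le p.1.2) p.2.2.1⟩
  have hμ : Function.Injective μ := by
    rintro ⟨b, f⟩ ⟨b', f'⟩ e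
    have e' : (b : S) * f = b' * f' := congrArg Subtype.val e
    have e2 : (b' : S)⁻¹ * b = f' * (f : S)⁻¹ :=
      calc (b' : S)⁻¹ * b = (b' : S)⁻¹ * (b * f) * (f : S)⁻¹ := by group
        _ = f' * (f : S)⁻¹ := by rw [e']; group
    have e3 := hmeet _ (mul_mem (inv_mem b'.2) b.2) (e2 ▸ mul_mem f'.2 (inv_mem f.2))
    rw [e2] at e3
    have hb : b = b' := Subtype.ext (by
      rw [← e2, inv_mul_eq_one] at e3
      exact e3.symm)
    have hf : f = f' := Subtype.ext (by rw [mul_inv_eq_one] at e3; exact e3.symm)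
    rw [hb, hf]
  have h1 := Nat.card_le_card_of_injective μ hμ
  rw [Nat.card_prod, h.four, hT16] at h1
  have h2 : Nat.card δ.range ≤ Nat.card F := card_le_card_group _
  have h3 := card_mul_index δ.ker
  rw [index_ker, hker, Nat.card_congr (subgroupOfEquivOfLe hFT).toEquiv, hT16] at h3
  have h4 : Nat.card F = 4 := by
    rcases Nat.lt_or_ge (Nat.card F) 4 with hlt | hge
    · have : Nat.card δ.range ≤ 3 := by omega
      nlinarith
    · omega
  have hrange : δ.range = ⊤ := eq_top_of_card_eq _ (by rw [h4] at h3 ⊢; omega)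
  refine ⟨h4, hval, fun f hf => ?_, fun t ht => ?_⟩
  · obtain ⟨t, ht⟩ := MonoidHom.range_eq_top.1 hrange ⟨f, hf⟩
    exact ⟨t, t.2, congrArg Subtype.val ht⟩
  · have hbij : Function.Bijective μ := (Nat.bijective_iff_injective_and_card μ).2
      ⟨hμ, by rw [Nat.card_prod, h.four, h4, hT16]⟩
    obtain ⟨⟨b, f⟩, e⟩ := hbij.2 ⟨t, ht⟩
    refine ⟨b, b.2, ?_⟩
    have e' : (b : S) * f = t := congrArg Subtype.val e
    rw [← e', ← mul_assoc, h.sq b b.2, one_mul]
    exact f.2

end Cfsg.Lib.HaradaE8.FourCent
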