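import Cfsg.Agent.Lib.HaradaE8.FourCentralizer

/-!
# The case of an elementary abelian `T` of order sixteen

`T` is the centralizer in the 2-group `S` of each involution of a four-group `B ≤ T`.
-/

set_option autoImplicit false
set_option linter.unusedSectionVars false
set_option linter.style.haveILetI false

namespace Cfsg.Lib.HaradaE8.FourCent

open Subgroup

universe u

variable {S : Type u} [Group S] [Finite S] {T B : Subgroup S}

/-- An involution outside `T`, normalizing it and central modulo `T` in the normalizer. -/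
theorem exists_g (h : Data T B) (hT16 : Nat.card T = 16) (hT2 : ∀ t ∈ T, t * t = 1)
    (hne : ¬ normalizer (T : Set S) ≤ T) :
    ∃ g ∈ normalizer (T : Set S), g ∉ T ∧ g * g = 1 ∧
      ∀ n ∈ normalizer (T : Set S), n * g * n⁻¹ * g⁻¹ ∈ T := by
  haveI : Fact (Nat.Prime 2) := ⟨Nat.prime_two⟩
  let Q := ↥(normalizer (T : Set S)) ⧸ T.subgroupOf (normalizer (T : Set S))
  haveI : (T.subgroupOf (normalizer (T : Set S))).Normal := Subgroup.normal_in_normalizer
  haveI : Nontrivial Q := by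
    rw [SetLike.not_le_iff_exists] at hne
    obtain ⟨n, hn, hnT⟩ := hne
    refine ⟨⟨((⟨n, hn⟩ : ↥(normalizer (T : Set S))) : Q), 1, fun e => hnT ?_⟩⟩
    rw [QuotientGroup.eq_one_iff, mem_subgroupOf] at e
    exact e
  have hQ : IsPGroup 2 Q := (h.two.to_subgroup _).to_quotient _
  haveI := hQ.center_nontrivial
  obtain ⟨u, hu⟩ := exists_ne (1 : center Q)
  obtain ⟨v, -, hv2, hv1⟩ := exists_invol_of_ne_one (hQ.to_subgroup (center Q)) hu
  obtain ⟨g0, hg0⟩ := QuotientGroup.mk_surjective (v : Q)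
  have hgN : (g0 : S) ∈ normalizer (T : Set S) := g0.2
  have hgT : (g0 : S) ∉ T := fun hh => hv1 (Subtype.ext (by
    rw [← hg0]
    exact (QuotientGroup.eq_one_iff g0).2 hh))
  have hg2 : (g0 : S) ^ 2 ∈ T := by
    have e : ((g0 * g0 : ↥(normalizer (T : Set S))) : Q) = 1 := by
      rw [QuotientGroup.mk_mul, hg0]
      exact congrArg Subtype.val hv2
    rw [QuotientGroup.eq_one_iff, mem_subgroupOf] at e
    simpa [pow_two] using e
  have hgc : ∀ n ∈ normalizer (T : Set S), n * (g0 : S) * n⁻¹ * (g0 : S)⁻¹ ∈ T := by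
    intro n hn
    have hc := mem_center_iff.1 v.2 ((⟨n, hn⟩ : ↥(normalizer (T : Set S))) : Q)
    have e : ((⟨n, hn⟩ * g0 * (⟨n, hn⟩)⁻¹ * g0⁻¹ : ↥(normalizer (T : Set S))) : Q) = 1 := by
      simp only [QuotientGroup.mk_mul, QuotientGroup.mk_inv, hg0]
      rw [hc, mul_inv_cancel_right, mul_inv_cancel]
    rw [QuotientGroup.eq_one_iff, mem_subgroupOf] at e
    simpa using e
  obtain ⟨-, -, hsurj, -⟩ := fixed_facts h hT16 hT2 hgN hgT hg2
  obtain ⟨t, ht, he⟩ := hsurj ((g0 : S) ^ 2) ⟨hg2, mem_centralizer_singleton_iff.2 (by group)⟩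
  refine ⟨t * g0, mul_mem (le_normalizer ht) hgN, fun hh => hgT ?_, ?_, fun n hn => ?_⟩
  · have := mul_mem (inv_mem ht) hh
    rwa [inv_mul_cancel_left] at this
  · calc t * (g0 : S) * (t * g0) = t * (g0 * t * (g0 : S)⁻¹) * (g0 : S) ^ 2 := by rw [pow_two]; group
      _ = 1 := by rw [he]; exact hT2 _ hg2
  · rw [show n * (t * (g0 : S)) * n⁻¹ * (t * (g0 : S))⁻¹ =
      n * t * n⁻¹ * (n * g0 * n⁻¹ * (g0 : S)⁻¹) * t⁻¹ by group]
    exact mul_mem (mul_mem (conj_mem hn ht) (hgc n hn)) (inv_mem ht)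

/-- A fixed choice of such an involution. -/
structure Gen (T B : Subgroup S) (g : S) : Prop where
  data : Data T B
  T16 : Nat.card T = 16
  T2 : ∀ t ∈ T, t * t = 1
  gN : g ∈ normalizer (T : Set S)
  gT : g ∉ T
  g2 : g * g = 1
  gc : ∀ n ∈ normalizer (T : Set S), n * g * n⁻¹ * g⁻¹ ∈ T

/-- The fixed points of `g`. -/
def fix (T : Subgroup S) (g : S) : Subgroup S := T ⊓ centralizer ({g} : Set S)

/-- The stabilizer of the fixed points in the normalizer. -/
def stab (T : Subgroup S) (g : S) : Subgroup S :=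
  normalizer (T : Set S) ⊓ centralizer (fix T g : Set S)

variable {g : S}

theorem Gen.facts (G : Gen T B g) :
    Nat.card (fix T g) = 4 ∧
      (∀ t ∈ T, t * (g * t * g⁻¹) ∈ fix T g) ∧
      (∀ f ∈ fix T g, ∃ t ∈ T, t * (g * t * g⁻¹) = f) ∧
      ∀ t ∈ T, ∃ b ∈ B, b * t ∈ fix T g :=
  fixed_facts G.data G.T16 G.T2 G.gN G.gT (by rw [pow_two, G.g2]; exact one_mem T)

theorem Gen.comm (G : Gen T B g) {s t : S} (hs : s ∈ T) (ht : t ∈ T) : s * t = t * s :=
  comm_of_sq G.T2 hs ht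

theorem Gen.stab_fix {x f : S} (hx : x ∈ stab T g) (hf : f ∈ fix T g) : x * f = f * x :=
  (mem_centralizer_iff.1 hx.2 f hf).symm

theorem Gen.T_le (G : Gen T B g) : T ≤ stab T g := fun _ ht =>
  ⟨le_normalizer ht, mem_centralizer_iff.2 fun _ hf => G.comm hf.1 ht⟩

theorem Gen.g_mem (G : Gen T B g) : g ∈ stab T g :=
  ⟨G.gN, mem_centralizer_iff.2 fun _ hf => mem_centralizer_singleton_iff.1 hf.2⟩

theorem Gen.g_notMem_fix (G : Gen T B g) : g ∉ fix T g := fun hh => G.gT hh.1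

theorem Gen.conj_fix (G : Gen T B g) {n f : S} (hn : n ∈ normalizer (T : Set S)) (hf : f ∈ fix T g) :
    n * f * n⁻¹ ∈ fix T g := by
  refine ⟨conj_mem hn hf.1, mem_centralizer_singleton_iff.2 ?_⟩
  have ht : n⁻¹ * g * n * g⁻¹ ∈ T := by simpa using G.gc n⁻¹ (inv_mem hn)
  have hc : n⁻¹ * g * n * f = f * (n⁻¹ * g * n) := by
    calc n⁻¹ * g * n * f = n⁻¹ * g * n * g⁻¹ * (g * f) := by group
      _ = n⁻¹ * g * n * g⁻¹ * (f * g) := by rw [(mem_centralizer_singleton_iff.1 hf.2)]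
      _ = n⁻¹ * g * n * g⁻¹ * f * g := by group
      _ = f * (n⁻¹ * g * n * g⁻¹) * g := by rw [G.comm ht hf.1]
      _ = f * (n⁻¹ * g * n) := by group
  symm
  calc g * (n * f * n⁻¹) = n * (n⁻¹ * g * n * f) * n⁻¹ := by group
    _ = n * f * n⁻¹ * g := by rw [hc]; group

/-- Commutators with the stabilizer land in the fixed points. -/
theorem Gen.gamma_mem (G : Gen T B g) {x t : S} (hx : x ∈ stab T g) (ht : t ∈ T) :
    t * (x * t * x⁻¹) ∈ fix T g := by
  have hxt := conj_mem hx.1 ht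
  refine ⟨mul_mem ht hxt, mem_centralizer_singleton_iff.2 ?_⟩
  set f0 := t * (g * t * g⁻¹) with hf0
  have hf0F : f0 ∈ fix T g := G.facts.2.1 t ht
  have e1 : g * t * g⁻¹ = t * f0 := by rw [hf0, ← mul_assoc, G.T2 t ht, one_mul]
  clear_value f0
  have hs : x⁻¹ * g * x * g⁻¹ ∈ T := by simpa using G.gc x⁻¹ (inv_mem hx.1)
  have e2 : g * (x * t * x⁻¹) * g⁻¹ = x * t * x⁻¹ * f0 := by
    calc g * (x * t * x⁻¹) * g⁻¹
        = x * ((x⁻¹ * g * x * g⁻¹) * (g * t * g⁻¹) * (x⁻¹ * g * x * g⁻¹)⁻¹) * x⁻¹ := by group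
      _ = x * (g * t * g⁻¹) * x⁻¹ := by
          rw [G.comm hs (conj_mem G.gN ht), mul_inv_cancel_right]
      _ = x * t * x⁻¹ * (x * f0 * x⁻¹) := by rw [e1]; group
      _ = x * t * x⁻¹ * f0 := by rw [Gen.stab_fix hx hf0F, mul_inv_cancel_right]
  symm
  rw [← mul_inv_eq_iff_eq_mul]
  calc g * (t * (x * t * x⁻¹)) * g⁻¹ = g * t * g⁻¹ * (g * (x * t * x⁻¹) * g⁻¹) := by group
    _ = t * f0 * (x * t * x⁻¹ * f0) := by rw [e1, e2]
    _ = t * (x * t * x⁻¹ * f0) * f0 := by
        rw [mul_assoc t f0, G.comm hf0F.1 (mul_mem hxt hf0F.1)]; group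
    _ = t * (x * t * x⁻¹) := by rw [← mul_assoc, mul_assoc _ f0 f0, G.T2 f0 hf0F.1, mul_one]

/-- Elements of the stabilizer outside `T` centralize exactly the fixed points in `T`. -/
theorem Gen.fixed_of_commute (G : Gen T B g) {y t : S} (hy : y ∈ stab T g) (hyT : y ∉ T)
    (hy2 : y ^ 2 ∈ T) (ht : t ∈ T) (hyt : y * t = t * y) : t ∈ fix T g := by
  have h4 := (fixed_facts G.data G.T16 G.T2 hy.1 hyT hy2).1
  have hle : fix T g ≤ T ⊓ centralizer ({y} : Set S) := fun f hf =>
    ⟨hf.1, mem_centralizer_singleton_iff.2 (Gen.stab_fix hy hf).symm⟩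
  rw [eq_of_le_of_card_ge hle (by rw [h4, G.facts.1])]
  exact ⟨ht, mem_centralizer_singleton_iff.2 hyt.symm⟩

theorem Gen.exists_b (G : Gen T B g) {t : S} (ht : t ∈ T) (htF : t ∉ fix T g) :
    ∃ b ∈ B, b ≠ 1 ∧ ∃ f ∈ fix T g, t = b * f := by
  obtain ⟨b, hb, hbf⟩ := G.facts.2.2.2 t ht
  refine ⟨b, hb, fun e => htF ?_, b * t, hbf, ?_⟩
  · rwa [e, one_mul] at hbf
  · rw [← mul_assoc, G.data.sq b hb, one_mul]

theorem Gen.inj (G : Gen T B g) {b : S} (hb : b ∈ B) (hb1 : b ≠ 1) {x y : S}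
    (h : b * (x * b * x⁻¹) = b * (y * b * y⁻¹)) : x⁻¹ * y ∈ T := by
  refine G.data.mem_of_fix hb hb1 ?_
  have e := mul_left_cancel h
  calc x⁻¹ * y * b * (x⁻¹ * y)⁻¹ = x⁻¹ * (y * b * y⁻¹) * x := by group
    _ = b := by rw [← e]; group

theorem Gen.relIndex_values (G : Gen T B g) {b : S} (hb : b ∈ B) (hb1 : b ≠ 1) :
    T.relIndex (stab T g) ≤ 4 ∧
      (4 ≤ T.relIndex (stab T g) → ∀ f ∈ fix T g, ∃ x ∈ stab T g, b * (x * b * x⁻¹) = f) := by
  classical
  haveI : Fintype (fix T g) := Fintype.ofFinite _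
  let s : Finset S := Finset.univ.image (fun f : fix T g => (f : S))
  have hs : s.card = 4 := by
    rw [Finset.card_image_of_injective _ Subtype.val_injective, Finset.card_univ,
      ← Nat.card_eq_fintype_card, G.facts.1]
  obtain ⟨h1, h2⟩ := values_le (stab T g) T (fun x => b * (x * b * x⁻¹)) s
    (fun x hx => Finset.mem_image.2 ⟨⟨_, G.gamma_mem hx (G.data.le hb)⟩, Finset.mem_univ _, rfl⟩)
    (fun x _ y _ e => G.inj hb hb1 e)
  rw [hs] at h1 h2
  exact ⟨h1, fun h4 f hf => h2 h4 f (Finset.mem_image.2 ⟨⟨f, hf⟩, Finset.mem_univ _, rfl⟩)⟩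

theorem Gen.relIndex_cases (G : Gen T B g) :
    T.relIndex (stab T g) = 2 ∨ T.relIndex (stab T g) = 4 := by
  obtain ⟨b, hb, hb1⟩ := G.data.exists_ne_one
  have h4 := (G.relIndex_values hb hb1).1
  obtain ⟨k, hk⟩ := relIndex_pow G.data.two T (stab T g)
  have hne : T.relIndex (stab T g) ≠ 1 := fun e => G.gT (relIndex_eq_one.1 e G.g_mem)
  rw [hk] at h4 hne ⊢
  rcases Nat.lt_or_ge k 3 with h3 | h3
  · interval_cases k <;> simp_all
  · have : 2 ^ 3 ≤ 2 ^ k := Nat.pow_le_pow_right (by norm_num) h3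
    omega

/-- Conjugating a large part of `T` into `T` next to an involution of the stabilizer is impossible. -/
theorem Gen.big_part (G : Gen T B g) {n : S} {U : Subgroup S} (hU : U ≤ T) (hidx : U.relIndex T ≤ 2)
    (hmem : ∀ u ∈ U, n * u * n⁻¹ ∈ fix T g) : False := by
  let φ : U → fix T g := fun u => ⟨n * u * n⁻¹, hmem u u.2⟩
  have hφ : Function.Injective φ := fun u v e => Subtype.ext (by simpa [φ] using e)
  have h1 := Nat.card_le_card_of_injective φ hφ
  rw [G.facts.1] at h1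
  have h2 := relIndex_mul_relIndex (⊥ : Subgroup S) U T bot_le hU
  rw [relIndex_bot_left, relIndex_bot_left, G.T16] at h2
  have : Nat.card U * U.relIndex T ≤ 4 * 2 := Nat.mul_le_mul h1 hidx
  omega

/-! ### Index two: a self-centralizing elementary abelian subgroup of order eight -/

theorem Gen.centralizer_fix_le (G : Gen T B g) (h2 : T.relIndex (stab T g) = 2) :
    centralizer (fix T g : Set S) ≤ stab T g := by
  have hle : stab T g ≤ centralizer (fix T g : Set S) := inf_le_right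
  have hi : (T.subgroupOf (stab T g)).index = 2 := h2
  suffices (stab T g).subgroupOf (centralizer (fix T g : Set S)) = ⊤ from subgroupOf_eq_top.1 this
  refine eq_top_of_normalizer_le (G.data.two.to_subgroup _) fun k hk => ?_
  rw [mem_subgroupOf]
  have hkX : ∀ x ∈ stab T g, (k : S) * x * (k : S)⁻¹ ∈ stab T g := fun x hx => by
    have := conj_mem hk (t := ⟨x, hle hx⟩) (by rwa [mem_subgroupOf])
    simpa [mem_subgroupOf] using this
  refine ⟨mem_normalizer_of T fun t ht => ?_, k.2⟩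
  by_contra hyT
  set y := (k : S) * t * (k : S)⁻¹ with hy
  have hyX := hkX t (G.T_le ht)
  have hy2 : y ^ 2 ∈ T := by
    rw [hy, conj_pow, pow_two, G.T2 t ht, mul_one, mul_inv_cancel]
    exact one_mem T
  let U : Subgroup S := T ⊓ T.comap (MulAut.conj (k : S)).toMonoidHom
  refine G.big_part (n := (k : S)) (U := U) inf_le_left (relIndex_le_two ?_) ?_
  · intro a ha c hc haU hcU
    refine ⟨T.mul_mem (T.inv_mem ha) hc, ?_⟩
    have h1 : (k : S) * a * (k : S)⁻¹ ∉ T := fun hh => haU ⟨ha, hh⟩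
    have h2' : (k : S) * c * (k : S)⁻¹ ∉ T := fun hh => hcU ⟨hc, hh⟩
    have := (mul_mem_iff_of_index_two hi
      (a := (⟨_, hkX a (G.T_le ha)⟩ : stab T g)⁻¹) (b := ⟨_, hkX c (G.T_le hc)⟩)).2
    simp only [inv_mem_iff, mem_subgroupOf] at this
    have h3 := this (iff_of_false h1 h2')
    show (k : S) * (a⁻¹ * c) * (k : S)⁻¹ ∈ T
    rw [show (k : S) * (a⁻¹ * c) * (k : S)⁻¹ =
      ((k : S) * a * (k : S)⁻¹)⁻¹ * ((k : S) * c * (k : S)⁻¹) by group]
    simpa using h3
  · rintro u ⟨hu, hku⟩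
    refine G.fixed_of_commute hyX hyT hy2 hku ?_
    calc y * ((k : S) * u * (k : S)⁻¹) = (k : S) * (t * u) * (k : S)⁻¹ := by rw [hy]; group
      _ = (k : S) * u * (k : S)⁻¹ * y := by rw [G.comm ht hu, hy]; group

/-- The elementary abelian subgroup `F ∪ gF`. -/
def Gen.eight (G : Gen T B g) : Subgroup S where
  carrier := {a | a ∈ fix T g ∨ g * a ∈ fix T g}
  one_mem' := Or.inl (one_mem _)
  mul_mem' := by
    have hc : ∀ f ∈ fix T g, f * g = g * f := fun f hf => mem_centralizer_singleton_iff.1 hf.2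
    rintro a c (ha | ha) (hc' | hc')
    · exact Or.inl (mul_mem ha hc')
    · refine Or.inr ?_
      rw [← mul_assoc, ← hc a ha, mul_assoc]
      exact mul_mem ha hc'
    · exact Or.inr (by rw [← mul_assoc]; exact mul_mem ha hc')
    · refine Or.inl ?_
      have := mul_mem ha hc'
      rwa [← mul_assoc, hc _ ha, ← mul_assoc, G.g2, one_mul] at this
  inv_mem' := by
    rintro a (ha | ha)
    · exact Or.inl (inv_mem ha)
    · refine Or.inr ?_
      have hh := inv_mem ha
      have hcm : (g * a)⁻¹ * g = g * (g * a)⁻¹ := mem_centralizer_singleton_iff.1 hh.2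
      rw [show g * a⁻¹ = g * (g * a)⁻¹ * g by group, ← hcm, mul_assoc, G.g2, mul_one]
      exact hh

theorem Gen.bound_two (G : Gen T B g) (h2 : T.relIndex (stab T g) = 2) {L N : Subgroup S}
    (hNL : N ≤ L) (hsq : SqIn L N) : N.relIndex L ≤ 16 := by
  have hF2 : ∀ f ∈ fix T g, f * f = 1 := fun f hf => G.T2 f hf.1
  have hc : ∀ f ∈ fix T g, f * g = g * f := fun f hf => mem_centralizer_singleton_iff.1 hf.2
  set A := G.eight
  have hFA : fix T g ≤ A := fun _ hf => Or.inl hf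
  have hgA : g ∈ A := Or.inr (by rw [G.g2]; exact one_mem _)
  have hA2 : ∀ a ∈ A, a * a = 1 := by
    rintro a (ha | ha)
    · exact hF2 a ha
    · have e := hF2 _ ha
      calc a * a = g * (g * a) * (g * (g * a)) := by rw [← mul_assoc g g, G.g2, one_mul]
        _ = g * (g * a * g) * (g * a) := by group
        _ = g * g * (g * a * (g * a)) := by rw [hc _ ha]; group
        _ = 1 := by rw [G.g2, e, one_mul]
  have hA8 : Nat.card A = 8 := by
    have hr : (fix T g).relIndex A ≤ 2 := relIndex_le_two fun a ha c hc' haF hcF => by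
      have ha' : g * a ∈ fix T g := Or.resolve_left ha haF
      have hc'' : g * c ∈ fix T g := Or.resolve_left hc' hcF
      have := mul_mem (inv_mem ha') hc''
      rwa [mul_inv_rev, mul_assoc, inv_mul_cancel_left] at this
    have hne : (fix T g).relIndex A ≠ 1 := fun e => G.g_notMem_fix (relIndex_eq_one.1 e hgA)
    have h0 := relIndex_pos (fix T g) A
    have hm := relIndex_mul_relIndex (⊥ : Subgroup S) (fix T g) A bot_le hFA
    rw [relIndex_bot_left, relIndex_bot_left, G.facts.1,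
      show (fix T g).relIndex A = 2 by omega] at hm
    omega
  have hCA : centralizer (A : Set S) = A := by
    refine le_antisymm (fun a ha => ?_) fun a ha => mem_centralizer_iff.2 fun p hp => comm_of_sq hA2 hp ha
    have hag : a * g = g * a := (mem_centralizer_iff.1 ha g hgA).symm
    have haX : a ∈ stab T g :=
      G.centralizer_fix_le h2 (centralizer_le (fun _ hf => hFA hf) ha)
    by_cases haT : a ∈ T
    · exact Or.inl ⟨haT, mem_centralizer_singleton_iff.2 hag⟩
    · have hi : (T.subgroupOf (stab T g)).index = 2 := h2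
      have := (mul_mem_iff_of_index_two hi (a := (⟨g, G.g_mem⟩ : stab T g)) (b := ⟨a, haX⟩)).2
      simp only [mem_subgroupOf] at this
      have hga : g * a ∈ T := by simpa using this (iff_of_false G.gT haT)
      refine Or.inr ⟨hga, mem_centralizer_singleton_iff.2 ?_⟩
      rw [mul_assoc, hag]
  exact relIndex_bound A hA2 hA8 hCA G.data.two hNL hsq

end Cfsg.Lib.HaradaE8.FourCent
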