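import Cfsg.Agent.Lib.HaradaE8.FourElementary

/-!
# The stabilizer of the fixed points has index four over `T`

Then it has order 64, index at most two in the whole group, and all its sections have rank at most four.
-/

set_option autoImplicit false
set_option linter.unusedSectionVars false
set_option linter.style.haveILetI false

namespace Cfsg.Lib.HaradaE8.FourCent

open Subgroup

universe u

variable {S : Type u} [Group S] [Finite S] {T B : Subgroup S} {g : S}

theorem card_relIndex (N M : Subgroup S) : Nat.card ↥(N ⊓ M) * N.relIndex M = Nat.card M := by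
  have h := relIndex_mul_relIndex (⊥ : Subgroup S) (N ⊓ M) M bot_le inf_le_right
  rwa [relIndex_bot_left, relIndex_bot_left, inf_relIndex_right] at h

theorem card_two_pow (hS : IsPGroup 2 S) (H : Subgroup S) : ∃ k, Nat.card H = 2 ^ k := by
  haveI : Fact (Nat.Prime 2) := ⟨Nat.prime_two⟩
  exact IsPGroup.iff_card.1 (hS.to_subgroup H)

theorem four_le_of_sq_ne (hS : IsPGroup 2 S) {H : Subgroup S} {w : S} (hw : w ∈ H) (hw2 : w * w ≠ 1) :
    4 ≤ Nat.card H := by
  haveI : Fact (Nat.Prime 2) := ⟨Nat.prime_two⟩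
  obtain ⟨k, hk⟩ := IsPGroup.iff_orderOf.1 hS w
  have h2 : 2 ≤ k := by
    by_contra hlt
    refine hw2 ?_
    rw [← pow_two]
    exact orderOf_dvd_iff_pow_eq_one.1 (hk ▸ (pow_dvd_pow 2 (show k ≤ 1 by omega)).trans (dvd_of_eq (pow_one 2)))
  have h3 : orderOf w ∣ Nat.card H := by
    have := orderOf_dvd_natCard (⟨w, hw⟩ : H)
    rwa [← Subgroup.orderOf_coe] at this
  calc 4 = 2 ^ 2 := rfl
    _ ≤ orderOf w := hk ▸ Nat.pow_le_pow_right (by norm_num) h2
    _ ≤ _ := Nat.le_of_dvd Nat.card_pos h3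

/-- The hypotheses of this file. -/
structure Four (T B : Subgroup S) (g : S) : Prop extends Gen T B g where
  idx : T.relIndex (stab T g) = 4

theorem Four.surj (G : Four T B g) {t : S} (ht : t ∈ T) (htF : t ∉ fix T g) {f : S} (hf : f ∈ fix T g) :
    ∃ x ∈ stab T g, t * (x * t * x⁻¹) = f := by
  obtain ⟨b, hb, hb1, e, he, rfl⟩ := G.toGen.exists_b ht htF
  obtain ⟨x, hx, hxf⟩ := (G.toGen.relIndex_values hb hb1).2 (le_of_eq G.idx.symm) f hf
  refine ⟨x, hx, ?_⟩
  calc b * e * (x * (b * e) * x⁻¹) = b * (e * (x * b * x⁻¹)) * (x * e * x⁻¹) := by group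
    _ = b * (x * b * x⁻¹ * e) * e := by
        rw [G.toGen.comm he.1 (conj_mem hx.1 (G.data.le hb)), Gen.stab_fix hx he, mul_inv_cancel_right]
    _ = f * (e * e) := by rw [← hxf]; group
    _ = f := by rw [G.T2 e he.1, mul_one]

/-- Every element of `T` outside the fixed points has centralizer `T`. -/
theorem Four.mem_of_fix (G : Four T B g) {t n : S} (ht : t ∈ T) (htF : t ∉ fix T g)
    (hn : n * t * n⁻¹ = t) : n ∈ T := by
  obtain ⟨b, hb, hb1, f, hf, rfl⟩ := G.toGen.exists_b ht htF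
  obtain ⟨x, hx, hxf⟩ := (G.toGen.relIndex_values hb hb1).2 (le_of_eq G.idx.symm) f hf
  have e : x * b * x⁻¹ = b * f := by rw [← hxf, ← mul_assoc, G.data.sq b hb, one_mul]
  have h1 : x⁻¹ * n * x ∈ T := G.data.mem_of_fix hb hb1 (by
    calc x⁻¹ * n * x * b * (x⁻¹ * n * x)⁻¹ = x⁻¹ * (n * (x * b * x⁻¹) * n⁻¹) * x := by group
      _ = x⁻¹ * (x * b * x⁻¹) * x := by rw [e, hn]
      _ = b := by group)
  have := conj_mem hx.1 h1
  rwa [show x * (x⁻¹ * n * x) * x⁻¹ = n by group] at this

theorem Four.not_fix (G : Four T B g) {k t : S} (hk : k ∉ normalizer (T : Set S)) (ht : t ∈ T)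
    (hkt : k * t * k⁻¹ ∈ T) : k * t * k⁻¹ ∈ fix T g := by
  by_contra hF
  refine hk (mem_normalizer_of T fun u hu => G.mem_of_fix hkt hF ?_)
  calc k * u * k⁻¹ * (k * t * k⁻¹) * (k * u * k⁻¹)⁻¹ = k * (u * t) * u⁻¹ * k⁻¹ := by group
    _ = k * t * k⁻¹ := by rw [G.toGen.comm hu ht]; group

theorem Four.inter_fix (G : Four T B g) {k t : S} (hk : k ∉ normalizer (T : Set S)) (ht : t ∈ T)
    (hkt : k * t * k⁻¹ ∈ T) : t ∈ fix T g ∧ k * t * k⁻¹ ∈ fix T g := by
  refine ⟨?_, G.not_fix hk ht hkt⟩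
  have := G.not_fix (k := k⁻¹) (t := k * t * k⁻¹) (fun hh => hk (by simpa using inv_mem hh)) hkt
    (by rwa [show k⁻¹ * (k * t * k⁻¹) * k⁻¹⁻¹ = t by group])
  rwa [show k⁻¹ * (k * t * k⁻¹) * k⁻¹⁻¹ = t by group] at this

/-- The normalizer of `T` fixes the fixed points elementwise. -/
theorem Four.mem_stab (G : Four T B g) {n : S} (hn : n ∈ normalizer (T : Set S)) : n ∈ stab T g := by
  refine mem_of_sq (P := fun n => n ∈ normalizer (T : Set S)) G.data.two
    (fun n hn => pow_mem hn 2) (fun n hn hn2 => ?_) n hn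
  obtain ⟨b, hb, hb1⟩ := G.data.exists_ne_one
  have hbT := G.data.le hb
  have hbF : b ∉ fix T g := fun hh => G.gT (G.data.mem_of_fix hb hb1 (by
    rw [← mem_centralizer_singleton_iff.1 hh.2, mul_inv_cancel_right]))
  obtain ⟨t, ht, htF, hf⟩ : ∃ t ∈ T, t ∉ fix T g ∧ t * (n * t * n⁻¹) ∈ fix T g := by
    by_cases hc : b * (n * b * n⁻¹) ∈ fix T g
    · exact ⟨b, hbT, hbF, hc⟩
    have hnb := conj_mem hn hbT
    refine ⟨_, mul_mem hbT hnb, hc, ?_⟩
    have := G.toGen.gamma_mem hn2 hbT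
    convert this using 1
    calc b * (n * b * n⁻¹) * (n * (b * (n * b * n⁻¹)) * n⁻¹)
        = b * (n * b * n⁻¹ * (n * b * n⁻¹)) * (n ^ 2 * b * (n ^ 2)⁻¹) := by rw [pow_two]; group
      _ = b * (n ^ 2 * b * (n ^ 2)⁻¹) := by rw [G.T2 _ hnb, mul_one]
  obtain ⟨x, hx, hxf⟩ := G.surj ht htF hf
  have e := mul_left_cancel hxf
  have h1 : x⁻¹ * n ∈ T := G.mem_of_fix ht htF (by
    calc x⁻¹ * n * t * (x⁻¹ * n)⁻¹ = x⁻¹ * (n * t * n⁻¹) * x := by group
      _ = t := by rw [← e]; group)
  have := mul_mem hx (G.toGen.T_le h1)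
  rwa [mul_inv_cancel_left] at this

theorem Four.card_stab (G : Four T B g) : Nat.card (stab T g) = 64 := by
  have h := relIndex_mul_relIndex (⊥ : Subgroup S) T (stab T g) bot_le G.toGen.T_le
  rw [relIndex_bot_left, relIndex_bot_left, G.idx, G.T16] at h
  exact h.symm

theorem Four.sq_mem (G : Four T B g) {x : S} (hx : x ∈ stab T g) : x ^ 2 ∈ fix T g := by
  obtain ⟨b, hb, hb1⟩ := G.data.exists_ne_one
  have hbT := G.data.le hb
  set f := b * (x * b * x⁻¹) with hfdef
  have hf : f ∈ fix T g := G.toGen.gamma_mem hx hbT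
  have e : x * b * x⁻¹ = b * f := by rw [hfdef, ← mul_assoc, G.data.sq b hb, one_mul]
  clear_value f
  have h2 : x ^ 2 ∈ T := G.data.mem_of_fix hb hb1 (by
    calc x ^ 2 * b * (x ^ 2)⁻¹ = x * (x * b * x⁻¹) * x⁻¹ := by rw [pow_two]; group
      _ = x * (b * f) * x⁻¹ := by rw [e]
      _ = x * b * x⁻¹ * (x * f * x⁻¹) := by group
      _ = b * f * f := by rw [e, Gen.stab_fix hx hf, mul_inv_cancel_right]
      _ = b := by rw [mul_assoc, G.T2 f hf.1, mul_one])
  by_cases hxT : x ∈ T
  · rw [pow_two, G.T2 x hxT]; exact one_mem _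
  · exact G.toGen.fixed_of_commute hx hxT h2 h2 (by group)

theorem Four.invol_diff (G : Four T B g) {e t : S} (he : e ∈ stab T g) (heT : e ∉ T) (he2 : e * e = 1)
    (ht : t ∈ T) (h : (e * t) * (e * t) = 1) : t ∈ fix T g := by
  refine G.toGen.fixed_of_commute he heT (by rw [pow_two, he2]; exact one_mem T) ht ?_
  have h1 : t⁻¹ = t := inv_eq_of_mul_eq_one_right (G.T2 t ht)
  calc e * t = (e * t)⁻¹ := (inv_eq_of_mul_eq_one_right h).symm
    _ = t * e := by rw [mul_inv_rev, h1, inv_eq_of_mul_eq_one_right he2]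

/-- Every involution of the stabilizer outside `T` is conjugate into `T` by any outside element
normalizing the stabilizer. -/
theorem Four.invol_conj (G : Four T B g) {k : S} (hk : k ∈ normalizer (stab T g : Set S))
    (hkX : k ∉ stab T g) :
    (∀ y ∈ stab T g, y ∉ T → y * y = 1 → k⁻¹ * y * k ∈ T) ∧
      (∀ f ∈ fix T g, k⁻¹ * f * k ∈ T) ∧
        ∀ y ∈ stab T g, ∃ t ∈ T, (k * t * k⁻¹)⁻¹ * y ∈ T := by
  have hkN : k ∉ normalizer (T : Set S) := fun hh => hkX (G.mem_stab hh)
  set Tk := T.map (MulAut.conj k).toMonoidHom with hTk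
  have hmem : ∀ u ∈ Tk, k⁻¹ * u * k ∈ T := by
    rintro _ ⟨t, ht, rfl⟩
    simp only [MulEquiv.coe_toMonoidHom, MulAut.conj_apply]
    rwa [show k⁻¹ * (k * t * k⁻¹) * k = t by group]
  have hTkX : Tk ≤ stab T g := by
    rintro _ ⟨t, ht, rfl⟩
    exact conj_mem hk (G.toGen.T_le ht)
  have hcard : Nat.card Tk = 16 := by
    rw [← G.T16]
    exact (Nat.card_congr (T.equivMapOfInjective _ (MulAut.conj k).injective).toEquiv).symm
  have hle : T ⊓ Tk ≤ fix T g := by
    rintro u ⟨hu, hu'⟩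
    have := (G.inter_fix hkN (hmem u hu') (by rwa [show k * (k⁻¹ * u * k) * k⁻¹ = u by group])).2
    rwa [show k * (k⁻¹ * u * k) * k⁻¹ = u by group] at this
  let ι := quotientSubgroupOfEmbeddingOfLE T hTkX
  have hr : T.relIndex Tk ≤ 4 := by
    have := Nat.card_le_card_of_injective ι ι.injective
    exact le_of_le_of_eq this G.idx
  have hc := card_relIndex T Tk
  rw [hcard] at hc
  have hsmall : Nat.card ↥(T ⊓ Tk) ≤ 4 := by
    rw [← G.toGen.facts.1]
    exact Subgroup.card_le_of_le hle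
  have h44 : Nat.card ↥(T ⊓ Tk) = 4 ∧ T.relIndex Tk = 4 := by
    constructor <;> nlinarith
  have heq : T ⊓ Tk = fix T g := eq_of_le_of_card_ge hle (by rw [h44.1, G.toGen.facts.1])
  have hbij : Function.Bijective ι := (Nat.bijective_iff_injective_and_card ι).2
    ⟨ι.injective, h44.2.trans G.idx.symm⟩
  have hfix : ∀ f ∈ fix T g, f ∈ Tk := fun f hf => (heq.ge hf).2
  have hrep : ∀ y ∈ stab T g, ∃ e ∈ Tk, e⁻¹ * y ∈ T := by
    intro y hy
    obtain ⟨q, hq⟩ := hbij.2 ((⟨y, hy⟩ : stab T g) : ↥(stab T g) ⧸ T.subgroupOf (stab T g))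
    obtain ⟨e, rfl⟩ := QuotientGroup.mk_surjective q
    rw [quotientSubgroupOfEmbeddingOfLE_apply_mk, QuotientGroup.eq, mem_subgroupOf] at hq
    exact ⟨e, e.2, by simpa using hq⟩
  refine ⟨fun y hy hyT hy2 => ?_, fun f hf => hmem f (hfix f hf), fun y hy => ?_⟩
  · obtain ⟨e, he, het⟩ := hrep y hy
    have heT : e ∉ T := fun hh => hyT (by simpa using mul_mem hh het)
    have he2 : e * e = 1 := by
      obtain ⟨t, ht, rfl⟩ := he
      show k * t * k⁻¹ * (k * t * k⁻¹) = 1
      calc k * t * k⁻¹ * (k * t * k⁻¹) = k * (t * t) * k⁻¹ := by group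
        _ = 1 := by rw [G.T2 t ht]; group
    have hf := G.invol_diff (hTkX he) heT he2 het (by rwa [mul_inv_cancel_left])
    refine hmem y ?_
    have := mul_mem he (hfix _ hf)
    rwa [mul_inv_cancel_left] at this
  · obtain ⟨e, he, het⟩ := hrep y hy
    obtain ⟨t, ht, rfl⟩ := he
    exact ⟨t, ht, het⟩

theorem Four.outer (G : Four T B g) {k l : S} (hk : k ∈ normalizer (stab T g : Set S))
    (hl : l ∈ normalizer (stab T g : Set S)) (hkX : k ∉ stab T g) (hlX : l ∉ stab T g) :
    k⁻¹ * l ∈ stab T g := by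
  refine G.mem_stab (mem_normalizer_of T fun t ht => ?_)
  set u := l * t * l⁻¹ with hu
  have huX : u ∈ stab T g := conj_mem hl (G.toGen.T_le ht)
  rw [show k⁻¹ * l * t * (k⁻¹ * l)⁻¹ = k⁻¹ * u * k by rw [hu]; group]
  by_cases huT : u ∈ T
  · exact (G.invol_conj hk hkX).2.1 u
      (G.inter_fix (fun hh => hlX (G.mem_stab hh)) ht huT).2
  · refine (G.invol_conj hk hkX).1 u huX huT ?_
    calc u * u = l * (t * t) * l⁻¹ := by rw [hu]; group
      _ = 1 := by rw [G.T2 t ht]; group

/-- The normalizer of the stabilizer is everything, so the stabilizer has index at most two. -/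
theorem Four.normalizer_eq_top (G : Four T B g) : normalizer (stab T g : Set S) = ⊤ := by
  set X := stab T g with hX
  set P := normalizer (X : Set S) with hP
  by_cases hPX : P ≤ X
  · rw [eq_top_iff, ← eq_top_of_normalizer_le G.data.two hPX]
    exact le_normalizer
  obtain ⟨k, hk, hkX⟩ := SetLike.not_le_iff_exists.1 hPX
  have hXP : X ≤ P := le_normalizer
  refine eq_top_of_normalizer_le G.data.two fun q hq => ?_
  -- everything normalizing `P` maps `T` into the stabilizer
  have key : ∀ q ∈ normalizer (P : Set S), ∀ t ∈ T, q * t * q⁻¹ ∈ X := by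
    intro q hq t ht
    by_contra hyX
    set y := q * t * q⁻¹ with hy
    have hyP : y ∈ P := conj_mem hq (hXP (G.toGen.T_le ht))
    have hyN : y ∉ normalizer (T : Set S) := fun hh => hyX (G.mem_stab hh)
    refine G.toGen.big_part (n := q) (U := T ⊓ X.comap (MulAut.conj q).toMonoidHom) inf_le_left
      (relIndex_le_two ?_) ?_
    · intro a ha c hc haU hcU
      refine ⟨T.mul_mem (T.inv_mem ha) hc, ?_⟩
      have h3 := G.outer (conj_mem hq (hXP (G.toGen.T_le ha))) (conj_mem hq (hXP (G.toGen.T_le hc)))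
        (fun hh => haU ⟨ha, hh⟩) (fun hh => hcU ⟨hc, hh⟩)
      show q * (a⁻¹ * c) * q⁻¹ ∈ X
      rwa [show q * (a⁻¹ * c) * q⁻¹ = (q * a * q⁻¹)⁻¹ * (q * c * q⁻¹) by group]
    · rintro u ⟨hu, hquX⟩
      set v := q * u * q⁻¹ with hv
      replace hquX : v ∈ X := hquX
      have hcm : y * v * y⁻¹ = v := by
        calc y * v * y⁻¹ = q * (t * u) * t⁻¹ * q⁻¹ := by rw [hy, hv]; group
          _ = v := by rw [G.toGen.comm ht hu, hv]; group
      by_cases hvT : v ∈ T
      · have := G.inter_fix hyN hvT (by rwa [hcm])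
        exact this.1
      · exfalso
        have hv2 : v * v = 1 := by
          calc v * v = q * (u * u) * q⁻¹ := by rw [hv]; group
            _ = 1 := by rw [G.T2 u hu]; group
        have := (G.invol_conj hyP hyX).1 v hquX hvT hv2
        have e : y⁻¹ * v * y = v := by
          calc y⁻¹ * v * y = y⁻¹ * (y * v * y⁻¹) * y := by rw [hcm]
            _ = v := by group
        rw [e] at this
        exact hvT this
  refine mem_normalizer_of X fun x hx => ?_
  obtain ⟨t, ht, het⟩ := (G.invol_conj hk hkX).2.2 x hx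
  rw [show q * x * q⁻¹ = (q * k) * t * (q * k)⁻¹ * (q * ((k * t * k⁻¹)⁻¹ * x) * q⁻¹) by group]
  exact mul_mem (key _ (mul_mem hq (le_normalizer hk)) t ht) (key q hq _ het)

theorem Four.bound_inner (G : Four T B g) {M N : Subgroup S} (hM : M ≤ stab T g) (hsq : SqIn M N) :
    N.relIndex M ≤ 16 := by
  have hc := card_relIndex N M
  have h64 := card_dvd_of_le hM
  rw [G.card_stab, show 64 = 2 ^ 6 from rfl] at h64
  obtain ⟨j, hj, hcard⟩ := (Nat.dvd_prime_pow Nat.prime_two).1 h64
  rcases Nat.lt_or_ge j 5 with hlt | hge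
  · have : 2 ^ j ≤ 2 ^ 4 := Nat.pow_le_pow_right (by norm_num) (by omega)
    calc N.relIndex M ≤ Nat.card ↥(N ⊓ M) * N.relIndex M := Nat.le_mul_of_pos_left _ Nat.card_pos
      _ ≤ 16 := by omega
  by_cases hj5 : j = 5
  · subst hj5
    have hne : Nat.card ↥(N ⊓ M) ≠ 1 := by
      intro h1
      have hbot := Subgroup.card_eq_one.1 h1
      have hM2 : ∀ m ∈ M, m * m = 1 := fun m hm => by
        have : m * m ∈ N ⊓ M := ⟨by rw [← pow_two]; exact hsq m hm, mul_mem hm hm⟩
        rwa [hbot, mem_bot] at this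
      have hr : T.relIndex M ≤ 4 := by
        rw [← G.idx]
        exact relIndex_le_of_le_right hM (by rw [G.idx]; norm_num)
      have hc2 := card_relIndex T M
      obtain ⟨a, ha, haF⟩ : ∃ a ∈ T ⊓ M, a ∉ fix T g := by
        by_contra hno
        push Not at hno
        have h4 : Nat.card ↥(T ⊓ M) ≤ 4 := by
          rw [← G.toGen.facts.1]
          exact Subgroup.card_le_of_le hno
        have := Nat.mul_le_mul h4 hr
        omega
      have hMT : M ≤ T := fun m hm => G.mem_of_fix ha.1 haF (by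
        rw [comm_of_sq hM2 hm ha.2, mul_inv_cancel_right])
      have := Subgroup.card_le_of_le hMT
      rw [G.T16, hcard] at this
      omega
    have h0 : 2 ≤ Nat.card ↥(N ⊓ M) := by
      have := Nat.card_pos (α := ↥(N ⊓ M))
      omega
    have := Nat.mul_le_mul_right (N.relIndex M) h0
    omega
  · have hj6 : j = 6 := by omega
    subst hj6
    have hMX : M = stab T g := eq_of_le_of_card_ge hM (by rw [G.card_stab, hcard]; norm_num)
    subst hMX
    obtain ⟨b, hb, hb1⟩ := G.data.exists_ne_one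
    have hFN : fix T g ≤ N ⊓ stab T g := by
      intro f hf
      refine ⟨?_, G.toGen.T_le hf.1⟩
      obtain ⟨x, hx, hxf⟩ := (G.toGen.relIndex_values hb hb1).2 (le_of_eq G.idx.symm) f hf
      have := hsq.comm (G.toGen.T_le (G.data.le hb)) hx
      rwa [inv_eq_of_mul_eq_one_right (G.data.sq b hb), hxf] at this
    have h4 := Subgroup.card_le_of_le hFN
    rw [G.toGen.facts.1] at h4
    have := Nat.mul_le_mul_right (N.relIndex (stab T g)) h4
    omega

theorem Four.bound_outer (G : Four T B g) {L N : Subgroup S} {k : S} (hkL : k ∈ L) (hkX : k ∉ stab T g)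
    (hsq : SqIn L N) : N.relIndex (L ⊓ stab T g) ≤ 8 := by
  have hk : k ∈ normalizer (stab T g : Set S) := G.normalizer_eq_top ▸ mem_top k
  have hkN : k ∉ normalizer (T : Set S) := fun hh => hkX (G.mem_stab hh)
  set M := L ⊓ stab T g with hM
  have hc := card_relIndex N M
  have hw : ∀ a ∈ M, a⁻¹ * (k * a * k⁻¹) ∈ N ⊓ M := fun a ha =>
    ⟨hsq.comm ha.1 hkL, M.mul_mem (M.inv_mem ha) ⟨L.mul_mem (L.mul_mem hkL ha.1) (L.inv_mem hkL), conj_mem hk ha.2⟩⟩
  have hMX' : M ≤ stab T g := inf_le_right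
  have h64 := card_dvd_of_le hMX'
  rw [G.card_stab, show 64 = 2 ^ 6 from rfl] at h64
  obtain ⟨j, hj, hcard⟩ := (Nat.dvd_prime_pow Nat.prime_two).1 h64
  by_cases ha : ∃ a ∈ M, a ∈ T ∧ a ∉ fix T g
  · obtain ⟨a, haM, haT, haF⟩ := ha
    set e := k * a * k⁻¹ with he
    have heX : e ∈ stab T g := conj_mem hk haM.2
    have heT : e ∉ T := fun hh => haF (G.inter_fix hkN haT hh).1
    have he2 : e * e = 1 := by
      calc e * e = k * (a * a) * k⁻¹ := by rw [he]; group
        _ = 1 := by rw [G.T2 a haT]; group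
    have hai : a⁻¹ = a := inv_eq_of_mul_eq_one_right (G.T2 a haT)
    have hwn : (a⁻¹ * e) * (a⁻¹ * e) ≠ 1 := fun h => haF (by
      refine G.invol_diff heX heT he2 haT ?_
      rw [hai] at h
      calc e * a * (e * a) = a * (a * e * (a * e)) * a := by
            simp only [← mul_assoc, G.T2 a haT, one_mul]
        _ = 1 := by rw [h, mul_one, G.T2 a haT])
    have h4 := four_le_of_sq_ne G.data.two (hw a haM) hwn
    rcases Nat.lt_or_ge j 6 with hlt | hge
    · have : 2 ^ j ≤ 2 ^ 5 := Nat.pow_le_pow_right (by norm_num) (by omega)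
      have := Nat.mul_le_mul_right (N.relIndex M) h4
      omega
    · have hj6 : j = 6 := by omega
      subst hj6
      have hMX : M = stab T g := eq_of_le_of_card_ge inf_le_right (by rw [G.card_stab, hcard]; norm_num)
      obtain ⟨b, hb, hb1⟩ := G.data.exists_ne_one
      have hFN : fix T g ≤ N ⊓ M := by
        intro f hf
        have hbM : b ∈ M := hMX ▸ G.toGen.T_le (G.data.le hb)
        obtain ⟨x, hx, hxf⟩ := (G.toGen.relIndex_values hb hb1).2 (le_of_eq G.idx.symm) f hf
        have hxM : x ∈ M := hMX ▸ hx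
        refine ⟨?_, hMX ▸ G.toGen.T_le hf.1⟩
        have := hsq.comm hbM.1 hxM.1
        rwa [inv_eq_of_mul_eq_one_right (G.data.sq b hb), hxf] at this
      obtain ⟨i, hi⟩ := card_two_pow G.data.two (N ⊓ M)
      have h5 : 4 < Nat.card ↥(N ⊓ M) := by
        by_contra hle
        have heq : fix T g = N ⊓ M := eq_of_le_of_card_ge hFN (by rw [G.toGen.facts.1]; omega)
        have hwT : a⁻¹ * e ∈ T := (heq.ge (hw a haM)).1
        exact heT (by simpa using mul_mem haT hwT)
      have h8 : 8 ≤ Nat.card ↥(N ⊓ M) := by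
        rw [hi] at h5 ⊢
        have : 2 < i := (Nat.pow_lt_pow_iff_right (by norm_num)).1 (show 2 ^ 2 < 2 ^ i from h5)
        exact Nat.pow_le_pow_right (show 2 > 0 by norm_num) (show 3 ≤ i by omega)
      have := Nat.mul_le_mul_right (N.relIndex M) h8
      omega
  push Not at ha
  have h16 : Nat.card M ≤ 16 := by
    have hc2 := card_relIndex T M
    have hr : T.relIndex M ≤ 4 := by
      rw [← G.idx]
      exact relIndex_le_of_le_right inf_le_right (by rw [G.idx]; norm_num)
    have h4 : Nat.card ↥(T ⊓ M) ≤ 4 := by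
      rw [← G.toGen.facts.1]
      exact Subgroup.card_le_of_le fun u hu => ha u hu.2 hu.1
    have := Nat.mul_le_mul h4 hr
    omega
  by_cases h1 : Nat.card ↥(N ⊓ M) = 1
  · -- then `k` centralizes the elementary abelian `M`
    have hbot := Subgroup.card_eq_one.1 h1
    have hMF : M ≤ fix T g := by
      intro m hm
      by_cases hmT : m ∈ T
      · exact ha m hm hmT
      exfalso
      have hm2 : m * m = 1 := by
        have : m * m ∈ N ⊓ M := ⟨by rw [← pow_two]; exact hsq m hm.1, mul_mem hm hm⟩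
        rwa [hbot, mem_bot] at this
      have hfix := hw m hm
      rw [hbot, mem_bot, inv_mul_eq_one] at hfix
      have := (G.invol_conj hk hkX).1 m hm.2 hmT hm2
      rw [show k⁻¹ * m * k = m by
        calc k⁻¹ * m * k = k⁻¹ * (k * m * k⁻¹) * k := by rw [← hfix]
          _ = m := by group] at this
      exact hmT this
    have := Subgroup.card_le_of_le hMF
    rw [G.toGen.facts.1] at this
    rw [h1, one_mul] at hc
    omega
  · have h0 : 2 ≤ Nat.card ↥(N ⊓ M) := by
      have := Nat.card_pos (α := ↥(N ⊓ M))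
      omega
    have := Nat.mul_le_mul_right (N.relIndex M) h0
    omega

theorem Four.bound (G : Four T B g) {L N : Subgroup S} (hsq : SqIn L N) : N.relIndex L ≤ 16 := by
  by_cases hL : L ≤ stab T g
  · exact G.bound_inner hL hsq
  obtain ⟨k, hkL, hkX⟩ := SetLike.not_le_iff_exists.1 hL
  have h2 : (stab T g).relIndex L ≤ 2 := relIndex_le_two fun a _ c _ ha hc =>
    G.outer (G.normalizer_eq_top ▸ mem_top a) (G.normalizer_eq_top ▸ mem_top c) ha hc
  exact (relIndex_le_mul N (stab T g) L).trans (Nat.mul_le_mul (G.bound_outer hkL hkX hsq) h2)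

/-- The bound for elementary abelian `T` of order sixteen. -/
theorem bound_elementary (h : Data T B) (hT16 : Nat.card T = 16) (hT2 : ∀ t ∈ T, t * t = 1)
    {L N : Subgroup S} (hNL : N ≤ L) (hsq : SqIn L N) : N.relIndex L ≤ 16 := by
  by_cases hne : normalizer (T : Set S) ≤ T
  · have htop := eq_top_of_normalizer_le h.two hne
    calc N.relIndex L ≤ Nat.card ↥(N ⊓ L) * N.relIndex L := Nat.le_mul_of_pos_left _ Nat.card_pos
      _ = Nat.card L := card_relIndex N L
      _ ≤ Nat.card T := Subgroup.card_le_of_le (htop ▸ le_top)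
      _ = 16 := hT16
  obtain ⟨g, hg, hgT, hg2, hgc⟩ := exists_g h hT16 hT2 hne
  have G : Gen T B g := ⟨h, hT16, hT2, hg, hgT, hg2, hgc⟩
  rcases G.relIndex_cases with e | e
  · exact G.bound_two e hNL hsq
  · exact (Four.mk G e).bound hsq

end Cfsg.Lib.HaradaE8.FourCent
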