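import Cfsg.Agent.Lib.HaradaE8.FourIndexFour
import Cfsg.Agent.Lib.HaradaE8.SylowReduction
import Mathlib.GroupTheory.SpecificGroups.Dihedral
import Mathlib.GroupTheory.SpecificGroups.KleinFour

/-!
# Sectional rank of groups with a `D × B` Sylow centralizer for each involution of `B`
-/

set_option autoImplicit false
set_option linter.style.haveILetI false

namespace Cfsg.Lib.HaradaE8.FourCent

open Subgroup

universe u

variable {S : Type u} [Group S] [Finite S]

theorem dihedral_two_sq (p : DihedralGroup 2) : p * p = 1 := by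
  revert p; decide

theorem card_of_product {T B D : Subgroup S} (hprod : Cfsg.IsInternalDirectProduct D B T) :
    Nat.card T = Nat.card D * Nat.card B ∧ ∀ t ∈ T, ∃ d ∈ D, ∃ b ∈ B, t = d * b := by
  obtain ⟨hDT, hBT, hDB, hmeet, hsup⟩ := hprod
  have hcent : B ≤ normalizer (D : Set S) := fun b hb =>
    mem_normalizer_of D fun d hd => by rwa [← hDB d hd b hb, mul_inv_cancel_right]
  have hdec : ∀ t ∈ T, ∃ d ∈ D, ∃ b ∈ B, t = d * b := by
    intro t ht
    rw [← hsup, ← SetLike.mem_coe, coe_mul_of_right_le_normalizer_left D B hcent] at ht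
    obtain ⟨d, hd, b, hb, rfl⟩ := ht
    exact ⟨d, hd, b, hb, rfl⟩
  refine ⟨?_, hdec⟩
  let μ : D × B → T := fun p => ⟨(p.1 : S) * p.2, mul_mem (hDT p.1.2) (hBT p.2.2)⟩
  have hμ : Function.Bijective μ := by
    refine ⟨fun p q hpq => ?_, fun t => ?_⟩
    · exact mul_injective_of_disjoint (disjoint_iff.2 hmeet) (congrArg Subtype.val hpq)
    · obtain ⟨d, hd, b, hb, hdb⟩ := hdec t t.2
      exact ⟨(⟨d, hd⟩, ⟨b, hb⟩), Subtype.ext hdb.symm⟩
  rw [← Nat.card_congr (Equiv.ofBijective μ hμ), Nat.card_prod]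

theorem relIndex_zpowers {D : Subgroup S} {x : S} (hx : x ∈ D) (h : Nat.card D = 2 * orderOf x) :
    (zpowers x).relIndex D = 2 := by
  have h1 := relIndex_mul_relIndex (⊥ : Subgroup S) (zpowers x) D bot_le (zpowers_le.2 hx)
  rw [relIndex_bot_left, relIndex_bot_left, Nat.card_zpowers, h, mul_comm 2] at h1
  exact Nat.eq_of_mul_eq_mul_left (orderOf_pos x) h1

/-- The bound in the 2-group, in terms of the isomorphism type of `D`. -/
theorem bound {T B D : Subgroup S} (h : Data T B) (hprod : Cfsg.IsInternalDirectProduct D B T)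
    (hD : (∃ m : ℕ, 2 ≤ m ∧ Nonempty (D ≃* DihedralGroup m)) ∨ Cfsg.IsQuasiDihedral D)
    {L N : Subgroup S} (hNL : N ≤ L) (hsq : SqIn L N) : N.relIndex L ≤ 16 := by
  haveI : Fact (Nat.Prime 2) := ⟨Nat.prime_two⟩
  rcases hD with ⟨m, hm, ⟨e⟩⟩ | ⟨n, hn, hcard, x, y, hxo, -, hconj⟩
  · haveI : NeZero m := ⟨by omega⟩
    have hcD : Nat.card D = 2 * m := (Nat.card_congr e.toEquiv).trans DihedralGroup.nat_card
    obtain ⟨k, hk⟩ := IsPGroup.iff_card.1 (h.two.to_subgroup D)
    by_cases hm2 : m = 2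
    · subst hm2
      obtain ⟨hc, hdec⟩ := card_of_product hprod
      refine bound_elementary h (by rw [hc, hcD, h.four]) (fun t ht => ?_) hNL hsq
      obtain ⟨d, hd, b, hb, rfl⟩ := hdec t ht
      have hd2 : d * d = 1 :=
        congrArg Subtype.val (e.injective (a₁ := ⟨d, hd⟩ * ⟨d, hd⟩) (a₂ := 1)
          (by rw [map_mul, map_one]; exact dihedral_two_sq _))
      calc d * b * (d * b) = d * (b * d) * b := by group
        _ = d * (d * b) * b := by rw [hprod.2.2.1 d hd b hb]
        _ = d * d * (b * b) := by group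
        _ = 1 := by rw [hd2, h.sq b hb, one_mul]
    have h4 : 4 ∣ m := by
      have hk3 : 3 ≤ k := by
        by_contra hlt
        have : 2 ^ k ≤ 2 ^ 2 := Nat.pow_le_pow_right (by norm_num) (by omega)
        omega
      refine ⟨2 ^ (k - 3), ?_⟩
      have hsplit : 2 ^ k = 2 ^ (k - 3) * 8 := by
        rw [show 8 = 2 ^ 3 from rfl, ← pow_add, Nat.sub_add_cancel hk3]
      omega
    set x := e.symm (DihedralGroup.r 1) with hx
    have hxo : orderOf (x : S) = m := by
      rw [Subgroup.orderOf_coe, hx, MulEquiv.orderOf_eq, DihedralGroup.orderOf_r_one]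
    refine bound_nonabelian h hprod x.2 (relIndex_zpowers x.2 (by rw [hxo, hcD]))
      (by rw [hxo]; exact h4) (e.symm (DihedralGroup.sr 0)).2 (fun hcomm => ?_) hsq
    have hc' := congrArg e (Subtype.ext hcomm : e.symm (DihedralGroup.sr 0) * x = x * e.symm (DihedralGroup.sr 0))
    simp only [hx, map_mul, MulEquiv.apply_symm_apply, DihedralGroup.sr_mul_r, DihedralGroup.r_mul_sr,
      DihedralGroup.sr.injEq, zero_add, zero_sub] at hc'
    have h2 : ((2 : ℕ) : ZMod m) = 0 := by
      rw [Nat.cast_ofNat, ← one_add_one_eq_two]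
      nth_rewrite 1 [hc']
      exact neg_add_cancel 1
    have := Nat.le_of_dvd (by norm_num) ((ZMod.natCast_eq_zero_iff 2 m).1 h2)
    omega
  · have hxo' : orderOf (x : S) = 2 ^ n := by rw [Subgroup.orderOf_coe, hxo]
    refine bound_nonabelian h hprod x.2 (relIndex_zpowers x.2 (by rw [hxo', hcard, pow_succ']))
      ?_ y.2 (fun hcomm => ?_) hsq
    · rw [hxo', show 4 = 2 ^ 2 from rfl]
      exact pow_dvd_pow 2 (by omega)
    have hyx : y * x = x * y := Subtype.ext hcomm
    rw [hyx, mul_inv_cancel_right] at hconj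
    have hlt : 2 ^ (n - 1) < 2 ^ n := Nat.pow_lt_pow_right (by norm_num) (by omega)
    have hge : 4 ≤ 2 ^ (n - 1) := by
      calc 4 = 2 ^ 2 := rfl
        _ ≤ _ := Nat.pow_le_pow_right (by norm_num) (by omega)
    have := pow_injOn_Iio_orderOf (x := x) (show 1 ∈ Set.Iio (orderOf x) by rw [Set.mem_Iio, hxo]; omega)
      (show 2 ^ (n - 1) - 1 ∈ Set.Iio (orderOf x) by rw [Set.mem_Iio, hxo]; omega)
      (by simpa using hconj)
    omega

/-- The theorem for an arbitrary finite group. -/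
theorem sectional {G : Type u} [Group G] [Finite G] (T D B : Subgroup G) (hT : IsPGroup 2 T)
    (hprod : Cfsg.IsInternalDirectProduct D B T)
    (hD : (∃ m : ℕ, 2 ≤ m ∧ Nonempty (D ≃* DihedralGroup m)) ∨ Cfsg.IsQuasiDihedral D)
    (hB : IsKleinFour B)
    (hTb : ∀ b ∈ B, orderOf b = 2 → T ≤ centralizer ({b} : Set G) ∧
      Odd (T.relIndex (centralizer ({b} : Set G)))) : Cfsg.SectionalPRankLE 2 4 G := by
  haveI : Fact (Nat.Prime 2) := ⟨Nat.prime_two⟩
  obtain ⟨S, hTS⟩ := hT.exists_le_sylow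
  obtain ⟨hDT, hBT, hDB, hmeet, hsup⟩ := hprod
  refine sectional_of_bound S fun L N hNL hsq => ?_
  set SS : Subgroup G := (S : Subgroup G) with hSS
  have hdata : Data (T.subgroupOf SS) (B.subgroupOf SS) := by
    refine ⟨S.isPGroup', fun b hb => hBT hb, ?_, fun b hb => ?_, fun b hb hb1 => ?_⟩
    · rw [Nat.card_congr (subgroupOfEquivOfLe (hBT.trans hTS)).toEquiv]
      exact IsKleinFour.card_four
    · have := IsKleinFour.mul_self (⟨(b : G), hb⟩ : B)
      exact Subtype.ext (congrArg Subtype.val this :)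
    · have hbo : orderOf (b : G) = 2 := orderOf_eq_prime
        (by rw [pow_two]; exact congrArg Subtype.val (IsKleinFour.mul_self (⟨(b : G), hb⟩ : B)))
        (fun hh => hb1 (Subtype.ext hh))
      obtain ⟨hTC, hodd⟩ := hTb (b : G) hb hbo
      have hU : SS ⊓ centralizer ({(b : G)} : Set G) ≤ T := by
        have hmul := relIndex_mul_relIndex T (SS ⊓ centralizer ({(b : G)} : Set G))
          (centralizer ({(b : G)} : Set G)) (le_inf hTS hTC) inf_le_right
        rw [← hmul, Nat.odd_mul] at hodd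
        have hUp : IsPGroup 2 ↥(SS ⊓ centralizer ({(b : G)} : Set G)) := S.isPGroup'.to_le inf_le_left
        obtain ⟨j, hj⟩ := hUp.index (T.subgroupOf (SS ⊓ centralizer ({(b : G)} : Set G)))
        have h1 : T.relIndex (SS ⊓ centralizer ({(b : G)} : Set G)) = 1 := by
          have hj' : T.relIndex (SS ⊓ centralizer ({(b : G)} : Set G)) = 2 ^ j := hj
          rcases Nat.eq_zero_or_pos j with rfl | hjp
          · simpa using hj'
          · exact absurd ((Nat.even_pow.2 ⟨even_two, by omega⟩) : Even (2 ^ j))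
              (Nat.not_even_iff_odd.2 (hj' ▸ hodd.1))
        exact relIndex_eq_one.1 h1
      ext z
      rw [mem_centralizer_singleton_iff, mem_subgroupOf]
      constructor
      · intro hz
        exact hU ⟨z.2, mem_centralizer_singleton_iff.2 (congrArg Subtype.val hz :)⟩
      · intro hz
        exact Subtype.ext (mem_centralizer_singleton_iff.1 (hTC hz) :)
  have hprod' : Cfsg.IsInternalDirectProduct (D.subgroupOf SS) (B.subgroupOf SS) (T.subgroupOf SS) := by
    refine ⟨fun z hz => hDT hz, fun z hz => hBT hz, fun p hp q hq => Subtype.ext (hDB _ hp _ hq), ?_, ?_⟩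
    · rw [eq_bot_iff]
      rintro z ⟨hz, hz'⟩
      have h0 : (z : G) ∈ D ⊓ B := ⟨hz, hz'⟩
      rw [hmeet, mem_bot] at h0
      exact mem_bot.2 (Subtype.ext h0)
    · rw [← subgroupOf_sup (hDT.trans hTS) (hBT.trans hTS), hsup]
  have e := subgroupOfEquivOfLe (hDT.trans hTS)
  refine bound hdata hprod' ?_ hNL hsq
  rcases hD with ⟨m, hm, ⟨e'⟩⟩ | ⟨n, hn, hc, x, y, hxo, hyo, hxy⟩
  · exact Or.inl ⟨m, hm, ⟨e.trans e'⟩⟩
  · refine Or.inr ⟨n, hn, (Nat.card_congr e.toEquiv).trans hc, e.symm x, e.symm y, ?_, ?_, ?_⟩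
    · rw [MulEquiv.orderOf_eq, hxo]
    · rw [MulEquiv.orderOf_eq, hyo]
    · rw [← map_inv, ← map_mul, ← map_mul, ← map_pow, hxy]

end Cfsg.Lib.HaradaE8.FourCent
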