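import Cfsg.Agent.Lib.HaradaE8.Cfg

/-!
# The bound when `C ⧸ B` is not cyclic
-/

set_option autoImplicit false
set_option linter.style.haveILetI false

namespace Cfsg.Lib.HaradaE8

open Subgroup
open scoped Pointwise

universe u

namespace Cfg

variable {S : Type u} [Group S] [Finite S] (F : Cfg S)

theorem exists_data (hnc : ¬ ∃ u ∈ F.C, F.C ≤ zpowers u ⊔ F.B) :
    ∃ c ∈ F.C, c ∉ zpowers (F.psi c) ⊔ F.B ∧
      (∀ x ∈ F.C, x ∈ zpowers (F.psi c) ⊔ F.B ∨ c⁻¹ * x ∈ zpowers (F.psi c) ⊔ F.B) ∧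
      (∃ (i : ℤ) (t : S), t ∈ F.B ∧ c * c = F.psi c ^ (2 * i) * t) ∧
      c * F.psi c * c⁻¹ * F.psi c ∈ F.B ∧ F.psi c ∉ F.B := by
  haveI := F.hBn
  haveI := F.C_normal
  set N := F.B.subgroupOf F.C with hN
  let α0 : F.C →* F.C :=
    { toFun := fun x => ⟨F.a * x * F.a, F.conj_a_mem F.C_normal x.2⟩
      map_one' := Subtype.ext (show F.a * 1 * F.a = 1 by rw [mul_one, F.haa])
      map_mul' := fun x y => Subtype.ext (F.conj_a x y) }
  let α : ↥F.C ⧸ N →* ↥F.C ⧸ N := QuotientGroup.map N N α0 (fun x hx => F.conj_a_mem F.hBn hx)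
  have hα0 : ∀ x : F.C, α (x : ↥F.C ⧸ N) = ((α0 x : F.C) : ↥F.C ⧸ N) := fun x => rfl
  have hinv : ∀ x, α (α x) = x := by
    intro q
    obtain ⟨x, rfl⟩ := QuotientGroup.mk_surjective q
    rw [hα0, hα0]
    congr 1
    apply Subtype.ext
    show F.a * (F.a * (x : S) * F.a) * F.a = x
    calc F.a * (F.a * (x : S) * F.a) * F.a = (F.a * F.a) * x * (F.a * F.a) := by group
      _ = x := by rw [F.haa, one_mul, mul_one]
  have hmem : ∀ x y : F.C, (x : ↥F.C ⧸ N) = y ↔ (x : S)⁻¹ * y ∈ F.B := fun x y => by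
    rw [QuotientGroup.eq]; rfl
  have hfix : ∀ x y z : ↥F.C ⧸ N, α x = x → α y = y → α z = z → x = y ∨ x = z ∨ y = z := by
    intro p q r hp hq hr
    obtain ⟨x, rfl⟩ := QuotientGroup.mk_surjective p
    obtain ⟨y, rfl⟩ := QuotientGroup.mk_surjective q
    obtain ⟨z, rfl⟩ := QuotientGroup.mk_surjective r
    rw [hα0, eq_comm, hmem] at hp hq hr
    have hBB : ∀ u v : F.C, (u : S) ∈ F.B → (v : S) ∈ F.B → (u : ↥F.C ⧸ N) = v := fun u v hu hv =>
      (hmem u v).2 (mul_mem (inv_mem hu) hv)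
    have hnn : ∀ u v : F.C, (u : S) ∉ F.B → (v : S) ∉ F.B → F.psi u ∈ F.B → F.psi v ∈ F.B →
        (u : ↥F.C ⧸ N) = v := fun u v hu hv hpu hpv =>
      (hmem u v).2 (F.two_fixed u.2 v.2 hu hv hpu hpv)
    by_cases hx : (x : S) ∈ F.B <;> by_cases hy : (y : S) ∈ F.B <;> by_cases hz : (z : S) ∈ F.B
    all_goals first
      | exact Or.inl (hBB x y hx hy)
      | exact Or.inr (Or.inl (hBB x z hx hz))
      | exact Or.inr (Or.inr (hBB y z hy hz))
      | exact Or.inl (hnn x y hx hy hp hq)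
      | exact Or.inr (Or.inl (hnn x z hx hz hp hr))
      | exact Or.inr (Or.inr (hnn y z hy hz hq hr))
  have hcyc : ∀ g : ↥F.C ⧸ N, zpowers g ≠ ⊤ := by
    intro g hg
    obtain ⟨u, rfl⟩ := QuotientGroup.mk_surjective g
    refine hnc ⟨u, u.2, fun x hx => ?_⟩
    obtain ⟨i, hi⟩ := exists_zpow_eq (hg ▸ mem_top (((⟨x, hx⟩ : F.C)) : ↥F.C ⧸ N))
    rw [← QuotientGroup.mk_zpow, hmem, SubgroupClass.coe_zpow] at hi
    have := mul_mem (mem_sup_left (T := F.B) (zpow_mem (mem_zpowers (u : S)) i)) (mem_sup_right hi)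
    rwa [mul_inv_cancel_left] at this
  obtain ⟨q, hqU, hidx, ⟨i, hsq, -⟩, hinvq, hne⟩ :=
    exists_gen ((F.hS.to_subgroup F.C).to_quotient N) α hinv hfix hcyc
  obtain ⟨c, rfl⟩ := QuotientGroup.mk_surjective q
  set e : F.C := c⁻¹ * α0 c with he
  have hq : ((c : F.C) : ↥F.C ⧸ N)⁻¹ * α (c : ↥F.C ⧸ N) = (e : ↥F.C ⧸ N) := rfl
  rw [hq] at hqU hidx hsq hinvq hne
  have hes : (e : S) = F.psi c := rfl
  have hU : ∀ x : F.C, (x : ↥F.C ⧸ N) ∈ zpowers (e : ↥F.C ⧸ N) → (x : S) ∈ zpowers (F.psi c) ⊔ F.B := by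
    intro x hx
    obtain ⟨j, hj⟩ := exists_zpow_eq hx
    rw [← QuotientGroup.mk_zpow, hmem, SubgroupClass.coe_zpow, hes] at hj
    have := mul_mem (mem_sup_left (T := F.B) (zpow_mem (mem_zpowers (F.psi c)) j)) (mem_sup_right hj)
    rwa [mul_inv_cancel_left] at this
  refine ⟨c, c.2, ?_, fun x hx => ?_, ⟨i, ((e : S) ^ (2 * i))⁻¹ * ((c : S) * c), ?_, ?_⟩, ?_, ?_⟩
  · intro h
    apply hqU
    rw [← SetLike.mem_coe, mul_normal] at h
    obtain ⟨p, hp, t, ht, hpt⟩ := h
    obtain ⟨j, rfl⟩ := exists_zpow_eq hp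
    rw [mem_zpowers_iff]
    refine ⟨j, ?_⟩
    rw [← QuotientGroup.mk_zpow, hmem, SubgroupClass.coe_zpow, hes]
    have e9 : (F.psi c ^ j)⁻¹ * (c : S) = t := inv_mul_eq_iff_eq_mul.2 hpt.symm
    rw [e9]; exact ht
  · by_cases hxU : (((⟨x, hx⟩ : F.C)) : ↥F.C ⧸ N) ∈ zpowers (e : ↥F.C ⧸ N)
    · exact Or.inl (hU _ hxU)
    · refine Or.inr (hU (c⁻¹ * ⟨x, hx⟩) ?_)
      rw [QuotientGroup.mk_mul, QuotientGroup.mk_inv]
      exact (mul_mem_iff_of_index_two hidx).2 ⟨fun h => absurd (inv_mem_iff.1 h) hqU, fun h => absurd h hxU⟩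
  · rw [← QuotientGroup.mk_mul, ← QuotientGroup.mk_zpow, eq_comm, hmem, SubgroupClass.coe_zpow] at hsq
    exact hsq
  · rw [hes, mul_inv_cancel_left]
  · rw [← QuotientGroup.mk_inv, ← QuotientGroup.mk_inv, ← QuotientGroup.mk_mul, ← QuotientGroup.mk_mul,
      eq_comm, hmem] at hinvq
    rw [← hes]
    have h : ((e : S)⁻¹)⁻¹ * ((c : S) * e * (c : S)⁻¹) ∈ F.B := hinvq
    rw [inv_inv] at h
    exact F.hBn.mem_comm h
  · rw [← hes]
    intro h
    exact hne ((QuotientGroup.eq_one_iff e).2 h)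

/-- The bound when `C ⧸ B` is not cyclic. -/
theorem noncyclic_bound (hnc : ¬ ∃ u ∈ F.C, F.C ≤ zpowers u ⊔ F.B) {L N : Subgroup S} (hNL : N ≤ L)
    (hsq : SqIn L N) : N.relIndex L ≤ 16 := by
  classical
  haveI := F.hBn
  haveI := F.C_normal
  obtain ⟨c, hc, hcU, hcases, ⟨i0, β, hβ, hcc0⟩, hwB, heB⟩ := F.exists_data hnc
  set e := F.psi c with he
  set U := zpowers e ⊔ F.B with hUdef
  have heC : e ∈ F.C := F.psi_mem F.C_normal hc
  have hae : F.a * e * F.a = e⁻¹ := F.psi_invert c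
  have haei : ∀ i : ℤ, F.a * e ^ i * F.a = e ^ (-i) := by
    intro i
    have : F.a * e ^ i * F.a⁻¹ = (F.a * e * F.a⁻¹) ^ i := (conj_zpow).symm
    rw [F.ainv, hae, inv_zpow'] at this
    exact this
  have hec : ∀ x ∈ F.B, ∀ i : ℤ, Commute (e ^ i) x := fun x hx i =>
    (show Commute e x from F.C_comm heC hx).zpow_left i
  have hUmem : ∀ x, x ∈ U ↔ ∃ (i : ℤ) (t : S), t ∈ F.B ∧ x = e ^ i * t := by
    intro x
    rw [hUdef, ← SetLike.mem_coe, mul_normal]
    constructor
    · rintro ⟨p, hp, t, ht, rfl⟩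
      obtain ⟨i, rfl⟩ := exists_zpow_eq hp
      exact ⟨i, t, ht, rfl⟩
    · rintro ⟨i, t, ht, rfl⟩
      exact ⟨_, zpow_mem (mem_zpowers e) i, t, ht, rfl⟩
  have hUC : U ≤ F.C := sup_le (zpowers_le.2 heC) F.B_le_C
  have hUcomm : ∀ x ∈ U, ∀ y ∈ U, x * y = y * x := by
    intro x hx y hy
    obtain ⟨i, s, hs, rfl⟩ := (hUmem x).1 hx
    obtain ⟨j, t, ht, rfl⟩ := (hUmem y).1 hy
    exact ((Commute.mul_right (Commute.zpow_zpow_self e i j) (hec t ht i)).mul_left
      (Commute.mul_right (hec s hs j).symm (F.Bcomm hs ht))).eq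
  have heU : e ∈ U := mem_sup_left (mem_zpowers e)
  have hBU : F.B ≤ U := le_sup_right
  -- involutions
  have hinvB : ∀ i : ℤ, e ^ (2 * i) = 1 → e ^ i ∈ F.Z := by
    intro i hi
    refine F.fixed (zpow_mem heC i) ?_
    rw [haei, show -i = i + -(2 * i) by ring, zpow_add, zpow_neg, hi, inv_one, mul_one]
  have hUinv : ∀ x ∈ U, x * x = 1 → x ∈ F.B := by
    intro x hx hx2
    obtain ⟨i, t, ht, rfl⟩ := (hUmem x).1 hx
    have hsq' : e ^ i * t * (e ^ i * t) = e ^ (2 * i) := by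
      rw [mul_assoc, ← mul_assoc t, ← (hec t ht i).eq, mul_assoc (e ^ i) t t, F.hB2 t ht, mul_one, ← zpow_add,
        two_mul]
    rw [hsq'] at hx2
    exact mul_mem (F.hZB (hinvB i hx2)) ht
  have he2 : e * e ≠ 1 := fun h => heB (F.hZB (by
    have := hinvB 1 (by rw [mul_one, zpow_two]; exact h)
    rwa [zpow_one] at this))
  have he1 : e ≠ 1 := fun h => heB (h ▸ one_mem _)
  -- the involution in `zpowers e` and its root
  obtain ⟨z1, hz1e, hz12, hz11⟩ := exists_invol_of_ne_one F.hS he1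
  have hz1Z : z1 ∈ F.Z := by
    obtain ⟨i, rfl⟩ := exists_zpow_eq hz1e
    exact hinvB i (by rw [two_mul, zpow_add]; exact hz12)
  obtain ⟨l, hl⟩ : ∃ l : ℤ, e ^ (2 * l) = z1 := by
    obtain ⟨i, hi⟩ := exists_zpow_eq hz1e
    obtain ⟨j, rfl | rfl⟩ := Int.even_or_odd' i
    · exact ⟨j, hi⟩
    · exfalso
      obtain ⟨k, hk⟩ := F.hS e
      have hco : IsCoprime (2 * j + 1) (((2 ^ k : ℕ)) : ℤ) := by
        push_cast
        refine IsCoprime.pow_right ?_
        exact ⟨1, -j, by ring⟩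
      obtain ⟨p, q, hpq⟩ := hco
      apply heB
      have : e = z1 ^ p := by
        rw [← hi, ← zpow_mul, show (2 * j + 1) * p = 1 + (((2 ^ k : ℕ)) : ℤ) * (-q) by linarith, zpow_add,
          zpow_one, zpow_mul, zpow_natCast, hk, one_zpow, mul_one]
      rw [this]; exact zpow_mem (F.hZB hz1Z) p
  have hz10 : z1 ≠ F.z0 := by
    intro h
    have hp : F.psi (e ^ l * F.b) = 1 := by
      have hpl : F.psi (e ^ l) = z1 := by
        rw [psi, haei, ← zpow_neg, ← zpow_add, ← hl]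
        have h0 : e ^ (2 * l) = e ^ (-(2 * l)) := by
          rw [zpow_neg, hl]; exact (F.Binv (F.hZB hz1Z)).symm
        rw [h0]; congr 1; ring
      rw [F.psi_mul, hpl, ← z0, h, mul_assoc F.b⁻¹, F.Bcomm (F.hZB F.z0_mem) F.hb, inv_mul_cancel_left, F.z0_sq]
    have hm := F.psi_one (mul_mem (zpow_mem heC l) (F.B_le_C F.hb)) hp
    have hlB : e ^ l ∈ F.B := by
      have := mul_mem (F.hZB hm) (inv_mem F.hb)
      rwa [mul_inv_cancel_right] at this
    have h2 := F.hB2 _ hlB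
    rw [← zpow_add, ← two_mul, hl] at h2
    exact hz11 h2
  -- squares in `U` which lie in `B`
  have hsqB : ∀ i : ℤ, e ^ (2 * i) ∈ F.B → e ^ (2 * i) = 1 ∨ e ^ (2 * i) = z1 := by
    intro i hi
    by_cases h1 : e ^ (2 * i) = 1
    · exact Or.inl h1
    · exact Or.inr (sq_eq_one_unique (zpow_mem (mem_zpowers e) _) hz1e (F.hB2 _ hi) hz12 h1 hz11)
  -- the relations
  set w := c * e * c⁻¹ * e with hw
  have hce : ∀ i : ℤ, c * e ^ i * c⁻¹ = e ^ (-i) * w ^ i := by
    intro i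
    rw [← conj_zpow, show c * e * c⁻¹ = w * e ^ (-1 : ℤ) by rw [hw, zpow_neg_one, mul_inv_cancel_right]]
    rw [((hec w hwB (-1)).symm).mul_zpow, ← zpow_mul, neg_one_mul]
    exact ((hec (w ^ i) (zpow_mem hwB i) (-i)).symm).eq
  have hcB : c * c ∈ F.B := by
    set y := e ^ (2 * i0) with hy
    have hwy : w ^ (2 * i0) = 1 := by
      rw [zpow_mul, zpow_two, F.hB2 w hwB, one_zpow]
    have h1 : c * y * c⁻¹ = y := by
      have h2 : c * (c * c) * c⁻¹ = c * c := by group
      rw [hcc0] at h2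
      have h3 : c * (y * β) * c⁻¹ = c * y * c⁻¹ * β := by
        calc c * (y * β) * c⁻¹ = c * y * (β * c⁻¹) := by group
          _ = c * y * (c⁻¹ * β) := by rw [(show Commute c β from F.C_comm hc hβ).inv_left.eq]
          _ = _ := by group
      rw [h3] at h2
      exact mul_right_cancel h2
    rw [hy, hce, hwy, mul_one] at h1
    have h4 : e ^ (2 * (2 * i0)) = 1 := by
      rw [show 2 * (2 * i0) = 2 * i0 + 2 * i0 by ring, zpow_add]
      nth_rewrite 1 [← h1]
      rw [← zpow_add, neg_add_cancel, zpow_zero]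
    rw [hcc0]
    exact mul_mem (F.hZB (hinvB _ h4)) hβ
  set β0 := c * c with hβ0
  have hpβ : F.psi β0 = w := by
    rw [hβ0, F.psi_mul, ← he]
    calc c⁻¹ * e * c * e = c⁻¹ * e * (c * c) * c⁻¹ * e := by group
      _ = c⁻¹ * (c * c) * e * c⁻¹ * e := by
        rw [mul_assoc c⁻¹ e, F.C_comm heC hcB, hβ0]; group
      _ = w := by rw [hw]; group
  have hCel : ∀ x ∈ F.C, (∃ (i : ℤ) (t : S), t ∈ F.B ∧ x = e ^ i * t) ∨
      ∃ (i : ℤ) (t : S), t ∈ F.B ∧ x = c * (e ^ i * t) := by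
    intro x hx
    rcases hcases x hx with h | h
    · exact Or.inl ((hUmem x).1 h)
    · obtain ⟨i, t, ht, h⟩ := (hUmem _).1 h
      exact Or.inr ⟨i, t, ht, by rw [← h, mul_inv_cancel_left]⟩
  have hsqU : ∀ (i : ℤ) (t : S), t ∈ F.B → e ^ i * t * (e ^ i * t) = e ^ (2 * i) := by
    intro i t ht
    rw [mul_assoc, ← mul_assoc t, ← (hec t ht i).eq, mul_assoc (e ^ i) t t, F.hB2 t ht, mul_one, ← zpow_add,
      two_mul]
  have hsqc : ∀ (i : ℤ) (t : S), t ∈ F.B → c * (e ^ i * t) * (c * (e ^ i * t)) = w ^ i * β0 := by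
    intro i t ht
    have h1 : c * (e ^ i * t) * (c * (e ^ i * t)) = c * e ^ i * c * e ^ i := by
      have hct : Commute t c := (F.C_comm hc ht).symm
      calc c * (e ^ i * t) * (c * (e ^ i * t)) = c * e ^ i * (t * c) * (e ^ i * t) := by group
        _ = c * e ^ i * c * ((t * e ^ i) * t) := by rw [hct.eq]; group
        _ = c * e ^ i * c * e ^ i := by rw [← (hec t ht i).eq, mul_assoc (e ^ i) t t, F.hB2 t ht, mul_one]
    rw [h1]
    calc c * e ^ i * c * e ^ i = c * e ^ i * c⁻¹ * ((c * c) * e ^ i) := by group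
      _ = e ^ (-i) * w ^ i * (e ^ i * β0) := by rw [hce, ← (hec β0 hcB i).eq]
      _ = e ^ (-i) * (w ^ i * e ^ i) * β0 := by group
      _ = w ^ i * β0 := by rw [← (hec _ (zpow_mem hwB i) i).eq]; group
  have hwz : w = 1 ∨ w = F.z0 := hpβ ▸ F.psi_B hcB
  have hwpow : ∀ i : ℤ, w ^ i = 1 ∨ w ^ i = w := by
    intro i
    have h2 : w ^ (2 : ℤ) = 1 := by rw [zpow_two]; exact F.hB2 w hwB
    obtain ⟨j, rfl | rfl⟩ := Int.even_or_odd' i
    · left; rw [zpow_mul, h2, one_zpow]
    · right; rw [zpow_add, zpow_mul, h2, one_zpow, one_mul, zpow_one]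
  -- the subgroup `D` and the basic bounds
  set D := L ⊓ F.C with hD
  set X := D ⊓ U with hX
  obtain ⟨hq8, hqeq⟩ := rank_three (X := X) (B := F.B) (N := N) F.hS F.hB8.le
    (fun x hx y hy => hUcomm x hx.2 y hy.2) (fun x hx => hUinv x hx.2) (fun x hx => hsq x hx.1.1)
  have hUD : U.relIndex D ≤ 2 := by
    refine relIndex_le_two fun x hx y hy hxU hyU => ?_
    have h1 := (hcases x hx.2).resolve_left hxU
    have h2 := (hcases y hy.2).resolve_left hyU
    have := mul_mem (inv_mem h1) h2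
    rwa [mul_inv_rev, inv_inv, mul_assoc, mul_inv_cancel_left] at this
  have hf16 : N.relIndex D ≤ 2 * N.relIndex X := by
    have := relIndex_le_mul N U D
    rw [← hX] at this
    have := Nat.mul_le_mul_left (N.relIndex X) hUD
    omega
  have hsplit := relIndex_le_mul N F.C L
  rw [← hD] at hsplit
  -- a transvection with centre `z0` in the image contradicts a large index
  have hnoa : 8 ≤ N.relIndex X → ∀ l' ∈ L, l' * F.b * l'⁻¹ = F.b * F.z0 → False := by
    intro h8 l' hl' hlb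
    obtain ⟨hBX, hNX⟩ := hqeq h8
    have hbX := hBX F.hb
    have hn := hsq.comm hbX.1.1 hl'
    rw [hlb, inv_mul_cancel_left] at hn
    obtain ⟨x, hx, hxx⟩ := hNX _ hn (hBX (F.hZB F.z0_mem))
    obtain ⟨i, t, ht, rfl⟩ := (hUmem x).1 hx.2
    rw [hsqU i t ht] at hxx
    rcases hsqB i (hxx ▸ F.hZB F.z0_mem) with r | r
    · exact F.z0_ne (hxx.symm.trans r)
    · exact hz10 (hxx.symm.trans r).symm
  -- squares outside `U`
  have hf8 : β0 ≠ 1 → β0 ≠ z1 → w * β0 ≠ 1 → w * β0 ≠ z1 → N.relIndex D ≤ 8 := by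
    intro n1 n2 n3 n4
    by_cases hDU : D ≤ U
    · have hX' : X = D := inf_eq_left.2 hDU
      rw [hX'] at hq8; exact hq8
    · obtain ⟨x, hxD, hxU⟩ := SetLike.not_le_iff_exists.1 hDU
      rcases hCel x hxD.2 with ⟨i, t, ht, r⟩ | ⟨i, t, ht, r⟩
      · exact absurd ((hUmem x).2 ⟨i, t, ht, r⟩) hxU
      have hxx : x * x = w ^ i * β0 := by rw [r]; exact hsqc i t ht
      have hne : N.relIndex X < 8 := by
        by_contra h8
        push Not at h8
        obtain ⟨-, hNX⟩ := hqeq h8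
        have hxxU : x * x ∈ U := by rw [hxx]; exact mem_sup_right (mul_mem (zpow_mem hwB i) hcB)
        obtain ⟨y, hy, hyy⟩ := hNX (x * x) (by rw [← pow_two]; exact hsq x hxD.1) ⟨mul_mem hxD hxD, hxxU⟩
        obtain ⟨j, s, hs, rfl⟩ := (hUmem y).1 hy.2
        rw [hsqU j s hs, hxx] at hyy
        rcases hwpow i with e' | e' <;> rw [e'] at hyy
        · rw [one_mul] at hyy
          rcases hsqB j (hyy ▸ hcB) with r' | r'
          exacts [n1 (hyy.symm.trans r'), n2 (hyy.symm.trans r')]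
        · rcases hsqB j (hyy ▸ mul_mem hwB hcB) with r' | r'
          exacts [n3 (hyy.symm.trans r'), n4 (hyy.symm.trans r')]
      obtain ⟨k, hk⟩ := relIndex_pow F.hS N X
      rw [hk] at hne hf16
      have : k < 3 := (Nat.pow_lt_pow_iff_right (by norm_num)).1 (show 2 ^ k < 2 ^ 3 from hne)
      have : 2 ^ k ≤ 2 ^ 2 := Nat.pow_le_pow_right (by norm_num) (by omega)
      omega
  have hby : F.b⁻¹ = F.b := F.Binv F.hb
  rcases hwz with hw1 | hwz0
  swap
  · -- the squares outside `U` span `B` together with `z1`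
    have hβZ : β0 ∉ F.Z := fun h => F.z0_ne (by rw [← hwz0, ← hpβ, F.psi_Z h])
    have hβ' : w * β0 ∉ F.Z := fun h => hβZ (by
      have := mul_mem F.z0_mem h
      rwa [hwz0, ← mul_assoc, F.z0_sq, one_mul] at this)
    have hT : ∀ g : S, ∀ t, (t = z1 ∨ t = β0 ∨ t = w * β0) →
        (g * t * g⁻¹ = z1 ∨ g * t * g⁻¹ = β0 ∨ g * t * g⁻¹ = w * β0) := by
      intro g t ht
      have htB : t ∈ F.B := by
        rcases ht with r | r | r <;> rw [r]
        exacts [F.hZB hz1Z, hcB, mul_mem hwB hcB]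
      have ht1 : t ≠ 1 := by
        rcases ht with r | r | r <;> rw [r]
        exacts [hz11, fun h => hβZ (h ▸ one_mem _), fun h => hβ' (h ▸ one_mem _)]
      obtain ⟨x, hx, hxx⟩ : ∃ x ∈ F.C, x * x = t := by
        rcases ht with r | r | r <;> rw [r]
        · exact ⟨e ^ l, zpow_mem heC l, by rw [← zpow_add, ← two_mul, hl]⟩
        · exact ⟨c, hc, rfl⟩
        · refine ⟨c * (e ^ (1 : ℤ) * 1), mul_mem hc (mul_mem (zpow_mem heC 1) (one_mem _)), ?_⟩
          rw [hsqc 1 1 (one_mem _), zpow_one]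
      have hgx : g * x * g⁻¹ ∈ F.C := F.C_normal.conj_mem x hx g
      have hgt : g * t * g⁻¹ = (g * x * g⁻¹) * (g * x * g⁻¹) := by rw [← hxx]; group
      have hgB : g * t * g⁻¹ ∈ F.B := F.hBn.conj_mem t htB g
      have hg1 : g * t * g⁻¹ ≠ 1 := fun h => ht1 (conj_eq_one_iff.1 h)
      rcases hCel _ hgx with ⟨i, s, hs, r⟩ | ⟨i, s, hs, r⟩
      · rw [hgt, r, hsqU i s hs] at hgB hg1 ⊢
        exact Or.inl ((hsqB i hgB).resolve_left hg1)
      · rw [hgt, r, hsqc i s hs]
        rcases hwpow i with e' | e' <;> rw [e']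
        · exact Or.inr (Or.inl (one_mul _))
        · exact Or.inr (Or.inr rfl)
    let T : Set S := {z1, β0, w * β0}
    have hTmem : ∀ t, t ∈ T ↔ (t = z1 ∨ t = β0 ∨ t = w * β0) := fun t => Iff.rfl
    have hinvT : ∀ g : S, ∀ t, t ∈ T ↔ g * t * g⁻¹ ∈ T := by
      intro g t
      refine ⟨hT g t, fun h => ?_⟩
      have := hT g⁻¹ _ h
      rwa [inv_inv, show g⁻¹ * (g * t * g⁻¹) * g = t by group] at this
    let φ : S →* Equiv.Perm T :=
      { toFun := fun g => (MulAut.conj g).toEquiv.subtypeEquiv (fun t => hinvT g t)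
        map_one' := by ext t; simp
        map_mul' := fun g h => by ext t; simp [mul_assoc] }
    have hker : φ.ker ≤ F.C := by
      intro g hg
      have hfix : ∀ t ∈ T, g * t = t * g := fun t ht => by
        have := congrArg (fun p : Equiv.Perm T => ((p ⟨t, ht⟩ : T) : S)) (MonoidHom.mem_ker.1 hg)
        simp [φ] at this
        exact mul_inv_eq_iff_eq_mul.1 this
      have c1 : Commute g z1 := hfix z1 (Or.inl rfl)
      have c2 : Commute g β0 := hfix β0 (Or.inr (Or.inl rfl))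
      have c3 : Commute g (w * β0) := hfix _ (Or.inr (Or.inr rfl))
      have c4 : Commute g F.z0 := by
        have := c3.mul_right c2.inv_right
        rwa [mul_inv_cancel_right, hwz0] at this
      have hZ : ∀ z ∈ F.Z, g * z = z * g := by
        intro z hz
        rcases F.Z_el F.z0_mem hz1Z F.z0_ne hz11 (Ne.symm hz10) z hz with r | r | r | r <;> rw [r]
        · rw [mul_one, one_mul]
        · exact c4
        · exact c1
        · exact (c4.mul_right c1).eq
      refine F.mem_C_of_gens hZ ?_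
      rcases F.B_cases hcB with h | h
      · exact absurd h hβZ
      · have : Commute g (F.b * β0 * β0⁻¹) := Commute.mul_right (hZ _ h) c2.inv_right
        rwa [mul_inv_cancel_right] at this
    have hidx : F.C.relIndex L ≤ 2 := by
      have h6 : φ.ker.index ∣ 6 := by
        rw [index_ker]
        refine (Subgroup.card_subgroup_dvd_card _).trans ?_
        haveI : Fintype T := Fintype.ofFinite T
        rw [Nat.card_eq_fintype_card, Fintype.card_perm]
        refine Nat.factorial_dvd_factorial (n := 3) ?_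
        rw [← Nat.card_eq_fintype_card]
        exact (Nat.card_coe_set_eq T).trans_le ((Set.ncard_insert_le _ _).trans
          (Nat.add_le_add_right ((Set.ncard_insert_le _ _).trans (by rw [Set.ncard_singleton])) 1))
      haveI : Fact (Nat.Prime 2) := ⟨Nat.prime_two⟩
      obtain ⟨k, hk⟩ := F.hS.index φ.ker
      rw [hk] at h6
      have hk2 : k ≤ 1 := by
        by_contra hk2
        have := (pow_dvd_pow 2 (show 2 ≤ k by omega)).trans h6
        norm_num at this
      refine le_trans (Nat.le_of_dvd ?_ (relIndex_dvd_index_of_normal F.C L)) ?_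
      · exact Nat.pos_of_ne_zero index_ne_zero_of_finite
      refine le_trans (Nat.le_of_dvd (Nat.pos_of_ne_zero index_ne_zero_of_finite) (index_dvd_of_le hker)) ?_
      rw [hk]
      exact (Nat.pow_le_pow_right (by norm_num) hk2)
    have := hf8 (fun h => hβZ (h ▸ one_mem _)) (fun h => hβZ (h ▸ hz1Z))
      (fun h => hβ' (h ▸ one_mem _)) (fun h => hβ' (h ▸ hz1Z))
    exact hsplit.trans (Nat.mul_le_mul this hidx)
  -- now `c` inverts `e`
  have hβZ : β0 ∈ F.Z := F.psi_one (F.B_le_C hcB) (hpβ.trans hw1)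
  have hce1 : ∀ i : ℤ, c * e ^ i * c⁻¹ = e ^ (-i) := fun i => by rw [hce, hw1, one_zpow, mul_one]
  set E := zpowers (e * e) with hE
  have hEmem : ∀ x, x ∈ E ↔ ∃ i : ℤ, x = e ^ (2 * i) := by
    intro x
    rw [hE, mem_zpowers_iff]
    constructor
    · rintro ⟨i, rfl⟩; exact ⟨i, by rw [zpow_mul, zpow_two]⟩
    · rintro ⟨i, rfl⟩; exact ⟨i, by rw [zpow_mul, zpow_two]⟩
  have hEC : E ≤ F.C := zpowers_le.2 (mul_mem heC heC)
  have hz1E : z1 ∈ E := (hEmem _).2 ⟨l, hl.symm⟩
  -- conjugation inside `C`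
  have hconjU : ∀ x ∈ F.C, ∀ (j : ℤ) (t : S), t ∈ F.B →
      x * (e ^ j * t) * x⁻¹ = e ^ j * t ∨ x * (e ^ j * t) * x⁻¹ = e ^ (-j) * t := by
    intro x hx j t ht
    have hxt : x * t * x⁻¹ = t := by rw [F.C_comm hx ht, mul_inv_cancel_right]
    rcases hCel x hx with ⟨i, s, hs, r⟩ | ⟨i, s, hs, r⟩
    · left
      rw [← conj_mul, hxt]
      congr 1
      rw [r, hUcomm _ ((hUmem _).2 ⟨i, s, hs, rfl⟩) _ (zpow_mem heU j), mul_inv_cancel_right]
    · right
      rw [← conj_mul, hxt]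
      congr 1
      rw [r]
      calc c * (e ^ i * s) * e ^ j * (c * (e ^ i * s))⁻¹
          = c * ((e ^ i * s) * e ^ j) * (e ^ i * s)⁻¹ * c⁻¹ := by group
        _ = c * e ^ j * c⁻¹ := by
          rw [hUcomm _ ((hUmem _).2 ⟨i, s, hs, rfl⟩) _ (zpow_mem heU j)]; group
        _ = _ := hce1 j
  have hECnorm : ∀ x ∈ F.C, ∀ t ∈ E, x * t * x⁻¹ ∈ E := by
    intro x hx t ht
    obtain ⟨j, rfl⟩ := (hEmem t).1 ht
    rcases hconjU x hx (2 * j) 1 (one_mem _) with r | r <;> simp only [mul_one] at r <;> rw [r]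
    · exact ht
    · rw [← mul_neg]; exact (hEmem _).2 ⟨-j, rfl⟩
  have hcomU : ∀ x ∈ F.C, ∀ y ∈ U, y⁻¹ * (x * y * x⁻¹) ∈ E := by
    intro x hx y hy
    obtain ⟨j, t, ht, rfl⟩ := (hUmem y).1 hy
    rcases hconjU x hx j t ht with r | r <;> rw [r]
    · rw [inv_mul_cancel]; exact one_mem _
    · refine (hEmem _).2 ⟨-j, ?_⟩
      rw [mul_inv_rev, F.Binv ht, mul_assoc t, ← mul_assoc (e ^ j)⁻¹, ← zpow_neg, ← zpow_add,
        (hec t ht (-j + -j)).eq, ← mul_assoc, F.hB2 t ht, one_mul]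
      congr 1; ring
  have hcom : ∀ x ∈ F.C, ∀ y ∈ F.C, y⁻¹ * (x * y * x⁻¹) ∈ E := by
    intro x hx y hy
    rcases hcases y hy with hyU | hyU
    · exact hcomU x hx y hyU
    · rcases hcases x hx with hxU | hxU
      · have h := hcomU y hy x hxU
        have h' := hECnorm (y⁻¹ * x) (mul_mem (inv_mem hy) hx) _ (inv_mem h)
        have e1 : y⁻¹ * x * (x⁻¹ * (y * x * y⁻¹))⁻¹ * (y⁻¹ * x)⁻¹ = y⁻¹ * (x * y * x⁻¹) := by group
        rwa [e1] at h'
      · -- `x * y` or `y⁻¹ * x` lies in `U`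
        have hq : y⁻¹ * x ∈ U := by
          have := mul_mem (inv_mem hyU) hxU
          rwa [mul_inv_rev, inv_inv, mul_assoc, mul_inv_cancel_left] at this
        have h := hcomU y hy _ hq
        have h' := inv_mem (hECnorm (y⁻¹ * x) (mul_mem (inv_mem hy) hx) _ h)
        have e1 : (y⁻¹ * x * ((y⁻¹ * x)⁻¹ * (y * (y⁻¹ * x) * y⁻¹)) * (y⁻¹ * x)⁻¹)⁻¹
            = y⁻¹ * (x * y * x⁻¹) := by group
        rwa [e1] at h'
  have hzfix : ∀ g : S, g * z1 * g⁻¹ = z1 := by
    intro g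
    have hyC : e ^ l ∈ F.C := zpow_mem heC l
    have hcomz : (e ^ l)⁻¹ * (c * e ^ l * c⁻¹) = z1 := by
      rw [hce1, ← zpow_neg, ← zpow_add, show -l + -l = -(2 * l) by ring, zpow_neg, hl, F.Binv (F.hZB hz1Z)]
    have h := hcom _ (F.C_normal.conj_mem c hc g) _ (F.C_normal.conj_mem _ hyC g)
    have e1 : (g * e ^ l * g⁻¹)⁻¹ * (g * c * g⁻¹ * (g * e ^ l * g⁻¹) * (g * c * g⁻¹)⁻¹) = g * z1 * g⁻¹ := by
      rw [← hcomz]; group
    rw [e1] at h
    obtain ⟨j, hj⟩ := (hEmem _).1 h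
    have hB' : g * z1 * g⁻¹ ∈ F.B := F.hBn.conj_mem _ (F.hZB hz1Z) g
    rw [hj] at hB' ⊢
    exact (hsqB j hB').resolve_left (fun h1 => hz11 (conj_eq_one_iff.1 (hj.trans h1)))
  have hsqβ : ∀ g : S, g * β0 * g⁻¹ = β0 ∨ ∃ j : ℤ, g * β0 * g⁻¹ = e ^ (2 * j) := by
    intro g
    have hgt : g * β0 * g⁻¹ = (g * c * g⁻¹) * (g * c * g⁻¹) := by rw [hβ0]; group
    rcases hCel _ (F.C_normal.conj_mem c hc g) with ⟨i, s, hs, r⟩ | ⟨i, s, hs, r⟩
    · exact Or.inr ⟨i, by rw [hgt, r, hsqU i s hs]⟩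
    · left; rw [hgt, r, hsqc i s hs, hw1, one_zpow, one_mul]
  by_cases hβE : β0 = 1 ∨ β0 = z1
  · -- only `a` acts on `B`
    have hβE' : β0 ∈ E := by
      rcases hβE with r | r <;> rw [r]
      exacts [one_mem _, hz1E]
    have hEn : E.Normal := by
      refine ⟨fun t ht g => ?_⟩
      obtain ⟨j, rfl⟩ := (hEmem t).1 ht
      have hgC : g * e ^ j * g⁻¹ ∈ F.C := F.C_normal.conj_mem _ (zpow_mem heC j) g
      have e1 : g * e ^ (2 * j) * g⁻¹ = (g * e ^ j * g⁻¹) * (g * e ^ j * g⁻¹) := by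
        rw [two_mul, zpow_add]; group
      rw [e1]
      rcases hCel _ hgC with ⟨i, s, hs, r⟩ | ⟨i, s, hs, r⟩ <;> rw [r]
      · rw [hsqU i s hs]; exact (hEmem _).2 ⟨i, rfl⟩
      · rw [hsqc i s hs, hw1, one_zpow, one_mul]; exact hβE'
    have hodd : ∀ j : ℤ, e ^ (1 + 2 * j) ∉ F.B := by
      intro j h
      have h2 := F.hB2 _ h
      rw [← zpow_add] at h2
      obtain ⟨k, hk⟩ := F.hS e
      have hco : IsCoprime (1 + 2 * j) (((2 ^ k : ℕ)) : ℤ) := by
        push_cast
        refine IsCoprime.pow_right ?_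
        exact ⟨1, -j, by ring⟩
      obtain ⟨p, q, hpq⟩ := hco
      apply he2
      rw [← zpow_two, show (2 : ℤ) = (1 + 2 * j + (1 + 2 * j)) * p + (((2 ^ k : ℕ)) : ℤ) * (2 * q) by linarith,
        zpow_add, zpow_mul, h2, one_zpow, one_mul, zpow_mul, zpow_natCast, hk, one_zpow]
    have hz0E : F.z0 ∉ E := fun h => by
      obtain ⟨j, hj⟩ := (hEmem _).1 h
      rcases hsqB j (hj ▸ F.hZB F.z0_mem) with r | r
      exacts [F.z0_ne (hj.trans r), hz10 (hj.trans r).symm]
    have heE : e ∉ E := fun h => by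
      obtain ⟨j, hj⟩ := (hEmem _).1 h
      refine hodd (-j) ?_
      rw [show 1 + 2 * -j = 1 + -(2 * j) by ring, zpow_add, zpow_one, zpow_neg, ← hj, mul_inv_cancel]
      exact one_mem _
    have hz0eE : F.z0 * e ∉ E := fun h => by
      obtain ⟨j, hj⟩ := (hEmem _).1 h
      refine hodd (-j) ?_
      rw [show 1 + 2 * -j = 1 + -(2 * j) by ring, zpow_add, zpow_one, zpow_neg, ← hj, mul_inv_rev,
        F.Binv (F.hZB F.z0_mem), mul_inv_cancel_left]
      exact F.hZB F.z0_mem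
    have hpe : F.psi e ∈ E := by
      refine (hEmem _).2 ⟨-1, ?_⟩
      rw [psi, hae]; group
    have stab : ∀ h : S, (∀ z ∈ F.Z, h * z = z * h) → h ∈ F.C ∨ h * F.a ∈ F.C := by
      intro h hhZ
      by_contra hcon
      push Not at hcon
      set q := F.b⁻¹ * (h * F.b * h⁻¹) with hq
      have hhb : h * F.b * h⁻¹ = F.b * q := by rw [hq, mul_inv_cancel_left]
      have hqZ : q ∈ F.Z := by
        rcases F.B_cases (F.hBn.conj_mem F.b F.hb h) with r | r
        · exfalso
          apply F.hbZ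
          have e1 : h * F.b * h⁻¹ = F.b := by
            have := hhZ _ r
            calc h * F.b * h⁻¹ = h⁻¹ * (h * (h * F.b * h⁻¹)) := by group
              _ = h⁻¹ * (h * F.b * h⁻¹ * h) := by rw [this]
              _ = F.b := by group
          exact e1 ▸ r
        · rw [hq, hby]; exact r
      have hq1 : q ≠ 1 := fun r => hcon.1 (F.mem_C_of_gens hhZ (mul_inv_eq_iff_eq_mul.1 (by rw [hhb, r, mul_one])))
      have hq0 : q ≠ F.z0 := fun r => hcon.2 (F.mul_a_mem_C hhZ (by rw [hhb, r]))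
      -- the commutator with `a`
      set c' := F.psi h with hc'
      have hc'C : c' ∈ F.C := by
        refine F.mem_C_of_gens (fun z hz => ?_) ?_
        · have c1 : Commute h z := hhZ z hz
          have c2 : Commute F.a z := F.haZ z hz
          exact (c1.inv_left.mul_left ((c2.mul_left c1).mul_left c2)).eq
        · rw [← mul_inv_eq_iff_eq_mul]
          have hqa : F.a * q * F.a = q := by rw [F.haZ q hqZ, mul_assoc, F.haa, mul_one]
          calc c' * F.b * c'⁻¹ = h⁻¹ * (F.a * (h * (F.a * F.b * F.a) * h⁻¹) * F.a) * h := by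
                rw [hc', psi, mul_inv_rev, mul_inv_rev, mul_inv_rev, inv_inv, F.ainv]; group
            _ = h⁻¹ * (F.a * (h * F.b * h⁻¹ * (h * F.z0 * h⁻¹)) * F.a) * h := by rw [F.conj_b]; group
            _ = h⁻¹ * (F.a * (F.b * (q * F.z0)) * F.a) * h := by
              rw [hhb, hhZ _ F.z0_mem, mul_inv_cancel_right, mul_assoc F.b q]
            _ = h⁻¹ * (F.b * q) * h := by
              rw [F.conj_a, F.conj_b, F.conj_a, hqa, F.haZ _ F.z0_mem, mul_assoc F.z0 F.a, F.haa, mul_one,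
                F.Bcomm (F.hZB hqZ) (F.hZB F.z0_mem), mul_assoc F.b, ← mul_assoc F.z0 F.z0, F.z0_sq, one_mul]
            _ = F.b := by rw [← hhb]; group
      have hc'i : F.a * c' * F.a = c'⁻¹ := F.psi_invert h
      -- its form
      obtain ⟨j, z, hz, hc'e⟩ : ∃ (j : ℤ) (z : S), z ∈ F.Z ∧ c' = e ^ j * z := by
        rcases hCel c' hc'C with ⟨j, t, ht, r⟩ | ⟨j, t, ht, r⟩
        · refine ⟨j, t, F.fixed (F.B_le_C ht) ?_, r⟩
          rw [r, F.conj_a, haei, mul_inv_rev, F.Binv ht, ← zpow_neg, ← (hec t ht (-j)).eq] at hc'i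
          exact mul_left_cancel hc'i
        · exfalso
          rw [r, F.conj_a, F.conj_a, haei, F.psi_eq c, ← he] at hc'i
          have e2 : (c * (e ^ j * t))⁻¹ = c * (e ^ j * t) * β0⁻¹ := by
            have h2 := hsqc j t ht
            rw [hw1, one_zpow, one_mul] at h2
            calc (c * (e ^ j * t))⁻¹
                = (c * (e ^ j * t)) * (c * (e ^ j * t) * (c * (e ^ j * t)))⁻¹ := by group
              _ = _ := by rw [h2]
          rw [e2] at hc'i
          have h3 : e * e ^ (-j) * (F.a * t * F.a) = e ^ j * (t * β0⁻¹) := by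
            apply mul_left_cancel (a := c)
            calc c * (e * e ^ (-j) * (F.a * t * F.a)) = c * e * (e ^ (-j) * (F.a * t * F.a)) := by group
              _ = _ := by rw [hc'i]; group
          refine hodd (-j) ?_
          have e4 : e ^ (1 + 2 * -j) = t * β0⁻¹ * (F.a * t * F.a)⁻¹ := by
            rw [show 1 + 2 * -j = -j + (1 + -j) by ring, zpow_add, zpow_add, zpow_one]
            calc e ^ (-j) * (e * e ^ (-j))
                = e ^ (-j) * (e * e ^ (-j) * (F.a * t * F.a)) * (F.a * t * F.a)⁻¹ := by group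
              _ = _ := by rw [h3]; group
          rw [e4]
          exact mul_mem (mul_mem ht (inv_mem hcB)) (inv_mem (F.conj_a_mem F.hBn ht))
      have hsame : ∀ {s r : S}, s⁻¹ * r ∈ E → s ∈ E → r ∈ E := fun {s r} h hs => by
        have := mul_mem hs h; rwa [mul_inv_cancel_left] at this
      -- adjust `h` inside `h * C`
      obtain ⟨k, hk⟩ : ∃ k : Bool, cond k F.z0 1 * z ∈ E := by
        rcases F.Z_el F.z0_mem hz1Z F.z0_ne hz11 (Ne.symm hz10) z hz with r | r | r | r <;> rw [r]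
        · exact ⟨false, by show 1 * 1 ∈ E; rw [one_mul]; exact one_mem _⟩
        · exact ⟨true, by show F.z0 * F.z0 ∈ E; rw [F.z0_sq]; exact one_mem _⟩
        · exact ⟨false, by show 1 * z1 ∈ E; rw [one_mul]; exact hz1E⟩
        · exact ⟨true, by show F.z0 * (F.z0 * z1) ∈ E; rw [← mul_assoc, F.z0_sq, one_mul]; exact hz1E⟩
      set bb := cond k F.b 1 with hbb
      have hbbB : bb ∈ F.B := by rw [hbb]; cases k; exacts [one_mem _, F.hb]
      have hpbb : F.psi bb = cond k F.z0 1 := by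
        rw [hbb]; cases k
        exacts [F.psi_Z (one_mem _), rfl]
      set cp := cond (decide (j % 2 = 1)) c 1 with hcp
      have hcpC : cp ∈ F.C := by rw [hcp]; cases (decide (j % 2 = 1)); exacts [one_mem _, hc]
      have hcpE : F.psi cp * e ^ j ∈ E := by
        rw [hcp]
        by_cases hj : j % 2 = 1
        · rw [decide_eq_true hj, cond_true, ← he]
          refine (hEmem _).2 ⟨(j + 1) / 2, ?_⟩
          rw [← zpow_one_add]; congr 1; omega
        · rw [decide_eq_false hj, cond_false, F.psi_Z (one_mem _), one_mul]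
          refine (hEmem _).2 ⟨j / 2, ?_⟩
          congr 1; omega
      have hqC : cp * bb ∈ F.C := mul_mem hcpC (F.B_le_C hbbB)
      have hpqU : F.psi cp ∈ F.C := F.psi_mem F.C_normal hcpC
      have hpx : F.psi (h * (cp * bb)) ∈ E := by
        rw [F.psi_mul, ← hc']
        set g := cp * bb with hg
        have h1 : c'⁻¹ * (g⁻¹ * c' * g) ∈ E := by
          have := hcom g⁻¹ (inv_mem hqC) c' hc'C
          rwa [inv_inv] at this
        have h2 : c' * F.psi g ∈ E := by
          rw [hg, F.psi_mul, hpbb, mul_assoc bb⁻¹, F.C_comm hpqU hbbB, inv_mul_cancel_left, hc'e]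
          have hkB : cond k F.z0 1 ∈ F.B := by cases k; exacts [one_mem _, F.hZB F.z0_mem]
          have e5 : e ^ j * z * (F.psi cp * cond k F.z0 1)
              = (e ^ j * F.psi cp) * (cond k F.z0 1 * z) := by
            calc e ^ j * z * (F.psi cp * cond k F.z0 1)
                = e ^ j * (z * F.psi cp) * cond k F.z0 1 := by group
              _ = e ^ j * (F.psi cp * z) * cond k F.z0 1 := by rw [(F.C_comm hpqU (F.hZB hz))]
              _ = e ^ j * F.psi cp * (z * cond k F.z0 1) := by group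
              _ = _ := by rw [F.Bcomm (F.hZB hz) hkB]
          rw [e5]
          exact mul_mem (hEn.mem_comm hcpE) hk
        have := mul_mem (hEn.conj_mem _ h1 c') h2
        have e6 : c' * (c'⁻¹ * (g⁻¹ * c' * g)) * c'⁻¹ * (c' * F.psi g) = g⁻¹ * c' * g * F.psi g := by group
        rwa [e6] at this
      refine F.count_sixteen E hEn hEC hz0E (e := e) (x := h * (cp * bb)) (q := q) heC heE hz0eE hpe ?_ ?_ hq1 hq0 hpx
      · intro z hz
        exact (Commute.mul_left (hhZ z hz) (F.C_comm hqC (F.hZB hz))).eq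
      · have := F.C_comm hqC F.hb
        calc h * (cp * bb) * F.b * (h * (cp * bb))⁻¹ = h * ((cp * bb) * F.b) * (cp * bb)⁻¹ * h⁻¹ := by group
          _ = h * F.b * h⁻¹ := by rw [this]; group
          _ = F.b * q := hhb
    have hZn := F.flag hz1Z hzfix hz11 hz10
    have hZfix : ∀ g : S, ∀ z ∈ F.Z, g * z = z * g := by
      intro g
      have hg0 : g * F.z0 * g⁻¹ = F.z0 := by
        rcases F.Z_el F.z0_mem hz1Z F.z0_ne hz11 (Ne.symm hz10) _ (hZn.conj_mem _ F.z0_mem g) with r | r | r | r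
        · exact absurd (conj_eq_one_iff.1 r) F.z0_ne
        · exact r
        · exfalso
          rw [← hzfix g] at r
          exact hz10 (mul_left_cancel (mul_right_cancel r)).symm
        · exfalso
          set k := g⁻¹ * F.a * g * F.a with hk
          have hgi1 : g⁻¹ * z1 * g = z1 := by
            have := hzfix g⁻¹; rwa [inv_inv] at this
          have hkz1 : k * z1 = z1 * k := by
            have c1 : Commute g z1 := mul_inv_eq_iff_eq_mul.1 (hzfix g)
            have c2 : Commute F.a z1 := F.haZ z1 hz1Z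
            exact (((c1.inv_left.mul_left c2).mul_left c1).mul_left c2).eq
          have hmove : k * F.z0 * k⁻¹ = F.z0 := by
            have ha : ∀ z ∈ F.Z, F.a * z * F.a⁻¹ = z := fun z hz => by rw [F.haZ z hz, mul_inv_cancel_right]
            calc k * F.z0 * k⁻¹ = g⁻¹ * (F.a * (g * (F.a * F.z0 * F.a⁻¹) * g⁻¹) * F.a⁻¹) * g := by rw [hk]; group
              _ = g⁻¹ * (g * F.z0 * g⁻¹) * g := by rw [ha _ F.z0_mem, r, ha _ (mul_mem F.z0_mem hz1Z)]
              _ = F.z0 := by group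
          have hkZ : ∀ z ∈ F.Z, k * z = z * k := by
            intro z hz
            have c0 : Commute k F.z0 := mul_inv_eq_iff_eq_mul.1 hmove
            rcases F.Z_el F.z0_mem hz1Z F.z0_ne hz11 (Ne.symm hz10) z hz with s | s | s | s <;> rw [s]
            · rw [mul_one, one_mul]
            · exact c0
            · exact hkz1
            · exact (c0.mul_right hkz1).eq
          -- the value on `b`
          set p := g * F.b * g⁻¹ with hp
          have hpB : p ∈ F.B := F.hBn.conj_mem _ F.hb g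
          have hkb : k * F.b * k⁻¹ = F.b * z1 := by
            have h1 : k * F.b * k⁻¹ = g⁻¹ * (F.a * (p * (F.z0 * z1)) * F.a⁻¹) * g := by
              calc k * F.b * k⁻¹ = g⁻¹ * (F.a * (g * (F.a * F.b * F.a⁻¹) * g⁻¹) * F.a⁻¹) * g := by rw [hk]; group
                _ = g⁻¹ * (F.a * (g * F.b * g⁻¹ * (g * F.z0 * g⁻¹)) * F.a⁻¹) * g := by
                  rw [F.ainv, F.conj_b]; group
                _ = _ := by rw [r, ← hp]
            have hpa : F.a * p * F.a = p * F.z0 := by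
              rw [F.psi_eq]
              congr 1
              rcases F.psi_B hpB with s | s
              · exfalso
                apply F.hbZ
                have h2 := hZn.conj_mem _ (F.psi_one (F.B_le_C hpB) s) g⁻¹
                rwa [inv_inv, hp, show g⁻¹ * (g * F.b * g⁻¹) * g = F.b by group] at h2
              · exact s
            rw [h1, F.ainv, F.conj_a, hpa, F.haZ _ (mul_mem F.z0_mem hz1Z), mul_assoc (F.z0 * z1), F.haa,
              mul_one, mul_assoc p F.z0, ← mul_assoc F.z0 F.z0, F.z0_sq, one_mul, hp]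
            calc g⁻¹ * (g * F.b * g⁻¹ * z1) * g = F.b * (g⁻¹ * z1 * g) := by group
              _ = _ := by rw [hgi1]
          rcases stab k hkZ with h | h
          · rw [F.C_comm h F.hb, mul_inv_cancel_right] at hkb
            exact hz11 (left_eq_mul.1 hkb)
          · have h2 := F.C_comm h F.hb
            have h3 : k * F.b * k⁻¹ = F.b * F.z0 := F.conj_b_of_mul_a h
            exact hz10 (mul_left_cancel (hkb.symm.trans h3))
      intro z hz
      have c0 : Commute g F.z0 := mul_inv_eq_iff_eq_mul.1 hg0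
      have c1 : Commute g z1 := mul_inv_eq_iff_eq_mul.1 (hzfix g)
      rcases F.Z_el F.z0_mem hz1Z F.z0_ne hz11 (Ne.symm hz10) z hz with s | s | s | s <;> rw [s]
      · rw [mul_one, one_mul]
      · exact c0
      · exact c1
      · exact (c0.mul_right c1).eq
    have hall : ∀ h : S, h ∈ F.C ∨ h * F.a ∈ F.C := fun h => stab h (hZfix h)
    have hidx : F.C.relIndex L ≤ 2 := relIndex_le_two fun x _ y _ hx hy => by
      have h3 := mul_mem (inv_mem ((hall x).resolve_left hx)) ((hall y).resolve_left hy)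
      have h4 := F.conj_a_mem F.C_normal h3
      have e1 : F.a * ((x * F.a)⁻¹ * (y * F.a)) * F.a = (F.a * F.a⁻¹) * x⁻¹ * y * (F.a * F.a) := by group
      rwa [e1, mul_inv_cancel, F.haa, one_mul, mul_one] at h4
    by_contra hbig
    push Not at hbig
    by_cases hLC : L ≤ F.C
    · rw [relIndex_eq_one.2 hLC, mul_one] at hsplit
      omega
    obtain ⟨x, hxL, hxC⟩ := SetLike.not_le_iff_exists.1 hLC
    have hxa := (hall x).resolve_left hxC
    refine hnoa ?_ x hxL ?_
    · have := Nat.mul_le_mul_left (N.relIndex D) hidx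
      exact eight_le_relIndex F.hS (by omega)
    · exact F.conj_b_of_mul_a hxa
  -- `β0` is a second fixed point
  push Not at hβE
  have hf : N.relIndex D ≤ 8 := hf8 hβE.1 hβE.2 (by rw [hw1, one_mul]; exact hβE.1) (by rw [hw1, one_mul]; exact hβE.2)
  have hel := F.Z_el hz1Z hβZ hz11 hβE.1 (Ne.symm hβE.2)
  have hZfix : ∀ g : S, ∀ z ∈ F.Z, g * z = z * g := by
    intro g
    have hgβ : g * β0 * g⁻¹ = β0 := by
      rcases hsqβ g with r | ⟨j, r⟩
      · exact r
      · exfalso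
        have hB' := F.hBn.conj_mem _ hcB g
        rw [r] at hB'
        rcases hsqB j hB' with s | s
        · exact hβE.1 (conj_eq_one_iff.1 (r.trans s))
        · rw [s, ← hzfix g] at r
          exact hβE.2 (mul_left_cancel (mul_right_cancel r))
    intro z hz
    have c0 : Commute g β0 := mul_inv_eq_iff_eq_mul.1 hgβ
    have c1 : Commute g z1 := mul_inv_eq_iff_eq_mul.1 (hzfix g)
    rcases hel z hz with s | s | s | s <;> rw [s]
    · rw [mul_one, one_mul]
    · exact c1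
    · exact c0
    · exact (c1.mul_right c0).eq
  let v : S → S := fun g => F.b⁻¹ * (g * F.b * g⁻¹)
  let T : Finset S := {1, z1, β0, z1 * β0}
  have hv : ∀ g ∈ L, v g ∈ T := by
    intro g _
    have hvZ : v g ∈ F.Z := by
      rcases F.B_cases (F.hBn.conj_mem _ F.hb g) with h | h
      · exfalso
        apply F.hbZ
        have e1 : g * F.b * g⁻¹ = F.b := by
          calc g * F.b * g⁻¹ = g⁻¹ * (g * (g * F.b * g⁻¹)) := by group
            _ = g⁻¹ * (g * F.b * g⁻¹ * g) := by rw [hZfix g _ h]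
            _ = F.b := by group
        exact e1 ▸ h
      · show F.b⁻¹ * _ ∈ F.Z
        rw [hby]; exact h
    simp only [T, Finset.mem_insert, Finset.mem_singleton]
    exact hel _ hvZ
  obtain ⟨hp4, hp4eq⟩ := values_le L F.C v T hv (fun x _ y _ hxy => by
    refine F.mem_C_of_gens (hZfix _) ?_
    have h' : x * F.b * x⁻¹ = y * F.b * y⁻¹ := mul_left_cancel hxy
    calc x⁻¹ * y * F.b = x⁻¹ * (y * F.b * y⁻¹) * y := by group
      _ = x⁻¹ * (x * F.b * x⁻¹) * y := by rw [h']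
      _ = _ := by group)
  have hT4 : T.card ≤ 4 := Finset.card_le_four
  by_contra hbig
  push Not at hbig
  obtain ⟨k, hk⟩ := relIndex_pow F.hS F.C L
  have hk4 : 4 ≤ F.C.relIndex L := by
    by_contra hlt
    have : k < 2 := (Nat.pow_lt_pow_iff_right (le_refl 2)).1 (show 2 ^ k < 2 ^ 2 by omega)
    have : 2 ^ k ≤ 2 ^ 1 := Nat.pow_le_pow_right (by norm_num) (by omega)
    have := Nat.mul_le_mul hf (show F.C.relIndex L ≤ 2 by omega)
    omega
  obtain ⟨x, hxL, hxv⟩ := hp4eq (by omega) F.z0 (by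
    simp only [T, Finset.mem_insert, Finset.mem_singleton]; exact hel _ F.z0_mem)
  have hxb : x * F.b * x⁻¹ = F.b * F.z0 := by rw [← hxv]; exact (mul_inv_cancel_left _ _).symm
  have hxa : x * F.a ∈ F.C := F.mul_a_mem_C (hZfix x) hxb
  have hfD : 4 < N.relIndex D := by
    by_contra hle
    push Not at hle
    have := Nat.mul_le_mul hle (hp4.trans hT4)
    omega
  by_cases hDU : D ≤ U
  · have hX' : X = D := inf_eq_left.2 hDU
    refine hnoa ?_ x hxL hxb
    rw [hX']
    exact eight_le_relIndex F.hS hfD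
  obtain ⟨c', hc'D, hc'U⟩ := SetLike.not_le_iff_exists.1 hDU
  rcases hCel c' hc'D.2 with ⟨i, t, ht, r⟩ | ⟨i, t, ht, r⟩
  · exact hc'U ((hUmem _).2 ⟨i, t, ht, r⟩)
  -- the commutator with `x`
  set n := c'⁻¹ * (x * c' * x⁻¹) with hn
  have hnN : n ∈ N := hsq.comm hc'D.1 hxL
  have hnD : n ∈ D := ⟨hNL hnN, by
    have hcC : c' ∈ F.C := hc'D.2
    show n ∈ F.C
    exact mul_mem (inv_mem hcC) (F.C_normal.conj_mem _ hcC x)⟩
  have hβN : β0 ∈ N := by
    have := hsq c' hc'D.1
    rwa [pow_two, r, hsqc i t ht, hw1, one_zpow, one_mul] at this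
  obtain ⟨o, s, hs, hno, hodd⟩ : ∃ (o : ℤ) (s : S), s ∈ F.B ∧ n = e ^ o * s ∧ o % 2 = 1 := by
    have hd : x = x * F.a * F.a := by rw [mul_assoc, F.haa, mul_one]
    set d := x * F.a with hdd
    have hac : F.a * c' * F.a = c' * F.psi c' := F.psi_eq c'
    have e1 : x * c' * x⁻¹ = d * (c' * F.psi c') * d⁻¹ := by
      rw [hd, mul_inv_rev, F.ainv, ← hac]; group
    have hpc : F.psi c' = e ^ (1 + -i + -i) * F.psi t := by
      rw [r, F.psi_mul, ← he, F.psi_mul]
      have hpe' : F.psi (e ^ i) = e ^ (-i + -i) := by rw [psi, haei, ← zpow_neg, ← zpow_add]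
      rw [hpe']
      have htU : ∀ j : ℤ, Commute t (e ^ j) := fun j => (hec t ht j).symm
      calc (e ^ i * t)⁻¹ * e * (e ^ i * t) * (t⁻¹ * e ^ (-i + -i) * t * F.psi t)
          = t⁻¹ * ((e ^ i)⁻¹ * e * e ^ i) * (e ^ (-i + -i) * t) * F.psi t := by group
        _ = t⁻¹ * e * (t * e ^ (-i + -i)) * F.psi t := by
          rw [mul_assoc (e ^ i)⁻¹ e, (Commute.self_zpow e i).eq, inv_mul_cancel_left, (htU _).eq]
        _ = t⁻¹ * (e * t) * e ^ (-i + -i) * F.psi t := by group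
        _ = _ := by
          have hc1 : e * t = t * e := F.C_comm heC ht
          rw [hc1, inv_mul_cancel_left, ← zpow_one_add, ← add_assoc]
    have hcd := hcom d hxa (c' * F.psi c') (mul_mem hc'D.2 (F.psi_mem F.C_normal hc'D.2))
    obtain ⟨j, hj⟩ := (hEmem _).1 hcd
    refine ⟨1 + -i + -i + 2 * j, F.psi t, F.psi_mem F.hBn ht, ?_, by omega⟩
    have e2 : d * (c' * F.psi c') * d⁻¹ = c' * F.psi c' * e ^ (2 * j) := by rw [← hj]; group
    rw [hn, e1, e2, mul_assoc c', inv_mul_cancel_left, hpc, mul_assoc, ← (hec _ (F.psi_mem F.hBn ht) (2 * j)).eq,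
      ← mul_assoc, ← zpow_add]
  obtain ⟨kk, hkk⟩ := F.hS e
  obtain ⟨p, q', hpq⟩ : IsCoprime o (((2 ^ kk : ℕ)) : ℤ) := by
    push_cast
    refine IsCoprime.pow_right ?_
    exact ⟨1, -((o - 1) / 2), by omega⟩
  have hep : ∀ j : ℤ, e ^ (o * (p * j)) = e ^ j := fun j => by
    rw [show o * (p * j) = j + (((2 ^ kk : ℕ)) : ℤ) * (-(q' * j)) by linear_combination j * hpq, zpow_add,
      zpow_mul _ (((2 ^ kk : ℕ)) : ℤ), zpow_natCast, hkk, one_zpow, mul_one]
  have hnpow : ∀ j : ℤ, n ^ j = e ^ (o * j) * s ^ j := fun j => by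
    rw [hno, (hec s hs o).mul_zpow, ← zpow_mul]
  have hz1N : z1 ∈ N := by
    have h := zpow_mem hnN (p * (2 * l))
    rw [hnpow, hep, hl, show p * (2 * l) = 2 * (p * l) by ring, zpow_mul, zpow_two, F.hB2 s hs, one_zpow,
      mul_one] at h
    exact h
  have hZN : ∀ z ∈ F.Z, z ∈ N := by
    intro z hz
    rcases hel z hz with s' | s' | s' | s' <;> rw [s']
    exacts [one_mem _, hz1N, hβN, mul_mem hz1N hβN]
  have hq2 : N.relIndex X ≤ 2 := by
    have hred : ∀ u ∈ X, ∃ u' ∈ F.B, ∃ m ∈ N, u = m * u' := by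
      intro u hu
      obtain ⟨j, t', ht', r'⟩ := (hUmem u).1 hu.2
      refine ⟨(s ^ (p * j))⁻¹ * t', mul_mem (inv_mem (zpow_mem hs _)) ht', n ^ (p * j), zpow_mem hnN _, ?_⟩
      rw [hnpow, hep, r']; group
    refine relIndex_le_two fun u hu u2 hu2 hn1 hn2 => ?_
    obtain ⟨b1, hb1, m1, hm1, r1⟩ := hred u hu
    obtain ⟨b2, hb2, m2, hm2, r2⟩ := hred u2 hu2
    have o1 : F.b * b1 ∈ F.Z := (F.B_cases hb1).resolve_left fun h => hn1 (r1 ▸ mul_mem hm1 (hZN _ h))
    have o2 : F.b * b2 ∈ F.Z := (F.B_cases hb2).resolve_left fun h => hn2 (r2 ▸ mul_mem hm2 (hZN _ h))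
    have h12 : b1⁻¹ * b2 ∈ N := by
      have := hZN _ (mul_mem (inv_mem o1) o2)
      rwa [mul_inv_rev, mul_assoc, inv_mul_cancel_left] at this
    have hu12 : u⁻¹ * u2 = m1⁻¹ * m2 * (b1⁻¹ * b2) := by
      have hmU1 : m1 ∈ U := by
        have huU : u ∈ U := hu.2
        have := mul_mem huU (inv_mem (hBU hb1))
        rwa [r1, mul_inv_cancel_right] at this
      have hmU2 : m2 ∈ U := by
        have huU : u2 ∈ U := hu2.2
        have := mul_mem huU (inv_mem (hBU hb2))
        rwa [r2, mul_inv_cancel_right] at this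
      rw [r1, r2, mul_inv_rev]
      calc b1⁻¹ * m1⁻¹ * (m2 * b2) = b1⁻¹ * (m1⁻¹ * m2) * b2 := by group
        _ = m1⁻¹ * m2 * b1⁻¹ * b2 := by
          rw [hUcomm _ (inv_mem (hBU hb1)) _ (mul_mem (inv_mem hmU1) hmU2)]
        _ = _ := by group
    rw [hu12]
    exact mul_mem (mul_mem (inv_mem hm1) hm2) h12
  omega

end Cfg

end Cfsg.Lib.HaradaE8
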