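import Cfsg.Agent.Lib.HaradaE8.Basic
import Cfsg.Agent.Lib.PGroup.NormalStep

/-!
# Index bounds for subgroups containing the squares of a 2-subgroup

`N ≤ L` contains the squares of `L`; we bound `N.relIndex L` through the centralizer of a normal
elementary abelian subgroup of order eight.
-/

set_option autoImplicit false
set_option linter.style.haveILetI false

namespace Cfsg.Lib.HaradaE8

open Subgroup

universe u

variable {S : Type u} [Group S] [Finite S]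

theorem relIndex_pos (K X : Subgroup S) : 0 < K.relIndex X :=
  Nat.pos_of_ne_zero (index_ne_zero_of_finite (H := K.subgroupOf X))

theorem relIndex_pow (hS : IsPGroup 2 S) (K X : Subgroup S) : ∃ k, K.relIndex X = 2 ^ k := by
  haveI : Fact (Nat.Prime 2) := ⟨Nat.prime_two⟩
  exact (hS.to_subgroup X).index (K.subgroupOf X)

theorem eight_le_relIndex (hS : IsPGroup 2 S) {K X : Subgroup S} (h : 4 < K.relIndex X) : 8 ≤ K.relIndex X := by
  obtain ⟨k, hk⟩ := relIndex_pow hS K X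
  rw [hk] at h ⊢
  have : 2 < k := (Nat.pow_lt_pow_iff_right (by norm_num)).1 (show 2 ^ 2 < 2 ^ k from h)
  exact Nat.pow_le_pow_right (show 2 > 0 by norm_num) (show 3 ≤ k by omega)

theorem relIndex_le_two {K X : Subgroup S} (h : ∀ x ∈ X, ∀ y ∈ X, x ∉ K → y ∉ K → x⁻¹ * y ∈ K) :
    K.relIndex X ≤ 2 := by
  classical
  show Nat.card (↥X ⧸ K.subgroupOf X) ≤ 2
  by_cases hall : ∀ x ∈ X, x ∈ K
  · have h1 : K.relIndex X = 1 := relIndex_eq_one.2 hall
    exact le_of_eq_of_le h1 (by norm_num)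
  push Not at hall
  obtain ⟨x0, hx0, hx0K⟩ := hall
  refine le_trans (Nat.card_le_card_of_surjective
    (fun b : Bool => ((cond b ⟨x0, hx0⟩ 1 : X) : ↥X ⧸ K.subgroupOf X)) ?_)
    (by rw [Nat.card_eq_fintype_card, Fintype.card_bool])
  intro q
  obtain ⟨y, rfl⟩ := QuotientGroup.mk_surjective q
  by_cases hy : (y : S) ∈ K
  · refine ⟨false, QuotientGroup.eq.2 ?_⟩
    rw [mem_subgroupOf]
    simpa using hy
  · refine ⟨true, QuotientGroup.eq.2 ?_⟩
    rw [mem_subgroupOf]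
    exact h x0 hx0 y y.2 hx0K hy

theorem relIndex_le_mul (N U D : Subgroup S) : N.relIndex D ≤ N.relIndex (D ⊓ U) * U.relIndex D := by
  have h1 : (N ⊓ U).relIndex D = N.relIndex (D ⊓ U) * U.relIndex D := by
    rw [inf_comm D U, relIndex_inf_mul_relIndex]
  rw [← h1]
  have h2 := relIndex_mul_relIndex (N ⊓ U ⊓ D) (N ⊓ D) D (inf_le_inf_right D inf_le_left) inf_le_right
  rw [inf_relIndex_right, inf_relIndex_right] at h2
  rw [← h2]
  exact Nat.le_mul_of_pos_left _ (relIndex_pos _ _)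

theorem relIndex_le_mul_strict {N U L : Subgroup S} {n : S} (hn : n ∈ N) (hnL : n ∈ L) (hnU : n ∉ U) :
    2 * N.relIndex L ≤ N.relIndex (L ⊓ U) * U.relIndex L := by
  have h1 : (N ⊓ U).relIndex L = N.relIndex (L ⊓ U) * U.relIndex L := by
    rw [inf_comm L U, relIndex_inf_mul_relIndex]
  rw [← h1]
  have h2 := relIndex_mul_relIndex (N ⊓ U ⊓ L) (N ⊓ L) L (inf_le_inf_right L inf_le_left) inf_le_right
  rw [inf_relIndex_right, inf_relIndex_right] at h2
  rw [← h2]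
  refine Nat.mul_le_mul_right _ ?_
  by_contra h
  have h0 := relIndex_pos (N ⊓ U ⊓ L) (N ⊓ L)
  have h3 : (N ⊓ U ⊓ L).relIndex (N ⊓ L) = 1 := by omega
  exact hnU ((relIndex_eq_one.1 h3) ⟨hn, hnL⟩).1.2

/-- the squares of `L` lie in `N` -/
def SqIn (L N : Subgroup S) : Prop := ∀ x ∈ L, x ^ 2 ∈ N

theorem SqIn.comm {L N : Subgroup S} (h : SqIn L N) {x y : S} (hx : x ∈ L) (hy : y ∈ L) :
    x⁻¹ * (y * x * y⁻¹) ∈ N := by
  have e : x⁻¹ * (y * x * y⁻¹) = (x⁻¹) ^ 2 * (x * y) ^ 2 * (y⁻¹) ^ 2 := by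
    simp only [pow_two]; group
  rw [e]
  exact mul_mem (mul_mem (h _ (inv_mem hx)) (h _ (mul_mem hx hy))) (h _ (inv_mem hy))

theorem values_le {T : Type*} [DecidableEq T] (L K : Subgroup S) (v : S → T) (t : Finset T)
    (hv : ∀ l ∈ L, v l ∈ t) (hinj : ∀ l ∈ L, ∀ l' ∈ L, v l = v l' → l⁻¹ * l' ∈ K) :
    K.relIndex L ≤ t.card ∧ (t.card ≤ K.relIndex L → ∀ p ∈ t, ∃ l ∈ L, v l = p) := by
  classical
  let f : ↥L ⧸ K.subgroupOf L → {p // p ∈ t} := fun q => ⟨v (q.out : S), hv _ q.out.2⟩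
  have hf : Function.Injective f := by
    intro q r h
    rw [← q.out_eq', ← r.out_eq', QuotientGroup.eq, mem_subgroupOf]
    exact hinj _ q.out.2 _ r.out.2 (congrArg Subtype.val h :)
  have hc : Nat.card {p // p ∈ t} = t.card := by rw [Nat.card_eq_fintype_card, Fintype.card_coe]
  have hle := Nat.card_le_card_of_injective f hf
  rw [hc] at hle
  refine ⟨hle, fun h p hp => ?_⟩
  obtain ⟨q, hq⟩ := ((Nat.bijective_iff_injective_and_card f).2 ⟨hf, le_antisymm (hle.trans hc.ge) (hc.le.trans h)⟩).2 ⟨p, hp⟩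
  exact ⟨(q.out : S), q.out.2, congrArg Subtype.val hq⟩

theorem four_elems {W : Subgroup S} (hW : Nat.card W = 4) (hW2 : ∀ x ∈ W, x * x = 1) {x y : S}
    (hx : x ∈ W) (hy : y ∈ W) (hx1 : x ≠ 1) (hy1 : y ≠ 1) (hxy : x ≠ y) :
    ∀ t ∈ W, t = 1 ∨ t = x ∨ t = y ∨ t = x * y := by
  classical
  haveI : Fintype W := Fintype.ofFinite W
  intro t ht
  let P : Finset W := {1, ⟨x, hx⟩, ⟨y, hy⟩, ⟨x * y, mul_mem hx hy⟩}
  have n1 : (1 : W) ≠ ⟨x, hx⟩ := fun h => hx1 (congrArg Subtype.val h).symm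
  have n2 : (1 : W) ≠ ⟨y, hy⟩ := fun h => hy1 (congrArg Subtype.val h).symm
  have n3 : (1 : W) ≠ ⟨x * y, mul_mem hx hy⟩ := fun h => hxy (by
    have h' : (1 : S) = x * y := congrArg Subtype.val h
    calc x = x * (x * y) := by rw [← h', mul_one]
      _ = y := by rw [← mul_assoc, hW2 x hx, one_mul])
  have n4 : (⟨x, hx⟩ : W) ≠ ⟨y, hy⟩ := fun h => hxy (congrArg Subtype.val h)
  have n5 : (⟨x, hx⟩ : W) ≠ ⟨x * y, mul_mem hx hy⟩ := fun h =>
    hy1 (left_eq_mul.1 (congrArg Subtype.val h))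
  have n6 : (⟨y, hy⟩ : W) ≠ ⟨x * y, mul_mem hx hy⟩ := fun h =>
    hx1 (right_eq_mul.1 (congrArg Subtype.val h))
  have h4 : P.card = 4 := by
    rw [Finset.card_insert_of_notMem, Finset.card_insert_of_notMem, Finset.card_pair n6] <;>
      simp [n1, n2, n3, n4, n5]
  have hu : P = Finset.univ := Finset.eq_univ_of_card _ (by rw [h4, ← Nat.card_eq_fintype_card, hW])
  have hm : (⟨t, ht⟩ : W) ∈ P := hu ▸ Finset.mem_univ _
  simpa [P, Subtype.ext_iff] using hm

theorem two_cosets {W B : Subgroup S} (hWB : W ≤ B) (hc : Nat.card B = 2 * Nat.card W) {y : S}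
    (hy : y ∈ B) (hyW : y ∉ W) {x : S} (hx : x ∈ B) : x ∈ W ∨ y * x ∈ W := by
  have hi : (W.subgroupOf B).index = 2 := by
    have h := card_mul_index (W.subgroupOf B)
    rw [Nat.card_congr (subgroupOfEquivOfLe hWB).toEquiv, hc, mul_comm 2] at h
    exact Nat.eq_of_mul_eq_mul_left Nat.card_pos h
  by_cases hxW : x ∈ W
  · exact Or.inl hxW
  · right
    have h := (mul_mem_iff_of_index_two hi (a := (⟨y, hy⟩ : B)) (b := ⟨x, hx⟩)).2
      ⟨fun h => absurd h hyW, fun h => absurd h hxW⟩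
    exact h

/-- A flag in a normal elementary abelian subgroup of order eight. -/
theorem exists_flag (hS : IsPGroup 2 S) (B : Subgroup S) [B.Normal] (hB8 : Nat.card B = 8) :
    ∃ (z x2 x3 : S) (W : Subgroup S), W.Normal ∧ W ≤ B ∧ Nat.card W = 4 ∧ z ∈ W ∧ z ≠ 1 ∧
      (∀ g : S, g * z * g⁻¹ = z) ∧ x2 ∈ W ∧ x2 ≠ 1 ∧ z ≠ x2 ∧ x3 ∈ B ∧ x3 ∉ W := by
  haveI : Fact (Nat.Prime 2) := ⟨Nat.prime_two⟩
  obtain ⟨W, hWn, hWB, hW4⟩ := Cfsg.Lib.PGroup.NormalStep.exists_normal_le hS B 2 (by rw [hB8]; norm_num)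
  haveI := hWn
  have hW : W ≠ ⊥ := fun h => by rw [h, card_bot] at hW4; norm_num at hW4
  obtain ⟨z, hzW, hzc, hzo⟩ := Cfsg.Lib.PGroup.exists_mem_center_orderOf_eq hS hW
  have hz1 : z ≠ 1 := fun h => by rw [h, orderOf_one] at hzo; exact absurd hzo (by norm_num)
  obtain ⟨x2, hx2, hx2z⟩ : ∃ x2 ∈ W, x2 ≠ 1 ∧ z ≠ x2 := by
    by_contra h
    push Not at h
    have hle : W ≤ zpowers z := fun x hx => by
      by_cases hx1 : x = 1
      · rw [hx1]; exact one_mem _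
      · rw [← h x hx hx1]; exact mem_zpowers z
    have := card_dvd_of_le hle
    rw [hW4, Nat.card_zpowers, hzo] at this
    norm_num at this
  obtain ⟨x3, hx3, hx3W⟩ : ∃ x3 ∈ B, x3 ∉ W := by
    by_contra h
    push Not at h
    have := card_dvd_of_le (h : B ≤ W)
    rw [hB8, hW4] at this
    norm_num at this
  exact ⟨z, x2, x3, W, hWn, hWB, hW4, hzW, hz1,
    fun g => by rw [mem_center_iff.1 hzc g, mul_inv_cancel_right], hx2, hx2z.1, hx2z.2, hx3, hx3W⟩

theorem mem_centralizer_of_gens {B W : Subgroup S} (hWB : W ≤ B) (hc : Nat.card B = 2 * Nat.card W) {y : S}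
    (hy : y ∈ B) (hyW : y ∉ W) {h : S} (hW : ∀ w ∈ W, h * w = w * h) (hhy : h * y = y * h) :
    h ∈ centralizer (B : Set S) := by
  refine mem_centralizer_iff.2 fun x hx => ?_
  rcases two_cosets hWB hc hy hyW hx with h' | h'
  · exact (hW x h').symm
  · have hcm : Commute h (y * x) := hW _ h'
    have hcy : Commute h y⁻¹ := (show Commute h y from hhy).inv_right
    have := hcy.mul_right hcm
    rw [inv_mul_cancel_left] at this
    exact this.symm.eq

/-- The fundamental bound. -/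
theorem four_bound (hS : IsPGroup 2 S) (B : Subgroup S) [hBn : B.Normal] (hB8 : Nat.card B = 8)
    (hB2 : ∀ x ∈ B, x * x = 1) {L N : Subgroup S} (hNL : N ≤ L) (hsq : SqIn L N) :
    N.relIndex L ≤ N.relIndex (L ⊓ centralizer (B : Set S)) * 4 := by
  classical
  obtain ⟨z, x2, x3, W, hWn, hWB, hW4, hzW, hz1, hzc, hx2, hx21, hzx2, hx3, hx3W⟩ := exists_flag hS B hB8
  set C := centralizer (B : Set S)
  have hc : Nat.card B = 2 * Nat.card W := by rw [hB8, hW4]
  have hW2 : ∀ x ∈ W, x * x = 1 := fun x hx => hB2 x (hWB hx)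
  have hWel := four_elems hW4 hW2 hzW hx2 hz1 hx21 hzx2
  let v : S → S × S := fun l => (l * x2 * l⁻¹, l * x3 * l⁻¹)
  let t : Finset (S × S) := ({x2, z * x2} : Finset S) ×ˢ ({x3, x3 * z, x3 * x2, x3 * (z * x2)} : Finset S)
  have hv : ∀ l ∈ L, v l ∈ t := by
    intro l _
    have h1 : l * x2 * l⁻¹ = x2 ∨ l * x2 * l⁻¹ = z * x2 := by
      rcases hWel _ (hWn.conj_mem x2 hx2 l) with e | e | e | e
      · exact absurd (conj_eq_one_iff.1 e) hx21
      · exfalso
        rw [← hzc l] at e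
        exact hzx2 (mul_left_cancel (mul_right_cancel e)).symm
      · exact Or.inl e
      · exact Or.inr e
    have hnot : l * x3 * l⁻¹ ∉ W := fun h => hx3W (by
      have := hWn.conj_mem _ h l⁻¹
      rwa [inv_inv, show l⁻¹ * (l * x3 * l⁻¹) * l = x3 by group] at this)
    have h2 : x3 * (l * x3 * l⁻¹) ∈ W :=
      (two_cosets hWB hc hx3 hx3W (hBn.conj_mem x3 hx3 l)).resolve_left hnot
    have e3 : ∀ w : S, x3 * (l * x3 * l⁻¹) = w → l * x3 * l⁻¹ = x3 * w := fun w hw => by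
      rw [← hw, ← mul_assoc x3 x3, hB2 x3 hx3, one_mul]
    simp only [t, v, Finset.mem_product, Finset.mem_insert, Finset.mem_singleton]
    refine ⟨h1, ?_⟩
    rcases hWel _ h2 with e | e | e | e
    · exact Or.inl (by rw [e3 _ e, mul_one])
    · exact Or.inr (Or.inl (e3 _ e))
    · exact Or.inr (Or.inr (Or.inl (e3 _ e)))
    · exact Or.inr (Or.inr (Or.inr (e3 _ e)))
  have hinj : ∀ l ∈ L, ∀ l' ∈ L, v l = v l' → l⁻¹ * l' ∈ C := by
    intro l _ l' _ h
    have key : ∀ x, l * x * l⁻¹ = l' * x * l'⁻¹ → l⁻¹ * l' * x = x * (l⁻¹ * l') := fun x e => by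
      calc l⁻¹ * l' * x = l⁻¹ * (l' * x * l'⁻¹) * l' := by group
        _ = l⁻¹ * (l * x * l⁻¹) * l' := by rw [e]
        _ = x * (l⁻¹ * l') := by group
    refine mem_centralizer_of_gens hWB hc hx3 hx3W ?_ (key _ (Prod.ext_iff.1 h).2)
    intro w hw
    have hz' : l⁻¹ * l' * z = z * (l⁻¹ * l') := key _ (by rw [hzc, hzc])
    rcases hWel w hw with e | e | e | e <;> rw [e]
    · rw [mul_one, one_mul]
    · exact hz'
    · exact key _ (Prod.ext_iff.1 h).1
    · exact (Commute.mul_right (show Commute _ z from hz') (key _ (Prod.ext_iff.1 h).1)).eq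
  obtain ⟨hle, hall⟩ := values_le L C v t hv hinj
  have ht8 : t.card ≤ 8 := by
    rw [Finset.card_product]
    exact Nat.mul_le_mul Finset.card_le_two Finset.card_le_four
  have hmul := relIndex_le_mul N C L
  obtain ⟨k, hk⟩ := relIndex_pow hS C L
  rcases Nat.lt_or_ge (C.relIndex L) 8 with h | h
  · refine hmul.trans (Nat.mul_le_mul_left _ ?_)
    rw [hk] at h ⊢
    have : k < 3 := (Nat.pow_lt_pow_iff_right (by norm_num)).1 (show 2 ^ k < 2 ^ 3 from h)
    exact Nat.pow_le_pow_right (by norm_num) (show k ≤ 2 by omega)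
  · have heq : C.relIndex L = 8 := le_antisymm (hle.trans ht8) h
    suffices hn : ∃ n ∈ N, n ∉ C by
      obtain ⟨n, hn, hnC⟩ := hn
      have := relIndex_le_mul_strict hn (hNL hn) hnC
      rw [heq] at this
      omega
    by_contra hcon
    push Not at hcon
    have hall' := hall (ht8.trans h)
    obtain ⟨h1, h1L, e1⟩ := hall' (z * x2, x3) (by simp [t])
    obtain ⟨h2, h2L, e2⟩ := hall' (x2, x3 * x2) (by simp [t])
    obtain ⟨a1, b1⟩ := Prod.ext_iff.1 e1
    obtain ⟨a2, b2⟩ := Prod.ext_iff.1 e2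
    simp only [v] at a1 b1 a2 b2
    have hc0 := hcon _ (hsq.comm h1L h2L)
    have hx := mem_centralizer_iff.1 hc0 x3 hx3
    -- evaluate both products on `x3`
    have eA : h1 * h2 * x3 * (h1 * h2)⁻¹ = x3 * (z * x2) := by
      calc h1 * h2 * x3 * (h1 * h2)⁻¹ = h1 * (h2 * x3 * h2⁻¹) * h1⁻¹ := by group
        _ = (h1 * x3 * h1⁻¹) * (h1 * x2 * h1⁻¹) := by rw [b2]; group
        _ = _ := by rw [a1, b1]
    have eB : h2 * h1 * x3 * (h2 * h1)⁻¹ = x3 * x2 := by
      calc h2 * h1 * x3 * (h2 * h1)⁻¹ = h2 * (h1 * x3 * h1⁻¹) * h2⁻¹ := by group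
        _ = _ := by rw [b1, b2]
    have e : h2 * h1 * x3 * (h2 * h1)⁻¹ = h1 * h2 * x3 * (h1 * h2)⁻¹ := by
      calc h2 * h1 * x3 * (h2 * h1)⁻¹
          = h1 * ((h1⁻¹ * (h2 * h1 * h2⁻¹)) * (h2 * x3 * h2⁻¹) * (h1⁻¹ * (h2 * h1 * h2⁻¹))⁻¹) * h1⁻¹ := by group
        _ = h1 * (h2 * x3 * h2⁻¹) * h1⁻¹ := by
          rw [← mem_centralizer_iff.1 hc0 _ (hBn.conj_mem x3 hx3 h2), mul_inv_cancel_right]
        _ = _ := by group
    rw [eA, eB] at e
    exact hz1 (right_eq_mul.1 (mul_left_cancel e))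

/-- The case in which the normal subgroup is self-centralizing. -/
theorem self_centralizing_bound (hS : IsPGroup 2 S) (B : Subgroup S) [hBn : B.Normal] (hB8 : Nat.card B = 8)
    (hB2 : ∀ x ∈ B, x * x = 1) (hCB : centralizer (B : Set S) ≤ B)
    {L N : Subgroup S} (hNL : N ≤ L) (hsq : SqIn L N) : N.relIndex L ≤ 16 := by
  set C := centralizer (B : Set S)
  have hcm : ∀ x ∈ B, ∀ y ∈ B, x * y = y * x := fun x hx y hy => by
    have e : ∀ t ∈ B, t⁻¹ = t := fun t ht => inv_eq_of_mul_eq_one_right (hB2 t ht)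
    rw [← e _ (mul_mem hx hy), mul_inv_rev, e x hx, e y hy]
  have hD : ∀ x ∈ L ⊓ C, x ∈ B := fun x hx => hCB hx.2
  obtain ⟨h8, heq⟩ := rank_three (X := L ⊓ C) (B := B) (N := N) hS hB8.le
    (fun x hx y hy => hcm x (hD x hx) y (hD y hy)) (fun x hx _ => hD x hx) (fun x hx => hsq x hx.1)
  by_cases h : N.relIndex (L ⊓ C) ≤ 4
  · exact (four_bound hS B hB8 hB2 hNL hsq).trans (Nat.mul_le_mul_right 4 h)
  push Not at h
  obtain ⟨hBX, hNX⟩ := heq (eight_le_relIndex hS h)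
  have hLC : L ≤ C := fun l hl => mem_centralizer_iff.2 fun x hx => by
    have hxX : x ∈ L ⊓ C := hBX hx
    have hm : x⁻¹ * (l * x * l⁻¹) ∈ B := mul_mem (inv_mem hx) (hBn.conj_mem x hx l)
    obtain ⟨y, hy, e⟩ := hNX _ (hsq.comm hxX.1 hl) (hBX hm)
    rw [hB2 y (hD y hy)] at e
    exact (mul_inv_eq_iff_eq_mul.1 (inv_mul_eq_one.1 e.symm).symm).symm
  have := relIndex_le_mul N C L
  rw [relIndex_eq_one.2 hLC, mul_one] at this
  omega

end Cfsg.Lib.HaradaE8
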